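import Cfsg.Agent.OddHalf.D4.U3.Defs
import Cfsg.Agent.OddHalf.D4.U3.Zeta
import Cfsg.Agent.OddHalf.D4.U3.SwapOne
import Cfsg.Agent.OddHalf.D4.U3.TransCore
import Cfsg.Agent.OddHalf.D4.U3.TypesOf
import Cfsg.Agent.OddHalf.D4.RkEnd.End

-- merged: Cfsg.Agent.OddHalf.D4.U3.Inv
section

/-!
# ODD, D4, row `K = U₃(q)`: the action of `N(P)` on `Z`, and the conjugates of `V` and `E` (PIECE A of #14847)

* `exists_zeta`: `x ∈ N(P)` acts on `Z` by an additive bijection `ζ` of `F_q`, which transforms the square form and the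
  commutator form of `P`; `cj_Z`;
* `cj_V`, `cj_E`: the conjugates of `V` and `E` under `N(P)`;
* `W_inj`, `W_ne_E`, `V_ne_E`, `cj_h_W`, `cj_h_V`, `cj_h_E`, `cj_h_S`, `partner`, `V_inf_E`.
-/

set_option autoImplicit false
set_option linter.unusedSectionVars false

namespace Cfsg.Agent.OddHalf.D4.U3.Defs

open Subgroup Cfsg.Agent.StdU3.Field Cfsg.Agent.StdU3.PreDef Cfsg.Agent.OddHalf.D4.CommConj
  Cfsg.Agent.OddHalf.D4.Basic

universe u v

variable {G : Type u} [Group G] {F : Type v} [Field F] [Fintype F] [CharP F 2] {n : ℕ}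

/-! ### Conjugation -/

theorem cj_inv_eq {x : G} {X Y : Subgroup G} (h : cj x X = Y) : cj x⁻¹ Y = X := by
  rw [← h, ← cj_mul, inv_mul_cancel]
  ext g; rw [mem_cj]; simp

theorem cj_mem {x g : G} {X Y : Subgroup G} (h : cj x X = Y) (hg : g ∈ X) : x * g * x⁻¹ ∈ Y := by
  rw [← h]; exact mem_cj_mul hg

theorem cj_mem_iff {x g : G} {X Y : Subgroup G} (h : cj x X = Y) : x * g * x⁻¹ ∈ Y ↔ g ∈ X := by
  rw [← h, mem_cj]
  have e : x⁻¹ * (x * g * x⁻¹) * x = g := by group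
  rw [e]

theorem cj_eq_of {x : G} {X Y : Subgroup G} (h : ∀ g ∈ X, x * g * x⁻¹ ∈ Y) (h' : ∀ g ∈ Y, x⁻¹ * g * x ∈ X) :
    cj x X = Y := by
  ext g
  rw [mem_cj]
  refine ⟨fun hg => ?_, h' g⟩
  have := h _ hg
  have e : x * (x⁻¹ * g * x) * x⁻¹ = g := by group
  rwa [e] at this

namespace Chart

variable (D : Chart G F n)

/-- the square form -/
def sqf (p : G) : F := N n (D.a p) + D.kap * D.c p + D.c p * D.f p

/-- the commutator form -/
def bil (p p' : G) : F := Tr n (D.a p * bar n (D.a p')) + (D.c p * D.f p' + D.c p' * D.f p)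

variable {D}

theorem fix_f {p : G} (hp : p ∈ D.P) : bar n (D.f p) = D.f p := D.fix_Phi _ (D.f_mem p hp)

theorem fix_sqf {p : G} (hp : p ∈ D.P) : bar n (D.sqf p) = D.sqf p :=
  fixed_add (fixed_add (fixed_N D.hq _) (fixed_mul D.fix_kap (D.fix_c p hp))) (fixed_mul (D.fix_c p hp) (fix_f hp))

theorem fix_bil {p p' : G} (hp : p ∈ D.P) (hp' : p' ∈ D.P) : bar n (D.bil p p') = D.bil p p' :=
  fixed_add (fixed_Tr D.hq _) (fixed_add (fixed_mul (D.fix_c p hp) (fix_f hp')) (fixed_mul (D.fix_c p' hp') (fix_f hp)))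

theorem sq' {p : G} (hp : p ∈ D.P) : p * p = D.z (D.sqf p) := D.sq p hp

theorem comm' {p p' : G} (hp : p ∈ D.P) (hp' : p' ∈ D.P) : p * p' = D.z (D.bil p p') * (p' * p) :=
  D.comm p hp p' hp'

theorem z_inj' {b b' : F} (hb : bar n b = b) (hb' : bar n b' = b') (h : D.z b = D.z b') : b = b' := by
  have h1 : D.z (b + b') = 1 := by
    rw [D.z_add b b' hb hb', h, ← D.z_add b' b' hb' hb', Cfsg.Agent.StdU3.Field.add_self, D.z_zero]
  exact Cfsg.Agent.StdU3.Field.add_eq_zero.mp (D.z_inj _ (fixed_add hb hb') h1)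

theorem z_mem_Z {b : F} (hb : bar n b = b) : D.z b ∈ D.Z := ⟨b, hb, rfl⟩

theorem Z_le : D.Z ≤ D.P := by
  rintro _ ⟨b, hb, rfl⟩
  exact D.z_mem b hb

theorem mem_Z_iff {x : G} (hx : x ∈ D.P) : x ∈ D.Z ↔ D.a x = 0 ∧ D.c x = 0 ∧ D.f x = 0 := by
  constructor
  · rintro ⟨b, hb, rfl⟩
    exact ⟨D.a_z b hb, D.c_z b hb, D.f_z b hb⟩
  · rintro ⟨h1, h2, h3⟩
    obtain ⟨b, hb, e⟩ := D.ker x hx h1 h2 h3
    exact ⟨b, hb, e⟩

theorem sq_eq_one {p : G} (hp : p ∈ D.P) : p * p = 1 ↔ D.sqf p = 0 := by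
  rw [sq' hp]
  refine ⟨D.z_inj _ (fix_sqf hp), fun h => ?_⟩
  rw [h, D.z_zero]

theorem comm_iff {p p' : G} (hp : p ∈ D.P) (hp' : p' ∈ D.P) : p * p' = p' * p ↔ D.bil p p' = 0 := by
  rw [comm' hp hp']
  constructor
  · intro h
    exact D.z_inj _ (fix_bil hp hp') (mul_eq_right.1 h)
  · intro h
    rw [h, D.z_zero, one_mul]

/-- `z b` is central -/
theorem z_comm {b : F} (hb : bar n b = b) {p : G} (hp : p ∈ D.P) : D.z b * p = p * D.z b := by
  rw [comm_iff (D.z_mem b hb) hp, bil, D.a_z b hb, D.c_z b hb, D.f_z b hb, zero_mul, zero_mul, mul_zero, add_zero,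
    Tr_zero, add_zero]

/-- elements of `Z` are commutators of elements of `S` -/
theorem exists_comm {b : F} (hb : bar n b = b) : ∃ s ∈ D.S, ∃ s' ∈ D.S, D.bil s s' = b := by
  obtain ⟨y, hy⟩ := exists_Tr_eq D.hq one_ne_zero hb
  obtain ⟨s, hs, a1, c1, f1⟩ := D.surj 1 0 0 (bar_zero n) D.Phi.zero_mem
  obtain ⟨s', hs', a2, c2, f2⟩ := D.surj y 0 0 (bar_zero n) D.Phi.zero_mem
  refine ⟨s, ⟨hs, c1, f1⟩, s', ⟨hs', c2, f2⟩, ?_⟩
  rw [bil, a1, a2, c1, c2, zero_mul, zero_mul, add_zero, add_zero, hy]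

theorem Z_cj_aux {x : G} (hx : cj x D.P = D.P) {b : F} (hb : bar n b = b) :
    ∃ b', bar n b' = b' ∧ x * D.z b * x⁻¹ = D.z b' := by
  obtain ⟨s, hs, s', hs', e⟩ := exists_comm (D := D) hb
  have m1 := cj_mem hx hs.1
  have m2 := cj_mem hx hs'.1
  refine ⟨D.bil (x * s * x⁻¹) (x * s' * x⁻¹), fix_bil m1 m2, ?_⟩
  have h1 := comm' hs.1 hs'.1
  have h2 := comm' m1 m2
  rw [e] at h1
  have h3 : x * D.z b * x⁻¹ * ((x * s' * x⁻¹) * (x * s * x⁻¹)) =
      D.z (D.bil (x * s * x⁻¹) (x * s' * x⁻¹)) * ((x * s' * x⁻¹) * (x * s * x⁻¹)) := by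
    rw [← h2]
    have : x * D.z b * x⁻¹ * ((x * s' * x⁻¹) * (x * s * x⁻¹)) = x * (D.z b * (s' * s)) * x⁻¹ := by group
    rw [this, ← h1]
    group
  exact mul_right_cancel h3

theorem cj_Z {x : G} (hx : cj x D.P = D.P) : cj x D.Z = D.Z := by
  refine cj_eq_of ?_ ?_
  · rintro _ ⟨b, hb, rfl⟩
    obtain ⟨b', hb', e⟩ := Z_cj_aux hx hb
    exact ⟨b', hb', e⟩
  · rintro _ ⟨b, hb, rfl⟩
    obtain ⟨b', hb', e⟩ := Z_cj_aux (cj_inv_eq hx) hb
    rw [inv_inv] at e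
    exact ⟨b', hb', e⟩

end Chart

/-- the action of `x ∈ N(P)` on `Z` and on the forms -/
structure Zeta (D : Chart G F n) (x : G) (ζ : F → F) : Prop where
  z : ∀ b, bar n b = b → x * D.z b * x⁻¹ = D.z (ζ b)
  fix : ∀ b, bar n b = b → bar n (ζ b) = ζ b
  add : ∀ b b', bar n b = b → bar n b' = b' → ζ (b + b') = ζ b + ζ b'
  inj : ∀ b b', bar n b = b → bar n b' = b' → ζ b = ζ b' → b = b'
  surj : ∀ b, bar n b = b → ∃ b', bar n b' = b' ∧ ζ b' = b
  sqf : ∀ p ∈ D.P, D.sqf (x * p * x⁻¹) = ζ (D.sqf p)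
  bil : ∀ p ∈ D.P, ∀ p' ∈ D.P, D.bil (x * p * x⁻¹) (x * p' * x⁻¹) = ζ (D.bil p p')

theorem Zeta.zero {D : Chart G F n} {x : G} {ζ : F → F} (h : Zeta D x ζ) : ζ 0 = 0 := by
  have h1 := h.add 0 0 (bar_zero n) (bar_zero n)
  rw [add_zero] at h1
  exact left_eq_add.mp h1

theorem Zeta.eq_zero {D : Chart G F n} {x : G} {ζ : F → F} (h : Zeta D x ζ) {b : F} (hb : bar n b = b)
    (h0 : ζ b = 0) : b = 0 := h.inj b 0 hb (bar_zero n) (by rw [h0, h.zero])

/-- **`exists_zeta`** -/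
theorem exists_zeta (D : Chart G F n) {x : G} (hx : cj x D.P = D.P) : ∃ ζ : F → F, Zeta D x ζ := by
  classical
  choose! ζ h1 h2 using fun (b : F) (hb : bar n b = b) => Chart.Z_cj_aux hx hb
  have inj : ∀ b b', bar n b = b → bar n b' = b' → ζ b = ζ b' → b = b' := by
    intro b b' hb hb' e
    have e1 : x * D.z b * x⁻¹ = x * D.z b' * x⁻¹ := by rw [h2 b hb, h2 b' hb', e]
    exact Chart.z_inj' hb hb' (mul_left_cancel (mul_right_cancel e1))
  refine ⟨ζ, h2, h1, ?_, inj, ?_, ?_, ?_⟩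
  · intro b b' hb hb'
    apply Chart.z_inj' (D := D) (h1 _ (fixed_add hb hb')) (fixed_add (h1 b hb) (h1 b' hb'))
    rw [← h2 _ (fixed_add hb hb'), D.z_add b b' hb hb', D.z_add _ _ (h1 b hb) (h1 b' hb'), ← h2 b hb, ← h2 b' hb']
    group
  · intro b hb
    have h3 : D.z b ∈ cj x D.Z := by rw [Chart.cj_Z hx]; exact Chart.z_mem_Z hb
    rw [mem_cj] at h3
    obtain ⟨b', hb', e⟩ := h3
    refine ⟨b', hb', ?_⟩
    apply Chart.z_inj' (D := D) (h1 b' hb') hb
    rw [← h2 b' hb', ← e]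
    group
  · intro p hp
    have m := cj_mem hx hp
    apply Chart.z_inj' (D := D) (Chart.fix_sqf m) (h1 _ (Chart.fix_sqf hp))
    rw [← Chart.sq' m, ← h2 _ (Chart.fix_sqf hp), ← Chart.sq' hp]
    group
  · intro p hp p' hp'
    have m := cj_mem hx hp
    have m' := cj_mem hx hp'
    apply Chart.z_inj' (D := D) (Chart.fix_bil m m') (h1 _ (Chart.fix_bil hp hp'))
    rw [← h2 _ (Chart.fix_bil hp hp')]
    have e1 := Chart.comm' m m'
    have e2 := Chart.comm' hp hp'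
    have e3 : D.z (D.bil (x * p * x⁻¹) (x * p' * x⁻¹)) * ((x * p' * x⁻¹) * (x * p * x⁻¹)) =
        x * D.z (D.bil p p') * x⁻¹ * ((x * p' * x⁻¹) * (x * p * x⁻¹)) := by
      rw [← e1]
      have : x * D.z (D.bil p p') * x⁻¹ * ((x * p' * x⁻¹) * (x * p * x⁻¹)) =
        x * (D.z (D.bil p p') * (p' * p)) * x⁻¹ := by group
      rw [this, ← e2]
      group
    exact mul_right_cancel e3

namespace Chart

variable {D : Chart G F n}

/-! ### The subgroups -/

theorem S_le : D.S ≤ D.P := fun _ h => h.1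
theorem T1_le : D.T1 ≤ D.P := fun _ h => h.1
theorem E_le : D.E ≤ D.P := fun _ h => h.1
theorem V_le : D.V ≤ D.P := fun _ h => h.1
theorem W_le (A : F) : D.W A ≤ D.P := fun _ h => h.1

theorem Z_le_S : D.Z ≤ D.S := by
  rintro _ ⟨b, hb, rfl⟩
  exact ⟨D.z_mem b hb, D.c_z b hb, D.f_z b hb⟩

theorem Z_le_E : D.Z ≤ D.E := by
  rintro _ ⟨b, hb, rfl⟩
  exact ⟨D.z_mem b hb, D.a_z b hb, D.f_z b hb⟩

theorem Z_le_T1 : D.Z ≤ D.T1 := by
  rintro _ ⟨b, hb, rfl⟩
  exact ⟨D.z_mem b hb, D.a_z b hb⟩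

theorem Z_le_W (A : F) : D.Z ≤ D.W A := by
  rintro _ ⟨b, hb, rfl⟩
  exact ⟨D.z_mem b hb, by rw [D.a_z b hb, D.f_z b hb, zero_mul], by rw [D.c_z b hb, D.f_z b hb, zero_mul]⟩

theorem Z_le_V : D.Z ≤ D.V := by rw [← W_zero]; exact Z_le_W 0

theorem V_le_T1 : D.V ≤ D.T1 := fun _ h => ⟨h.1, h.2.1⟩
theorem E_le_T1 : D.E ≤ D.T1 := fun _ h => ⟨h.1, h.2.1⟩

theorem V_inf_E : D.V ⊓ D.E = D.Z := by
  ext x
  rw [mem_inf]
  constructor
  · rintro ⟨h1, h2⟩
    exact (mem_Z_iff h1.1).2 ⟨h1.2.1, h1.2.2, h2.2.2⟩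
  · intro h; exact ⟨Z_le_V h, Z_le_E h⟩

/-- an element of `V_A` with given `f`-coordinate -/
theorem exists_W (A : F) {φ : F} (hφ : φ ∈ D.Phi) : ∃ x ∈ D.W A, D.f x = φ := by
  obtain ⟨x, hx, h1, h2, h3⟩ := D.surj (φ * A) (φ * N n A) φ
    (fixed_mul (D.fix_Phi φ hφ) (fixed_N D.hq A)) hφ
  exact ⟨x, ⟨hx, by rw [h1, h3], by rw [h2, h3]⟩, h3⟩

theorem exists_V {φ : F} (hφ : φ ∈ D.Phi) : ∃ x ∈ D.V, D.f x = φ := by
  obtain ⟨x, hx, h⟩ := exists_W (D := D) 0 hφ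
  rw [W_zero] at hx
  exact ⟨x, hx, h⟩

theorem exists_E {γ : F} (hγ : bar n γ = γ) : ∃ x ∈ D.E, D.c x = γ := by
  obtain ⟨x, hx, h1, h2, h3⟩ := D.surj 0 γ 0 hγ D.Phi.zero_mem
  exact ⟨x, ⟨hx, h1, h3⟩, h2⟩

theorem exists_S (α : F) : ∃ x ∈ D.S, D.a x = α := by
  obtain ⟨x, hx, h1, h2, h3⟩ := D.surj α 0 0 (bar_zero n) D.Phi.zero_mem
  exact ⟨x, ⟨hx, h2, h3⟩, h1⟩

theorem W_inj {A A' : F} (h : D.W A = D.W A') : A = A' := by
  obtain ⟨x, hx, h1⟩ := exists_W (D := D) A D.one_mem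
  have h2 : x ∈ D.W A' := by rw [← h]; exact hx
  have e1 := hx.2.1
  have e2 := h2.2.1
  rw [h1, one_mul] at e1 e2
  rw [← e1, e2]

theorem W_ne_E (A : F) : D.W A ≠ D.E := by
  intro h
  obtain ⟨x, hx, h1⟩ := exists_W (D := D) A D.one_mem
  rw [h] at hx
  exact one_ne_zero (h1.symm.trans hx.2.2)

theorem V_ne_E : D.V ≠ D.E := by rw [← W_zero]; exact W_ne_E 0

theorem W_ne_V {A : F} (hA : A ≠ 0) : D.W A ≠ D.V := by
  rw [← W_zero]; exact fun h => hA (W_inj h)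

/-- elements of `V_A` modulo `Z` are determined by `f` -/
theorem mem_Z_of_W {A : F} {x : G} (hx : x ∈ D.W A) (hf : D.f x = 0) : x ∈ D.Z := by
  refine (mem_Z_iff hx.1).2 ⟨?_, ?_, hf⟩
  · rw [hx.2.1, hf, zero_mul]
  · rw [hx.2.2, hf, zero_mul]

theorem mem_Z_of_E {x : G} (hx : x ∈ D.E) (hc : D.c x = 0) : x ∈ D.Z :=
  (mem_Z_iff hx.1).2 ⟨hx.2.1, hc, hx.2.2⟩

/-! ### Involutions commuting with an involution -/

/-- the involutions of `P` commuting with `u` -/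
def cs (D : Chart G F n) (u : G) : Set G := {t | t ∈ D.P ∧ t * t = 1 ∧ t * u = u * t}

/-- `M` is the set of involutions commuting with `u`, for all `u ∈ M - Z` -/
structure Sel (D : Chart G F n) (M : Subgroup G) : Prop where
  Z_le : D.Z ≤ M
  cs : ∀ u ∈ M, u ∉ D.Z → (M : Set G) = D.cs u

theorem Sel.cj {M : Subgroup G} (h : Sel D M) {x : G} (hx : CommConj.cj x D.P = D.P) :
    Sel D (CommConj.cj x M) where
  Z_le := by
    rw [← cj_Z hx]
    exact map_mono h.Z_le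
  cs := by
    intro u hu huZ
    rw [mem_cj] at hu
    have h1 : x⁻¹ * u * x ∉ D.Z := by
      intro h1
      apply huZ
      rw [← cj_Z hx, mem_cj]
      exact h1
    have h2 := h.cs _ hu h1
    ext t
    have h3 : t ∈ (CommConj.cj x M : Set G) ↔ x⁻¹ * t * x ∈ (M : Set G) := mem_cj
    rw [h3, h2]
    have h4 : x⁻¹ * t * x ∈ D.P ↔ t ∈ D.P := by
      rw [← mem_cj, hx]
    have h5 : x⁻¹ * t * x * (x⁻¹ * t * x) = 1 ↔ t * t = 1 := by
      have e : x⁻¹ * t * x * (x⁻¹ * t * x) = x⁻¹ * (t * t) * x := by group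
      rw [e]
      constructor
      · intro h6
        have : t * t = x * (x⁻¹ * (t * t) * x) * x⁻¹ := by group
        rw [this, h6]; group
      · intro h6; rw [h6]; group
    have h6 : x⁻¹ * t * x * (x⁻¹ * u * x) = x⁻¹ * u * x * (x⁻¹ * t * x) ↔ t * u = u * t := by
      have e : x⁻¹ * t * x * (x⁻¹ * u * x) = x⁻¹ * (t * u) * x := by group
      have e' : x⁻¹ * u * x * (x⁻¹ * t * x) = x⁻¹ * (u * t) * x := by group
      rw [e, e']
      constructor
      · intro h6; exact mul_left_cancel (mul_right_cancel h6)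
      · intro h6; rw [h6]
    show x⁻¹ * t * x ∈ D.P ∧ _ ∧ _ ↔ t ∈ D.P ∧ _ ∧ _
    rw [h4, h5, h6]

theorem Sel.sq {M : Subgroup G} (h : Sel D M) {u : G} (hu : u ∈ M) (huZ : u ∉ D.Z) : u * u = 1 := by
  have : u ∈ (M : Set G) := hu
  rw [h.cs u hu huZ] at this
  exact this.2.1

theorem Sel.comm {M : Subgroup G} (h : Sel D M) {u t t' : G} (hu : u ∈ M) (huZ : u ∉ D.Z) (ht : t ∈ D.cs u)
    (ht' : t' ∈ D.cs u) : t * t' = t' * t := by
  have h1 := h.cs u hu huZ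
  have m1 : t ∈ (M : Set G) := by rw [h1]; exact ht
  have m2 : t' ∈ (M : Set G) := by rw [h1]; exact ht'
  by_cases hz : t' ∈ D.Z
  · obtain ⟨b, hb, rfl⟩ := hz
    exact (z_comm hb ht.1).symm
  · rw [h.cs t' m2 hz] at m1
    exact m1.2.2

theorem mem_cs {u t : G} (hu : u ∈ D.P) (ht : t ∈ D.P) : t ∈ D.cs u ↔ D.sqf t = 0 ∧ D.bil t u = 0 := by
  rw [← sq_eq_one ht, ← comm_iff ht hu]
  exact ⟨fun h => h.2, fun h => ⟨ht, h⟩⟩

/-- `V` has the property. -/
theorem sel_V : Sel D D.V where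
  Z_le := Z_le_V
  cs := by
    intro u hu huZ
    have hf : D.f u ≠ 0 := fun h0 => huZ ((mem_Z_iff hu.1).2 ⟨hu.2.1, hu.2.2, h0⟩)
    ext t
    constructor
    · intro ht
      have ht' : t ∈ D.V := ht
      rw [mem_cs hu.1 ht'.1, sqf, bil, ht'.2.1, ht'.2.2, hu.2.1, hu.2.2]
      simp [N_zero, Tr_zero]
    · intro ht
      have hP := ht.1
      rw [mem_cs hu.1 hP, sqf, bil, hu.2.1, hu.2.2, bar_zero, mul_zero, Tr_zero, zero_mul, zero_add, add_zero] at ht
      have hc : D.c t = 0 := (mul_eq_zero.1 ht.2).resolve_right hf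
      have ha : D.a t = 0 := by
        have := ht.1
        rw [hc, mul_zero, zero_mul, add_zero, add_zero] at this
        exact N_eq_zero this
      exact (⟨hP, ha, hc⟩ : t ∈ D.V)

/-- `E` has the property if `κ = 0`. -/
theorem sel_E (hk : D.kap = 0) : Sel D D.E where
  Z_le := Z_le_E
  cs := by
    intro u hu huZ
    have hc : D.c u ≠ 0 := fun h0 => huZ (mem_Z_of_E hu h0)
    ext t
    constructor
    · intro ht
      have ht' : t ∈ D.E := ht
      rw [mem_cs hu.1 ht'.1, sqf, bil, ht'.2.1, ht'.2.2, hu.2.1, hu.2.2, hk]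
      simp [N_zero, Tr_zero]
    · intro ht
      have hP := ht.1
      rw [mem_cs hu.1 hP, sqf, bil, hu.2.1, hu.2.2, hk, bar_zero, mul_zero, Tr_zero, mul_zero, zero_mul, zero_add,
        zero_add, add_zero] at ht
      have hf : D.f t = 0 := (mul_eq_zero.1 ht.2).resolve_left hc
      have ha : D.a t = 0 := by
        have := ht.1
        rw [hf, mul_zero, add_zero] at this
        exact N_eq_zero this
      exact (⟨hP, ha, hf⟩ : t ∈ D.E)

/-- `κ = 0`: the involutions commuting with an involution -/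
theorem cs_eq (hk : D.kap = 0) {u : G} (hu : u ∈ D.P) (huZ : u ∉ D.Z) (h2 : u * u = 1) :
    (∃ A : F, D.cs u = (D.W A : Set G)) ∨ D.cs u = (D.E : Set G) := by
  rw [sq_eq_one hu, sqf, hk, zero_mul, add_zero] at h2
  have ff := fix_f hu
  by_cases hf : D.f u = 0
  · right
    rw [hf, mul_zero, add_zero] at h2
    have ha := N_eq_zero h2
    have hE : u ∈ D.E := ⟨hu, ha, hf⟩
    exact ((sel_E hk).cs u hE huZ).symm
  · left
    refine ⟨D.a u / D.f u, ?_⟩
    set A := D.a u / D.f u with hA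
    have e1 : D.a u = D.f u * A := by rw [hA, mul_div_cancel₀ _ hf]
    have e2 : D.c u = D.f u * N n A := by
      have h3 : D.f u * D.c u = D.f u * (D.f u * N n A) := by
        have h4 : N n (D.a u) = D.f u * (D.f u * N n A) := by
          rw [e1, N_mul, N_of_fixed ff]; ring
        rw [← h4]
        have := Cfsg.Agent.StdU3.Field.add_eq_zero.mp h2
        rw [this]; ring
      exact mul_left_cancel₀ hf h3
    ext t
    constructor
    · intro ht
      have hP := ht.1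
      rw [mem_cs hu hP, sqf, bil, hk, zero_mul, add_zero, e1, e2] at ht
      have ft := fix_f hP
      have h5 : Tr n (D.a t * bar n (D.f u * A)) = D.f u * Tr n (D.a t * bar n A) := by
        rw [bar_mul, ff, ← Tr_mul_fixed ff]; congr 1; ring
      have h6 : Tr n (D.a t * bar n A) + D.c t + N n A * D.f t = 0 := by
        have h7 := ht.2
        rw [h5] at h7
        have h8 : D.f u * (Tr n (D.a t * bar n A) + D.c t + N n A * D.f t) = 0 := by
          rw [← h7]; ring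
        exact (mul_eq_zero.1 h8).resolve_left hf
      have h9 : N n (D.a t + D.f t * A) = 0 := by
        rw [N_add' D.hq, N_mul, N_of_fixed ft]
        have h10 : Tr n (D.a t * bar n (D.f t * A)) = D.f t * Tr n (D.a t * bar n A) := by
          rw [bar_mul, ft, ← Tr_mul_fixed ft]; congr 1; ring
        rw [h10]
        have h11 := Cfsg.Agent.StdU3.Field.add_eq_zero.mp ht.1
        rw [h11]
        calc D.c t * D.f t + D.f t ^ 2 * N n A + D.f t * Tr n (D.a t * bar n A)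
            = D.f t * (Tr n (D.a t * bar n A) + D.c t + N n A * D.f t) := by ring
          _ = 0 := by rw [h6, mul_zero]
      have h12 : D.a t = D.f t * A := Cfsg.Agent.StdU3.Field.add_eq_zero.mp (N_eq_zero h9)
      refine (⟨hP, h12, ?_⟩ : t ∈ D.W A)
      have h13 : Tr n (D.a t * bar n A) = 0 := by
        rw [h12, mul_assoc, Tr_mul_fixed ft, Tr_self D.hq, mul_zero]
      rw [h13, zero_add] at h6
      rw [Cfsg.Agent.StdU3.Field.add_eq_zero.mp h6]; ring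
    · intro ht
      have ht' : t ∈ D.W A := ht
      rw [mem_cs hu ht'.1, sqf, bil, hk, ht'.2.1, ht'.2.2, e1, e2]
      have ft := fix_f ht'.1
      refine ⟨?_, ?_⟩
      · rw [N_mul, N_of_fixed ft, zero_mul, add_zero]
        have : D.f t ^ 2 * N n A + D.f t * N n A * D.f t = D.f t ^ 2 * N n A + D.f t ^ 2 * N n A := by ring
        rw [this, Cfsg.Agent.StdU3.Field.add_self]
      · have h5 : Tr n (D.f t * A * bar n (D.f u * A)) = 0 := by
          have : D.f t * A * bar n (D.f u * A) = (D.f t * D.f u) * (A * bar n A) := by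
            rw [bar_mul, ff]; ring
          rw [this, Tr_mul_fixed (fixed_mul ft ff), Tr_self D.hq, mul_zero]
        rw [h5, zero_add]
        have : D.f t * N n A * D.f u + D.f u * N n A * D.f t = D.f t * N n A * D.f u + D.f t * N n A * D.f u := by ring
        rw [this, Cfsg.Agent.StdU3.Field.add_self]

/-! ### Conjugates of `V` and `E` -/

theorem exists_Phi (k : F) : ∃ φ ∈ D.Phi, φ ≠ 0 ∧ φ ≠ k := by
  classical
  by_contra hcon
  push Not at hcon
  have h1 : (D.Phi : Set F) ⊆ {0, k} := by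
    intro φ hφ
    by_cases h0 : φ = 0
    · exact Or.inl h0
    · exact Or.inr (hcon φ hφ h0)
  have h2 : Nat.card D.Phi ≤ 2 := by
    have h3 : Nat.card D.Phi = (D.Phi : Set F).ncard := rfl
    rw [h3]
    refine (Set.ncard_le_ncard h1 (Set.toFinite _)).trans ((Set.ncard_insert_le _ _).trans ?_)
    rw [Set.ncard_singleton]
  have := D.four
  omega

/-- an element of norm one and trace `≠ 0` -/
theorem exists_nt (hq : Qd F n) : ∃ x : F, x * bar n x = 1 ∧ Tr n x ≠ 0 := by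
  obtain ⟨x, h1, -, h3⟩ := exists_norm_one hq
  refine ⟨x, h1, fun h => h3 ?_⟩
  have h4 := fixed_of_Tr h
  rw [N_def, h4] at h1
  have h5 : ((x : F) + 1) ^ 2 = 0 := by
    have h2 : (2 : F) = 0 := CharTwo.two_eq_zero
    linear_combination h1 + (x + 1 : F) * h2
  have h6 := pow_eq_zero_iff (n := 2) (by norm_num) |>.1 h5
  exact Units.val_injective (by rw [Units.val_one]; exact Cfsg.Agent.StdU3.Field.add_eq_zero.mp h6)

/-- (A2), the three cases -/
theorem exists_noncomm (hk : D.kap ≠ 0) {u : G} (hu : u ∈ D.P) (huV : u ∉ D.V) (h2 : D.sqf u = 0) :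
    ∃ t ∈ D.cs u, ∃ t' ∈ D.cs u, D.bil t t' ≠ 0 := by
  have two : (2 : F) = 0 := CharTwo.two_eq_zero
  have ff := fix_f hu
  have fc := D.fix_c u hu
  have fk := D.fix_kap
  have fNa := fixed_N D.hq (D.a u)
  obtain ⟨x, x1, x2⟩ := exists_nt (F := F) D.hq
  have xb : bar n x * bar n (bar n x) = 1 := by rw [bar_bar D.hq, mul_comm]; exact x1
  unfold sqf at h2
  by_cases hf : D.f u = 0
  · -- (iii)
    have ha : D.a u ≠ 0 := by
      intro ha
      rw [ha, N_zero, hf, mul_zero, zero_add, add_zero] at h2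
      exact huV ⟨hu, ha, (mul_eq_zero.1 h2).resolve_left hk⟩
    obtain ⟨φ, hφ, φ0, φk⟩ := exists_Phi (D := D) D.kap
    have fφ := D.fix_Phi φ hφ
    have hkφ : D.kap + φ ≠ 0 := fun h => φk (Cfsg.Agent.StdU3.Field.add_eq_zero.mp h).symm
    obtain ⟨α, hα⟩ := exists_Tr_eq D.hq ha (fixed_mul fc fφ)
    rw [Tr_comm D.hq] at hα
    obtain ⟨l, fl, l1⟩ := exists_fixed_ne D.hq
    have l0 : (l : F) ≠ 0 := l.ne_zero
    have fi := fixed_inv (fixed_add fk fφ)
    obtain ⟨t, ht, t1, t2, t3⟩ := D.surj α (N n α * (D.kap + φ)⁻¹) φ (fixed_mul (fixed_N D.hq _) fi) hφ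
    obtain ⟨t', ht', t1', t2', t3'⟩ := D.surj (α + l * D.a u) (N n (α + l * D.a u) * (D.kap + φ)⁻¹) φ
      (fixed_mul (fixed_N D.hq _) fi) hφ
    have e1 : Tr n (l * D.a u * bar n (D.a u)) = 0 := by
      rw [mul_assoc, Tr_mul_fixed fl, Tr_self D.hq, mul_zero]
    refine ⟨t, (mem_cs hu ht).2 ⟨?_, ?_⟩, t', (mem_cs hu ht').2 ⟨?_, ?_⟩, ?_⟩
    · rw [sqf, t1, t2, t3]; field_simp; linear_combination (N n α * (D.kap + φ)) * two
    · rw [bil, t1, t2, t3, hf, hα]; linear_combination (D.c u * φ) * two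
    · rw [sqf, t1', t2', t3']; field_simp; linear_combination (N n (α + l * D.a u) * (D.kap + φ)) * two
    · rw [bil, t1', t2', t3', hf, add_mul, Tr_add, hα, e1]; linear_combination (D.c u * φ) * two
    · have e2 : Tr n (α * bar n (l * D.a u)) = l * (D.c u * φ) := by
        rw [bar_mul, fl, ← hα, ← Tr_mul_fixed fl]; congr 1; ring
      have e3 : Tr n (α * bar n (α + l * D.a u)) = l * (D.c u * φ) := by
        rw [bar_add, mul_add, Tr_add, Tr_self D.hq, zero_add, e2]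
      have e4 : N n (α + l * D.a u) = N n α + l ^ 2 * N n (D.a u) + l * (D.c u * φ) := by
        rw [N_add' D.hq, e2, N_mul, N_of_fixed fl]
      have e5 : D.kap * D.c u = N n (D.a u) := by
        rw [hf, mul_zero, add_zero] at h2
        exact (Cfsg.Agent.StdU3.Field.add_eq_zero.mp h2).symm
      rw [bil, t1, t2, t3, t1', t2', t3', e3, e4]
      have e6 : (l : F) * (D.c u * φ) + (N n α * (D.kap + φ)⁻¹ * φ +
          (N n α + l ^ 2 * N n (D.a u) + l * (D.c u * φ)) * (D.kap + φ)⁻¹ * φ) =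
          φ * N n (D.a u) * (l * (1 + l)) * (D.kap + φ)⁻¹ := by
        field_simp
        linear_combination (l : F) * e5 + (l * D.c u * φ + N n α) * two
      rw [e6]
      have hl1 : (1 : F) + l ≠ 0 := fun h => l1 (Cfsg.Agent.StdU3.Field.add_eq_zero.mp h).symm
      exact mul_ne_zero (mul_ne_zero (mul_ne_zero φ0 (N_ne_zero ha)) (mul_ne_zero l0 hl1)) (inv_ne_zero hkφ)
  by_cases hfk : D.f u = D.kap
  · -- (ii)
    have ha : D.a u = 0 := by
      rw [hfk] at h2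
      apply N_eq_zero (n := n)
      linear_combination h2 - (D.kap * D.c u) * two
    have hc : D.c u ≠ 0 := fun hc => huV ⟨hu, ha, hc⟩
    obtain ⟨φ, hφ, φ0, φk⟩ := exists_Phi (D := D) D.kap
    have fφ := D.fix_Phi φ hφ
    have hkφ : D.kap + φ ≠ 0 := fun h => φk (Cfsg.Agent.StdU3.Field.add_eq_zero.mp h).symm
    have fγ : bar n (D.c u * φ * D.kap⁻¹) = D.c u * φ * D.kap⁻¹ := fixed_mul (fixed_mul fc fφ) (fixed_inv fk)
    obtain ⟨α, hα⟩ := exists_norm D.hq (fixed_mul fγ (fixed_add fk fφ))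
    obtain ⟨t, ht, t1, t2, t3⟩ := D.surj α (D.c u * φ * D.kap⁻¹) φ fγ hφ
    obtain ⟨t', ht', t1', t2', t3'⟩ := D.surj (x * α) (D.c u * φ * D.kap⁻¹) φ fγ hφ
    refine ⟨t, (mem_cs hu ht).2 ⟨?_, ?_⟩, t', (mem_cs hu ht').2 ⟨?_, ?_⟩, ?_⟩
    · rw [sqf, t1, t2, t3, hα]; field_simp; linear_combination (D.c u * φ * (D.kap + φ)) * two
    · rw [bil, t1, t2, t3, ha, bar_zero, mul_zero, Tr_zero, hfk]; field_simp; linear_combination (D.c u * φ) * two
    · rw [sqf, t1', t2', t3', N_mul, hα, N_def n x, x1]; field_simp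
      linear_combination (D.c u * φ * (D.kap + φ)) * two
    · rw [bil, t1', t2', t3', ha, bar_zero, mul_zero, Tr_zero, hfk]; field_simp; linear_combination (D.c u * φ) * two
    · rw [bil, t1, t2, t3, t1', t2', t3', Cfsg.Agent.StdU3.Field.add_self, add_zero]
      have e1 : α * bar n (x * α) = N n α * bar n x := by rw [bar_mul, N_def]; ring
      rw [e1, Tr_mul_fixed (fixed_N D.hq _), Tr_bar D.hq, hα]
      exact mul_ne_zero (mul_ne_zero (mul_ne_zero (mul_ne_zero hc φ0) (inv_ne_zero hk)) hkφ) x2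
  · -- (i)
    have ha : D.a u ≠ 0 := by
      intro ha
      rw [ha, N_zero, zero_add] at h2
      have h3 : D.c u * (D.kap + D.f u) = 0 := by rw [← h2]; ring
      rcases mul_eq_zero.1 h3 with h4 | h4
      · exact huV ⟨hu, ha, h4⟩
      · exact hfk (Cfsg.Agent.StdU3.Field.add_eq_zero.mp h4).symm
    have fkf : bar n (D.kap * (D.f u)⁻¹) = D.kap * (D.f u)⁻¹ := fixed_mul fk (fixed_inv ff)
    have fγ : bar n (D.kap * (D.f u)⁻¹ * (D.f u)⁻¹ * (N n (D.a u) * Tr n x)) =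
        D.kap * (D.f u)⁻¹ * (D.f u)⁻¹ * (N n (D.a u) * Tr n x) :=
      fixed_mul (fixed_mul fkf (fixed_inv ff)) (fixed_mul fNa (fixed_Tr D.hq _))
    have key : ∀ y : F, y * bar n y = 1 → Tr n y = Tr n x → ∃ t ∈ D.cs u,
        D.a t = (1 + y) * (D.kap * (D.f u)⁻¹ * D.a u) ∧ D.f t = 0 := by
      intro y hy hTr
      obtain ⟨t, ht, t1, t2, t3⟩ := D.surj ((1 + y) * (D.kap * (D.f u)⁻¹ * D.a u))
        (D.kap * (D.f u)⁻¹ * (D.f u)⁻¹ * (N n (D.a u) * Tr n x)) 0 fγ D.Phi.zero_mem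
      have e1 : N n (1 + y) = Tr n x := by
        rw [← hTr, N_def, Tr_def, bar_add, bar_one]
        linear_combination hy + two
      refine ⟨t, (mem_cs hu ht).2 ⟨?_, ?_⟩, t1, t3⟩
      · rw [sqf, t1, t2, t3, N_mul, N_mul, e1, N_of_fixed fkf]
        linear_combination (Tr n x * (D.kap * (D.f u)⁻¹) ^ 2 * N n (D.a u)) * two
      · have e2 : (1 + y) * (D.kap * (D.f u)⁻¹ * D.a u) * bar n (D.a u) =
            (D.kap * (D.f u)⁻¹ * N n (D.a u)) * (1 + y) := by rw [N_def]; ring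
        have e3 : Tr n (1 + y) = Tr n x := by rw [Tr_add, Tr_of_fixed (bar_one n), zero_add, hTr]
        rw [bil, t1, t2, t3, e2, Tr_mul_fixed (fixed_mul fkf fNa), e3]
        field_simp
        linear_combination (D.kap * N n (D.a u) * Tr n x) * two
    obtain ⟨t, ht, t1, t3⟩ := key x x1 rfl
    obtain ⟨t', ht', t1', t3'⟩ := key (bar n x) xb (Tr_bar D.hq x)
    refine ⟨t, ht, t', ht', ?_⟩
    have e1 : (1 + x) * (D.kap * (D.f u)⁻¹ * D.a u) * bar n ((1 + bar n x) * (D.kap * (D.f u)⁻¹ * D.a u)) =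
        ((D.kap * (D.f u)⁻¹) * (D.kap * (D.f u)⁻¹) * N n (D.a u)) * ((1 + x) * (1 + x)) := by
      rw [bar_mul, bar_mul n (D.kap * (D.f u)⁻¹), fkf, bar_add, bar_one, bar_bar D.hq, N_def]; ring
    have e2 : Tr n ((1 + x) * (1 + x)) = Tr n x ^ 2 := by
      have h3 : (1 + x) * (1 + x) = 1 + x * x := by linear_combination x * two
      rw [h3, Tr_add, Tr_of_fixed (bar_one n), zero_add, Tr_def, Tr_def, bar_mul]
      linear_combination (-(x * bar n x)) * two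
    rw [bil, t1, t1', t3, t3', mul_zero, mul_zero, add_zero, add_zero, e1,
      Tr_mul_fixed (fixed_mul (fixed_mul fkf fkf) fNa), e2]
    exact mul_ne_zero (mul_ne_zero (mul_ne_zero (mul_ne_zero hk (inv_ne_zero hf)) (mul_ne_zero hk (inv_ne_zero hf)))
      (N_ne_zero ha)) (pow_ne_zero 2 x2)

theorem exists_V_notZ : ∃ u ∈ D.V, u ∉ D.Z := by
  obtain ⟨u, hu, h1⟩ := exists_V (D := D) D.one_mem
  exact ⟨u, hu, fun hz => one_ne_zero (h1.symm.trans ((mem_Z_iff hu.1).1 hz).2.2)⟩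

theorem exists_E_notZ : ∃ u ∈ D.E, u ∉ D.Z := by
  obtain ⟨u, hu, h1⟩ := exists_E (D := D) (bar_one n)
  exact ⟨u, hu, fun hz => one_ne_zero (h1.symm.trans ((mem_Z_iff hu.1).1 hz).2.1)⟩

theorem cj_notZ {x u : G} (hx : cj x D.P = D.P) (hu : u ∉ D.Z) : x * u * x⁻¹ ∉ D.Z := fun h =>
  hu ((cj_mem_iff (cj_Z hx)).1 h)

/-- (A2) -/
theorem cj_V_of_ne (hk : D.kap ≠ 0) {x : G} (hx : cj x D.P = D.P) : cj x D.V = D.V := by
  have hS := sel_V.cj (D := D) hx
  have key : ∀ u ∈ cj x D.V, u ∉ D.Z → u ∈ D.V := by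
    intro u hu huZ
    by_contra huV
    have huP : u ∈ D.P := by rw [← hx]; exact map_mono V_le hu
    have h2 := (sq_eq_one huP).1 (hS.sq hu huZ)
    obtain ⟨t, ht, t', ht', hne⟩ := exists_noncomm hk huP huV h2
    exact hne ((comm_iff ht.1 ht'.1).1 (hS.comm hu huZ ht ht'))
  obtain ⟨v, hv, hvZ⟩ := exists_V_notZ (D := D)
  have m := mem_cj_mul (g := x) hv
  have mZ := cj_notZ hx hvZ
  apply SetLike.coe_injective
  rw [hS.cs _ m mZ, ← sel_V.cs _ (key _ m mZ) mZ]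

/-- If a conjugate of `E` is a `V_A` then `Φ = F_q`. -/
theorem Phi_full {x : G} (hx : cj x D.P = D.P) {A : F} (h : ∀ e ∈ D.E, x * e * x⁻¹ ∈ D.W A) :
    ∀ b, bar n b = b → b ∈ D.Phi := by
  classical
  choose! e he hec using fun (b : F) (hb : bar n b = b) => exists_E (D := D) hb
  have inj : Set.InjOn (fun b => D.f (x * e b * x⁻¹)) {b | bar n b = b} := by
    intro b hb b' hb' h1
    have h1' : D.f (x * e b * x⁻¹) = D.f (x * e b' * x⁻¹) := h1
    have m := h _ (he b hb)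
    have m' := h _ (he b' hb')
    have m2 : x * (e b * e b') * x⁻¹ ∈ D.W A := by
      have : x * (e b * e b') * x⁻¹ = (x * e b * x⁻¹) * (x * e b' * x⁻¹) := by group
      rw [this]; exact mul_mem m m'
    have f0 : D.f (x * (e b * e b') * x⁻¹) = 0 := by
      have : x * (e b * e b') * x⁻¹ = (x * e b * x⁻¹) * (x * e b' * x⁻¹) := by group
      rw [this, D.f_mul _ m.1 _ m'.1, h1', Cfsg.Agent.StdU3.Field.add_self]
    have h2 := (cj_mem_iff (cj_Z hx)).1 (mem_Z_of_W m2 f0)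
    have h3 := ((mem_Z_iff (mul_mem (he b hb).1 (he b' hb').1)).1 h2).2.1
    rw [D.c_mul _ (he b hb).1 _ (he b' hb').1, hec b hb, hec b' hb'] at h3
    exact Cfsg.Agent.StdU3.Field.add_eq_zero.mp h3
  have hsub : (D.Phi : Set F) ⊆ {b | bar n b = b} := fun b hb => D.fix_Phi b hb
  have hle : ({b | bar n b = b} : Set F).ncard ≤ (D.Phi : Set F).ncard :=
    Set.ncard_le_ncard_of_injOn _ (fun b hb => D.f_mem _ (h _ (he b hb)).1) inj (Set.toFinite _)
  have h4 := Set.eq_of_subset_of_ncard_le hsub hle (Set.toFinite _)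
  intro b hb
  have : b ∈ ({b | bar n b = b} : Set F) := hb
  rw [← h4] at this
  exact this

/-- **(A2), (A3)** -/
theorem cj_V {x : G} (hx : cj x D.P = D.P) : cj x D.V = D.V ∨ (D.kap = 0 ∧
    ((∃ A, A ≠ 0 ∧ cj x D.V = D.W A) ∨ (cj x D.V = D.E ∧ ∀ b, bar n b = b → b ∈ D.Phi))) := by
  by_cases hk : D.kap = 0
  swap
  · exact Or.inl (cj_V_of_ne hk hx)
  have hS := sel_V.cj (D := D) hx
  obtain ⟨v, hv, hvZ⟩ := exists_V_notZ (D := D)
  have m := mem_cj_mul (g := x) hv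
  have mZ := cj_notZ hx hvZ
  have huP : x * v * x⁻¹ ∈ D.P := by rw [← hx]; exact map_mono V_le m
  rcases cs_eq hk huP mZ (hS.sq m mZ) with ⟨A, hA⟩ | hE
  · have h1 : cj x D.V = D.W A := SetLike.coe_injective (by rw [hS.cs _ m mZ, hA])
    by_cases h0 : A = 0
    · left; rw [h1, h0, W_zero]
    · exact Or.inr ⟨hk, Or.inl ⟨A, h0, h1⟩⟩
  · have h1 : cj x D.V = D.E := SetLike.coe_injective (by rw [hS.cs _ m mZ, hE])
    refine Or.inr ⟨hk, Or.inr ⟨h1, ?_⟩⟩
    refine Phi_full (x := x⁻¹) (A := 0) (cj_inv_eq hx) ?_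
    intro e he
    rw [W_zero, ← cj_inv_eq h1]
    exact mem_cj_mul he

/-- **(A4)** -/
theorem cj_E {x : G} (hx : cj x D.P = D.P) (hk : D.kap = 0) : cj x D.E = D.E ∨
    ((∃ A, cj x D.E = D.W A) ∧ ∀ b, bar n b = b → b ∈ D.Phi) := by
  have hS := (sel_E (D := D) hk).cj hx
  obtain ⟨v, hv, hvZ⟩ := exists_E_notZ (D := D)
  have m := mem_cj_mul (g := x) hv
  have mZ := cj_notZ hx hvZ
  have huP : x * v * x⁻¹ ∈ D.P := by rw [← hx]; exact map_mono E_le m
  rcases cs_eq hk huP mZ (hS.sq m mZ) with ⟨A, hA⟩ | hE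
  · have h1 : cj x D.E = D.W A := SetLike.coe_injective (by rw [hS.cs _ m mZ, hA])
    refine Or.inr ⟨⟨A, h1⟩, Phi_full hx (A := A) fun e he => ?_⟩
    rw [← h1]
    exact mem_cj_mul he
  · exact Or.inl (SetLike.coe_injective (by rw [hS.cs _ m mZ, hE]))

/-- a member different from `E` is a `V_A` -/
theorem cj_V' {x : G} (hx : cj x D.P = D.P) (hne : cj x D.V ≠ D.E) : ∃ A, cj x D.V = D.W A := by
  rcases cj_V hx with h | ⟨-, ⟨A, -, h⟩ | ⟨h, -⟩⟩
  · exact ⟨0, by rw [h, W_zero]⟩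
  · exact ⟨A, h⟩
  · exact absurd h hne

end Chart

/-! ### The torus and the partner -/

namespace Dat

open Chart

variable (D : Dat G F n)

include D in
theorem fixed_w (l : Fˣ) : N n (w n l) = N n (l : F) := by
  rw [w, N_mul, N_inv, N_def n ((l : F) ^ 2), bar_pow]
  have h0 : (l : F) ≠ 0 := l.ne_zero
  have h1 : bar n (l : F) ≠ 0 := fun h => h0 (bar_eq_zero h)
  rw [N_bar D.hq, N_def]
  field_simp

theorem w_ne_zero (l : Fˣ) : w n l ≠ 0 :=
  mul_ne_zero (pow_ne_zero 2 l.ne_zero) (inv_ne_zero fun h => l.ne_zero (bar_eq_zero h))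

/-- conjugation by the torus on coordinates -/
theorem cj_h_aux (l : Fˣ) {X Y : Subgroup G} (hX : X ≤ D.P) (hY : Y ≤ D.P)
    (h : ∀ x ∈ D.P, x ∈ X ↔ D.h l * x * (D.h l)⁻¹ ∈ Y) : cj (D.h l) X = Y := by
  refine cj_eq_of (fun g hg => (h g (hX hg)).1 hg) fun g hg => ?_
  have h1 : (D.h l)⁻¹ * g * D.h l ∈ D.P := by
    rw [← mem_cj, D.h_P]; exact hY hg
  rw [h _ h1]
  have e : D.h l * ((D.h l)⁻¹ * g * D.h l) * (D.h l)⁻¹ = g := by group
  rw [e]; exact hg

theorem cj_h_W (l : Fˣ) (A : F) : cj (D.h l) (D.W A) = D.W (w n l * A) := by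
  refine D.cj_h_aux l (W_le _) (W_le _) fun x hx => ?_
  have hN : N n (l : F) ≠ 0 := N_ne_zero l.ne_zero
  have hm : D.h l * x * (D.h l)⁻¹ ∈ D.P := cj_mem (D.h_P l) hx
  rw [mem_W, mem_W, D.h_a l x hx, D.h_c l x hx, D.h_f l x hx, N_mul, D.fixed_w]
  constructor
  · rintro ⟨-, h1, h2⟩
    exact ⟨hm, by rw [h1]; ring, by rw [h2]; ring⟩
  · rintro ⟨-, h1, h2⟩
    refine ⟨hx, mul_left_cancel₀ (w_ne_zero l) (by rw [h1]; ring), mul_left_cancel₀ hN (by rw [h2]; ring)⟩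

theorem cj_h_V (l : Fˣ) : cj (D.h l) D.V = D.V := by
  rw [← W_zero, cj_h_W, mul_zero]

theorem cj_h_E (l : Fˣ) : cj (D.h l) D.E = D.E := by
  refine D.cj_h_aux l E_le E_le fun x hx => ?_
  have hm : D.h l * x * (D.h l)⁻¹ ∈ D.P := cj_mem (D.h_P l) hx
  rw [mem_E, mem_E, D.h_a l x hx, D.h_f l x hx]
  constructor
  · rintro ⟨-, h1, h2⟩
    exact ⟨hm, by rw [h1, mul_zero], h2⟩
  · rintro ⟨-, h1, h2⟩
    exact ⟨hx, (mul_eq_zero.1 h1).resolve_left (w_ne_zero l), h2⟩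

theorem cj_h_S (l : Fˣ) : cj (D.h l) D.S = D.S := by
  refine D.cj_h_aux l S_le S_le fun x hx => ?_
  have hm : D.h l * x * (D.h l)⁻¹ ∈ D.P := cj_mem (D.h_P l) hx
  have hN : N n (l : F) ≠ 0 := N_ne_zero l.ne_zero
  rw [mem_S, mem_S, D.h_c l x hx, D.h_f l x hx]
  constructor
  · rintro ⟨-, h1, h2⟩
    exact ⟨hm, by rw [h1, mul_zero], h2⟩
  · rintro ⟨-, h1, h2⟩
    exact ⟨hx, (mul_eq_zero.1 h1).resolve_left hN, h2⟩

theorem cj_h_Z (l : Fˣ) : cj (D.h l) D.Z = D.Z := cj_Z (D.h_P l)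

/-- the partner of `cj x V` is well defined -/
theorem partner {x y : G} (h : cj x D.V = cj y D.V) : cj x D.E = cj y D.E := by
  have h1 : cj (y⁻¹ * x) D.V = D.V := by rw [cj_mul, h]; exact cj_inv_eq rfl
  have h2 := D.V_E _ h1
  rw [cj_mul] at h2
  have h3 := congrArg (cj y) h2
  rw [← cj_mul, ← cj_mul, mul_inv_cancel, one_mul] at h3
  exact h3

theorem partner_inf {x : G} (hx : cj x D.P = D.P) : cj x D.V ⊓ cj x D.E = D.Z := by
  ext g
  rw [mem_inf, mem_cj, mem_cj, ← mem_inf, V_inf_E, ← mem_cj, cj_Z hx]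

end Dat

end Cfsg.Agent.OddHalf.D4.U3.Defs

end

-- merged: Cfsg.Agent.OddHalf.D4.U3.SwapTwo
section

/-!
# ODD, D4, row `K = U₃(q)`: no element interchanges `V` with `V_α` and `E` with `V_β`
-/

set_option autoImplicit false
set_option linter.unusedSectionVars false

namespace Cfsg.Agent.OddHalf.D4.U3.SwapTwo

open Subgroup Cfsg.Agent.StdU3.Field Cfsg.Agent.StdU3.PreDef Cfsg.Agent.OddHalf.D4.CommConj
  Cfsg.Agent.OddHalf.D4.Basic Cfsg.Agent.OddHalf.D4.U3.Zeta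
open Cfsg.Agent.OddHalf.D4.U3.Defs (Chart Dat)

universe u v

variable {G : Type u} [Group G] {F : Type v} [Field F] [Fintype F] [CharP F 2] {n : ℕ}

/-! ### The field -/

theorem w_mul (l l' : Fˣ) : w n (l * l') = w n l * w n l' := by
  unfold w
  rw [Units.val_mul, bar_mul, mul_inv]; ring

/-- cubes are values of `w` -/
theorem w_cube (h : Qd F n) (l : Fˣ) : ∃ l', w n l' = (l : F) ^ 3 := by
  let m : Fˣ := Units.mk0 (N n (l : F)) (N_ne_zero l.ne_zero)
  refine ⟨l * m, ?_⟩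
  rw [w_mul, w_fixed (l := m) (fixed_N h _)]
  show w n l * (N n (l : F)) = _
  unfold w
  have h0 : bar n (l : F) ≠ 0 := fun h' => l.ne_zero (bar_eq_zero h')
  rw [N_def]
  field_simp

/-- two of four elements are congruent modulo the values of `w` -/
theorem exists_pair (h : Qd F n) (A : Fin 4 → F) (hA : ∀ i, A i ≠ 0) :
    ∃ i j, i ≠ j ∧ ∃ l : Fˣ, A j = w n l * A i := by
  obtain ⟨g, hg⟩ := IsCyclic.exists_generator (α := Fˣ)
  have h1 : ∀ i, ∃ k : ℤ, g ^ k = Units.mk0 (A i) (hA i) := fun i => hg _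
  choose k hk using h1
  have h2 : ∃ i j, i ≠ j ∧ k i % 3 = k j % 3 := by
    by_contra hcon
    push Not at hcon
    let f : Fin 4 → Fin 3 := fun i => ⟨(k i % 3).toNat, by omega⟩
    obtain ⟨i, j, hij, hf⟩ := Fintype.exists_ne_map_eq_of_card_lt f (by simp)
    apply hcon i j hij
    have h3 := congrArg Fin.val hf
    change (k i % 3).toNat = (k j % 3).toNat at h3
    omega
  obtain ⟨i, j, hij, h3⟩ := h2
  refine ⟨i, j, hij, ?_⟩
  obtain ⟨m, hm⟩ : ∃ m : ℤ, k j = m * 3 + k i := ⟨(k j - k i) / 3, by omega⟩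
  obtain ⟨l, hl⟩ := w_cube h (g ^ m)
  refine ⟨l, ?_⟩
  have e : Units.mk0 (A j) (hA j) = (g ^ m) ^ 3 * Units.mk0 (A i) (hA i) := by
    rw [← hk i, ← hk j, hm, zpow_add, zpow_mul]; rfl
  have e2 := congrArg Units.val e
  rw [Units.val_mul, Units.val_mk0, Units.val_mk0, Units.val_pow_eq_pow_val] at e2
  rw [hl, e2]

/-- for `q = 4` every element is a value of `w` -/
theorem exists_w (h : Qd F 2) (x : Fˣ) : ∃ l : Fˣ, w 2 l = x := by
  refine ⟨x ^ 7, ?_⟩
  classical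
  have h1 : x ^ 15 = 1 := by
    have h2 := pow_card_eq_one (x := x)
    rw [Fintype.card_units, h.hK] at h2
    exact h2
  have h1' : (x : F) ^ 15 = 1 := by
    rw [← Units.val_pow_eq_pow_val, h1, Units.val_one]
  unfold w
  rw [bar_def, Units.val_pow_eq_pow_val]
  rw [mul_inv_eq_iff_eq_mul₀ (pow_ne_zero _ (pow_ne_zero _ x.ne_zero))]
  calc ((x : F) ^ 7) ^ 2 = (x : F) ^ 14 * 1 := by ring
    _ = (x : F) ^ 14 * (x : F) ^ 15 := by rw [h1']
    _ = _ := by ring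

/-- an element of `F_q` with small powers different from one -/
theorem exists_t (h : Qd F n) (h3 : 3 ≤ n) :
    ∃ t : F, bar n t = t ∧ t ≠ 0 ∧ ∀ k, 1 ≤ k → k ≤ 5 → t ^ k ≠ 1 := by
  obtain ⟨g, hg⟩ := exists_generator h
  have h8 : 8 ≤ 2 ^ n := by
    calc 8 = 2 ^ 3 := by norm_num
      _ ≤ 2 ^ n := Nat.pow_le_pow_right (by norm_num) h3
  have hf := card_factor (2 ^ n) (by omega)
  refine ⟨N n (g : F), fixed_N h _, N_ne_zero g.ne_zero, fun k hk hk5 h1 => ?_⟩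
  have h2 : g ^ ((2 ^ n + 1) * k) = 1 := by
    apply Units.val_injective
    rw [Units.val_pow_eq_pow_val, pow_mul, ← N_eq_pow, h1, Units.val_one]
  have h4 := orderOf_dvd_of_pow_eq_one h2
  rw [hg, hf, mul_comm (2 ^ n - 1)] at h4
  have h5 := Nat.dvd_of_mul_dvd_mul_left (by omega) h4
  have h6 := Nat.le_of_dvd hk h5
  omega

/-! ### The ratio -/

theorem ratio (D : Dat G F n) {g g' : G} {A B A' B' : F} {l : Fˣ}
    (h1 : cj g D.V = D.W A) (h2 : cj g D.E = D.W B) (h1' : cj g' D.V = D.W A') (h2' : cj g' D.E = D.W B')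
    (hA : A' = w n l * A) : B' = w n l * B := by
  have e1 : cj (D.h l * g) D.V = cj g' D.V := by rw [cj_mul, h1, cj_h_W, h1', hA]
  have e2 := partner D e1
  rw [cj_mul, h2, cj_h_W, h2'] at e2
  exact (W_inj D.toChart e2).symm

/-! ### The coefficients -/

section

variable (D : Dat G F n) {y : G} {α β : F}

/-- coefficients of `y` on the four lines -/
structure Co (D : Dat G F n) (y : G) (α β : F) (ζ : F → F) where
  z : IsZ D.toChart y ζ
  k : D.kap = 0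
  Phi : ∀ b, bar n b = b → b ∈ D.Phi
  α0 : α ≠ 0
  β0 : β ≠ 0
  h1 : cj y D.V = D.W α
  h2 : cj y (D.W α) = D.V
  h3 : cj y D.E = D.W β
  h4 : cj y (D.W β) = D.E

namespace Co

variable {D} {ζ : F → F} (C : Co D y α β ζ)

include C

theorem ne : α ≠ β := by
  rintro rfl
  have h := C.h1.trans C.h3.symm
  rw [cj_eq_iff, ← cj_mul, inv_mul_cancel, cj_one] at h
  exact V_ne_E D.toChart h

/-- images of the elements of `V` -/
theorem imV {p : G} (hp : p ∈ D.V) : D.a (y * p * y⁻¹) = D.f (y * p * y⁻¹) * α ∧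
    D.c (y * p * y⁻¹) = D.f (y * p * y⁻¹) * N n α := by
  have h := mem_cj_mul (g := y) hp
  rw [C.h1] at h
  exact h.2

theorem imA {p : G} (hp : p ∈ D.W α) : D.a (y * p * y⁻¹) = 0 ∧ D.c (y * p * y⁻¹) = 0 := by
  have h := mem_cj_mul (g := y) hp
  rw [C.h2] at h
  exact h.2

theorem imE {p : G} (hp : p ∈ D.E) : D.a (y * p * y⁻¹) = D.f (y * p * y⁻¹) * β ∧
    D.c (y * p * y⁻¹) = D.f (y * p * y⁻¹) * N n β := by
  have h := mem_cj_mul (g := y) hp
  rw [C.h3] at h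
  exact h.2

theorem imB {p : G} (hp : p ∈ D.W β) : D.a (y * p * y⁻¹) = 0 ∧ D.f (y * p * y⁻¹) = 0 := by
  have h := mem_cj_mul (g := y) hp
  rw [C.h4] at h
  exact h.2

omit C in
theorem trN (h : Qd F n) (x y : F) : Tr n (x * bar n y) = N n (x + y) + N n x + N n y := by
  rw [N_add' h]
  have e : N n x + N n y + Tr n (x * bar n y) + N n x + N n y =
    Tr n (x * bar n y) + (N n x + N n x) + (N n y + N n y) := by ring
  rw [e, add_self, add_self, add_zero, add_zero]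

omit C in
theorem fixf {p : G} (hp : p ∈ D.P) : bar n (D.f p) = D.f p := D.fix_Phi _ (D.f_mem p hp)

/-- (R1) -/
theorem r1 {p e : G} (hp : p ∈ D.V) (he : e ∈ D.E) :
    D.f (y * p * y⁻¹) * D.f (y * e * y⁻¹) * N n (α + β) = ζ (D.c e * D.f p) := by
  have h := C.z.comm hp.1 he.1
  obtain ⟨e1, e2⟩ := C.imV hp
  obtain ⟨e3, e4⟩ := C.imE he
  rw [e1, e2, e3, e4, hp.2.1, hp.2.2, he.2.2] at h
  rw [zero_mul, Tr_zero, zero_mul, zero_add, zero_add] at h
  rw [← h, bar_mul, fixf (C.z.mem he.1)]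
  have e5 : D.f (y * p * y⁻¹) * α * (D.f (y * e * y⁻¹) * bar n β) =
    (D.f (y * p * y⁻¹) * D.f (y * e * y⁻¹)) * (α * bar n β) := by ring
  rw [e5, Tr_mul_fixed (fixed_mul (fixf (C.z.mem hp.1)) (fixf (C.z.mem he.1))), N_add' D.hq]
  ring

/-- (R2) -/
theorem r2 {p q : G} (hp : p ∈ D.V) (hq : q ∈ D.W α) :
    D.f (y * p * y⁻¹) * D.f (y * q * y⁻¹) * N n α = ζ (D.f p * D.f q * N n α) := by
  have h := C.z.comm hp.1 hq.1
  obtain ⟨e1, e2⟩ := C.imV hp
  obtain ⟨e3, e4⟩ := C.imA hq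
  rw [e1, e2, e3, e4, hp.2.1, hp.2.2, hq.2.2, bar_zero, mul_zero, zero_mul, zero_mul, zero_mul, Tr_zero, zero_add,
    add_zero, zero_add, zero_add] at h
  have e5 : D.f p * D.f q * N n α = D.f q * N n α * D.f p := by ring
  rw [e5, ← h]; ring

/-- (R3) -/
theorem r3 {p q : G} (hp : p ∈ D.V) (hq : q ∈ D.W β) :
    D.f (y * p * y⁻¹) * D.c (y * q * y⁻¹) = ζ (D.f p * D.f q * N n β) := by
  have h := C.z.comm hp.1 hq.1
  obtain ⟨e1, e2⟩ := C.imV hp
  obtain ⟨e3, e4⟩ := C.imB hq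
  rw [e1, e2, e3, e4, hp.2.1, hp.2.2, hq.2.2, bar_zero, mul_zero, zero_mul, zero_mul, mul_zero, Tr_zero, zero_add,
    zero_add, zero_add, zero_add] at h
  have e5 : D.f p * D.f q * N n β = D.f q * N n β * D.f p := by ring
  rw [e5, ← h]; ring

/-- (R4) -/
theorem r4 {e q : G} (he : e ∈ D.E) (hq : q ∈ D.W β) :
    D.f (y * e * y⁻¹) * D.c (y * q * y⁻¹) = ζ (D.c e * D.f q) := by
  have h := C.z.comm he.1 hq.1
  obtain ⟨e1, e2⟩ := C.imE he
  obtain ⟨e3, e4⟩ := C.imB hq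
  rw [e1, e2, e3, e4, he.2.1, he.2.2, bar_zero, mul_zero, zero_mul, mul_zero, mul_zero, Tr_zero, zero_add,
    zero_add, zero_add, add_zero] at h
  rw [← h]; ring

/-- (R5) -/
theorem r5 {e q : G} (he : e ∈ D.E) (hq : q ∈ D.W α) :
    D.f (y * e * y⁻¹) * D.f (y * q * y⁻¹) * N n β = ζ (D.c e * D.f q) := by
  have h := C.z.comm he.1 hq.1
  obtain ⟨e1, e2⟩ := C.imE he
  obtain ⟨e3, e4⟩ := C.imA hq
  rw [e1, e2, e3, e4, he.2.1, he.2.2, bar_zero, mul_zero, zero_mul, mul_zero, zero_mul, Tr_zero, zero_add,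
    zero_add, add_zero, add_zero] at h
  rw [← h]; ring

omit C in
theorem exists_V (Φ : ∀ b, bar n b = b → b ∈ D.Phi) {φ : F} (hφ : bar n φ = φ) :
    ∃ x ∈ D.V, D.a x = 0 ∧ D.c x = 0 ∧ D.f x = φ := by
  obtain ⟨x, hx, e1, e2, e3⟩ := D.surj 0 0 φ (bar_zero n) (Φ φ hφ)
  exact ⟨x, ⟨hx, e1, e2⟩, e1, e2, e3⟩

omit C in
theorem exists_W' (Φ : ∀ b, bar n b = b → b ∈ D.Phi) (A : F) {φ : F} (hφ : bar n φ = φ) :
    ∃ x ∈ D.W A, D.a x = φ * A ∧ D.c x = φ * N n A ∧ D.f x = φ := by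
  obtain ⟨x, hx, e1, e2, e3⟩ := D.surj (φ * A) (φ * N n A) φ (fixed_mul hφ (fixed_N D.hq A)) (Φ φ hφ)
  exact ⟨x, ⟨hx, by rw [e1, e3], by rw [e2, e3]⟩, e1, e2, e3⟩

end Co

/-- the constants -/
structure Cs (D : Dat G F n) (y : G) (α β : F) (τ : F → F) (d e p : F) : Prop where
  d0 : d ≠ 0
  e0 : e ≠ 0
  fix : ∀ b, bar n b = b → bar n (τ b) = τ b
  one : τ 1 = 1
  add : ∀ b b', bar n b = b → bar n b' = b' → τ (b + b') = τ b + τ b'
  mul : ∀ b b', bar n b = b → bar n b' = b' → τ (b * b') = τ b * τ b'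
  inj : ∀ b b', bar n b = b → bar n b' = b' → τ b = τ b' → b = b'
  V : ∀ v ∈ D.V, D.f (y * v * y⁻¹) = d * τ (D.f v)
  E : ∀ t ∈ D.E, D.f (y * t * y⁻¹) = e * τ (D.c t)
  A : ∀ q ∈ D.W α, D.f (y * q * y⁻¹) = p * τ (D.f q)
  e1 : d = e * τ (N n β)
  e2 : p * N n β = d * N n (α + β)
  e3 : d * N n α = e * τ (N n α) * N n β

theorem exists_cs {ζ : F → F} (C : Co D y α β ζ) : ∃ τ d e p, Cs D y α β τ d e p := by
  obtain ⟨v, hv, -, -, fv⟩ := Co.exists_V C.Phi (bar_one n)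
  obtain ⟨t, ht, -, ct, -⟩ := exists_E D.toChart (bar_one n)
  obtain ⟨q, hq, -, -, fq⟩ := exists_W D.toChart α
  obtain ⟨q', hq', -, -, fq'⟩ := exists_W D.toChart β
  have ζ1 : ζ 1 ≠ 0 := C.z.ne_zero (bar_one n) one_ne_zero
  have hNα : N n α ≠ 0 := N_ne_zero C.α0
  have hNβ : N n β ≠ 0 := N_ne_zero C.β0
  set d := D.f (y * v * y⁻¹) with hd
  set e := D.f (y * t * y⁻¹) with he
  set p := D.f (y * q * y⁻¹) with hp
  set c := D.c (y * q' * y⁻¹) with hc
  have k1 : d * e * N n (α + β) = ζ 1 := by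
    have h := C.r1 hv ht
    rw [ct, fv, mul_one] at h
    exact h
  have d0 : d ≠ 0 := by
    intro h; rw [h, zero_mul, zero_mul] at k1; exact ζ1 k1.symm
  have e0 : e ≠ 0 := by
    intro h; rw [h, mul_zero, zero_mul] at k1; exact ζ1 k1.symm
  have ν0 : N n (α + β) ≠ 0 := by
    intro h; rw [h, mul_zero] at k1; exact ζ1 k1.symm
  have k4 : e * c = ζ 1 := by
    have h := C.r4 ht hq'
    rw [ct, fq', mul_one] at h
    exact h
  have k5 : e * p * N n β = ζ 1 := by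
    have h := C.r5 ht hq
    rw [ct, fq, mul_one] at h
    exact h
  have p0 : p ≠ 0 := by
    intro h; rw [h, mul_zero, zero_mul] at k5; exact ζ1 k5.symm
  have c0 : c ≠ 0 := by
    intro h; rw [h, mul_zero] at k4; exact ζ1 k4.symm
  have k2 : d * p * N n α = ζ (N n α) := by
    have h := C.r2 hv hq
    rw [fv, fq, mul_one, one_mul] at h
    exact h
  have k3 : d * c = ζ (N n β) := by
    have h := C.r3 hv hq'
    rw [fv, fq', mul_one, one_mul] at h
    exact h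
  have hV : ∀ v' ∈ D.V, D.f (y * v' * y⁻¹) = d * (ζ (D.f v') / ζ 1) := by
    intro v' hv'
    have h := C.r1 hv' ht
    rw [ct, one_mul] at h
    rw [← h, ← k1]
    change _ = d * (D.f (y * v' * y⁻¹) * e * N n (α + β) / (d * e * N n (α + β)))
    field_simp
  have hE : ∀ t' ∈ D.E, D.f (y * t' * y⁻¹) = e * (ζ (D.c t') / ζ 1) := by
    intro t' ht'
    have h := C.r1 hv ht'
    rw [fv, mul_one] at h
    rw [← h, ← k1]
    change _ = e * (d * D.f (y * t' * y⁻¹) * N n (α + β) / (d * e * N n (α + β)))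
    field_simp
  have hA : ∀ q'' ∈ D.W α, D.f (y * q'' * y⁻¹) = p * (ζ (D.f q'') / ζ 1) := by
    intro q'' hq''
    have h := C.r5 ht hq''
    rw [ct, one_mul] at h
    rw [← h, ← k5]
    change _ = p * (e * D.f (y * q'' * y⁻¹) * N n β / (e * p * N n β))
    field_simp
  have hmul : ∀ b b', bar n b = b → bar n b' = b' → ζ (b * b') * ζ 1 = ζ b * ζ b' := by
    intro b b' hb hb'
    obtain ⟨v', hv', -, -, fv'⟩ := Co.exists_V C.Phi hb
    obtain ⟨t', ht', -, ct', -⟩ := exists_E D.toChart hb'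
    have h1 := C.r1 hv' ht'
    have h2 := C.r1 hv' ht
    have h3 := C.r1 hv ht'
    have h4 := C.r1 hv ht
    rw [ct', fv', mul_comm b' b] at h1
    rw [ct, fv', one_mul] at h2
    rw [ct', fv, mul_one] at h3
    rw [ct, fv, mul_one] at h4
    rw [← h1, ← h2, ← h3, ← h4]; ring
  refine ⟨fun b => ζ b / ζ 1, d, e, p, d0, e0, ?_, ?_, ?_, ?_, ?_, hV, hE, hA, ?_, ?_, ?_⟩
  · intro b hb
    show bar n (ζ b / ζ 1) = ζ b / ζ 1
    rw [div_eq_mul_inv]
    exact fixed_mul (C.z.fix b hb) (fixed_inv (C.z.fix 1 (bar_one n)))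
  · exact div_self ζ1
  · intro b b' hb hb'
    show ζ (b + b') / ζ 1 = ζ b / ζ 1 + ζ b' / ζ 1
    rw [C.z.add hb hb', add_div]
  · intro b b' hb hb'
    show ζ (b * b') / ζ 1 = ζ b / ζ 1 * (ζ b' / ζ 1)
    have h := hmul b b' hb hb'
    field_simp
    exact h
  · intro b b' hb hb' h
    have h' : ζ b / ζ 1 = ζ b' / ζ 1 := h
    rw [div_left_inj' ζ1] at h'
    exact C.z.inj hb hb' h'
  · show d = e * (ζ (N n β) / ζ 1)
    rw [← k3, ← k4]
    field_simp
  · apply mul_left_cancel₀ e0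
    calc e * (p * N n β) = e * p * N n β := by ring
      _ = d * e * N n (α + β) := by rw [k5, k1]
      _ = _ := by ring
  · show d * N n α = e * (ζ (N n α) / ζ 1) * N n β
    rw [← k2, ← k5]
    field_simp

/-! ### The images of `V_{xα}` and `V_{xβ}` -/

variable {D} {ζ τ : F → F} {d e p : F}

theorem mem1 (C : Co D y α β ζ) (K : Cs D y α β τ d e p) {x : F} (hx : bar n x = x) :
    ∃ q ∈ D.W (x * α), D.f q = 1 ∧
      D.a (y * q * y⁻¹) * N n β = d * (1 + τ x) * (α * β) * bar n (τ x * α + β) ∧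
      D.f (y * q * y⁻¹) * N n β = d * N n (τ x * α + β) := by
  obtain ⟨q1, hq1, a1, c1, f1⟩ := Co.exists_W' C.Phi α hx
  obtain ⟨q2, hq2, a2, c2, f2⟩ := Co.exists_V C.Phi (fixed_add (bar_one n) hx)
  have hm : bar n ((x + x * x) * N n α) = (x + x * x) * N n α :=
    fixed_mul (fixed_add hx (fixed_mul hx hx)) (fixed_N D.hq _)
  obtain ⟨q3, hq3, a3, c3, f3⟩ := exists_E D.toChart hm
  have h1 := hq1.1
  have h2 := hq2.1
  have h3 := hq3.1
  have h12 := D.P.mul_mem h1 h2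
  have hN : N n (x * α) = x ^ 2 * N n α := by rw [N_mul, N_of_fixed hx]
  have hX : bar n (τ x) = τ x := K.fix x hx
  refine ⟨q1 * q2 * q3, ⟨D.P.mul_mem h12 h3, ?_, ?_⟩, ?_, ?_, ?_⟩
  · rw [D.a_mul _ h12 _ h3, D.a_mul _ h1 _ h2, D.f_mul _ h12 _ h3, D.f_mul _ h1 _ h2, a1, a2, a3, f1, f2, f3]
    linear_combination (-x * α) * add_self x
  · rw [D.c_mul _ h12 _ h3, D.c_mul _ h1 _ h2, D.f_mul _ h12 _ h3, D.f_mul _ h1 _ h2, c1, c2, c3, f1, f2, f3, hN]
    linear_combination (N n α * (1 - x ^ 2)) * add_self x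
  · rw [D.f_mul _ h12 _ h3, D.f_mul _ h1 _ h2, f1, f2, f3]
    linear_combination add_self x
  · rw [C.z.a_mul h12 h3, C.z.a_mul h1 h2, (C.imA hq1).1, (C.imV hq2).1, (C.imE hq3).1, K.V _ hq2, K.E _ hq3, f2, c3,
      K.add _ _ (bar_one n) hx, K.one, K.mul _ _ (fixed_add hx (fixed_mul hx hx)) (fixed_N D.hq _),
      K.add _ _ hx (fixed_mul hx hx), K.mul _ _ hx hx, bar_add, bar_mul, hX, N_def n β]
    have e3 := K.e3
    generalize τ (N n α) = T at e3 ⊢
    rw [N_def n β, N_def n α] at e3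
    linear_combination (-(τ x + τ x * τ x) * β) * e3
  · rw [C.z.f_mul h12 h3, C.z.f_mul h1 h2, K.A _ hq1, K.V _ hq2, K.E _ hq3, f1, f2, c3,
      K.add _ _ (bar_one n) hx, K.one, K.mul _ _ (fixed_add hx (fixed_mul hx hx)) (fixed_N D.hq _),
      K.add _ _ hx (fixed_mul hx hx), K.mul _ _ hx hx]
    have e3 := K.e3
    have e2 := K.e2
    have e4 : N n (τ x * α + β) = (τ x) ^ 2 * N n α + N n β + τ x * Tr n (α * bar n β) := by
      rw [N_add' D.hq, N_mul, N_of_fixed hX, mul_assoc (τ x), Tr_mul_fixed hX]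
    rw [N_add' D.hq] at e2
    rw [e4]
    linear_combination (τ x) * e2 + (-(τ x + τ x * τ x)) * e3 + d * τ x * (N n α + N n β) * add_self (1 : F)

theorem mem2 (C : Co D y α β ζ) (K : Cs D y α β τ d e p) {x : F} (hx : bar n x = x) :
    ∃ q ∈ D.W (x * β), D.a (y * q * y⁻¹) = d * (1 + τ x) * (α + τ x * β) ∧
      D.f (y * q * y⁻¹) = d * (1 + τ x) ^ 2 := by
  obtain ⟨q1, hq1, a1, c1, f1⟩ := Co.exists_W' C.Phi β hx
  obtain ⟨q2, hq2, a2, c2, f2⟩ := Co.exists_V C.Phi (fixed_add (bar_one n) hx)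
  have hm : bar n ((x + x * x) * N n β) = (x + x * x) * N n β :=
    fixed_mul (fixed_add hx (fixed_mul hx hx)) (fixed_N D.hq _)
  obtain ⟨q3, hq3, a3, c3, f3⟩ := exists_E D.toChart hm
  have h1 := hq1.1
  have h2 := hq2.1
  have h3 := hq3.1
  have h12 := D.P.mul_mem h1 h2
  have hN : N n (x * β) = x ^ 2 * N n β := by rw [N_mul, N_of_fixed hx]
  refine ⟨q1 * q2 * q3, ⟨D.P.mul_mem h12 h3, ?_, ?_⟩, ?_, ?_⟩
  · rw [D.a_mul _ h12 _ h3, D.a_mul _ h1 _ h2, D.f_mul _ h12 _ h3, D.f_mul _ h1 _ h2, a1, a2, a3, f1, f2, f3]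
    linear_combination (-x * β) * add_self x
  · rw [D.c_mul _ h12 _ h3, D.c_mul _ h1 _ h2, D.f_mul _ h12 _ h3, D.f_mul _ h1 _ h2, c1, c2, c3, f1, f2, f3, hN]
    linear_combination (N n β * (1 - x ^ 2)) * add_self x
  · rw [C.z.a_mul h12 h3, C.z.a_mul h1 h2, (C.imB hq1).1, (C.imV hq2).1, (C.imE hq3).1, K.V _ hq2, K.E _ hq3, f2, c3,
      K.add _ _ (bar_one n) hx, K.one, K.mul _ _ (fixed_add hx (fixed_mul hx hx)) (fixed_N D.hq _),
      K.add _ _ hx (fixed_mul hx hx), K.mul _ _ hx hx]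
    linear_combination (-(τ x + τ x * τ x) * β) * K.e1
  · rw [C.z.f_mul h12 h3, C.z.f_mul h1 h2, (C.imB hq1).2, K.V _ hq2, K.E _ hq3, f2, c3,
      K.add _ _ (bar_one n) hx, K.one, K.mul _ _ (fixed_add hx (fixed_mul hx hx)) (fixed_N D.hq _),
      K.add _ _ hx (fixed_mul hx hx), K.mul _ _ hx hx]
    linear_combination (-(τ x + τ x * τ x)) * K.e1

/-- a conjugate of `V` containing an element with `f ≠ 0` -/
theorem eq_W_V {g : G} (hg : cj g D.P = D.P) {u : G} (hu : u ∈ cj g D.V) (hf : D.f u ≠ 0) :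
    cj g D.V = D.W (D.a u / D.f u) := by
  have key : ∀ A, u ∈ D.W A → A = D.a u / D.f u := by
    intro A h
    rw [eq_div_iff hf, h.2.1, mul_comm]
  rcases Chart.cj_V (D := D.toChart) hg with h | ⟨-, ⟨A, -, h⟩ | ⟨h, -⟩⟩
  · rw [h] at hu ⊢
    rw [← D.W_zero] at hu ⊢
    rw [← key 0 hu]
  · rw [h] at hu ⊢
    rw [← key A hu]
  · rw [h] at hu
    exact absurd hu.2.2 hf

theorem eq_W_E (hk : D.kap = 0) {g : G} (hg : cj g D.P = D.P) {u : G} (hu : u ∈ cj g D.E) (hf : D.f u ≠ 0) :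
    cj g D.E = D.W (D.a u / D.f u) := by
  have key : ∀ A, u ∈ D.W A → A = D.a u / D.f u := by
    intro A h
    rw [eq_div_iff hf, h.2.1, mul_comm]
  rcases Chart.cj_E (D := D.toChart) hg hk with h | ⟨⟨A, h⟩, -⟩
  · rw [h] at hu
    exact absurd hu.2.2 hf
  · rw [h] at hu ⊢
    rw [← key A hu]

/-- the element `y h_x y` -/
theorem exists_g (hy : cj y D.P = D.P) (C : Co D y α β ζ) {x : F} (hx : bar n x = x) (x0 : x ≠ 0) :
    ∃ g : G, cj g D.P = D.P ∧ cj g D.V = cj y (D.W (x * α)) ∧ cj g D.E = cj y (D.W (x * β)) := by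
  let l : Fˣ := Units.mk0 x x0
  have hl : w n l = x := w_fixed (l := l) hx
  refine ⟨y * D.h l * y, ?_, ?_, ?_⟩
  · exact cj_mul_eq (cj_mul_eq hy (D.h_P l)) hy
  · rw [cj_mul, cj_mul, C.h1, cj_h_W, hl]
  · rw [cj_mul, cj_mul, C.h3, cj_h_W, hl]

theorem mem_Z_of {u : G} (hu : u ∈ D.P) (ha : D.a u = 0) (hc : D.c u = 0) (hf : D.f u = 0) : u ∈ D.Z :=
  D.ker u hu ha hc hf

/-- `β / α ∉ F_q` -/
theorem not_fixed (hy : cj y D.P = D.P) (C : Co D y α β ζ) (K : Cs D y α β τ d e p) {ρ : F} (hρ : bar n ρ = ρ)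
    (h : β = ρ * α) : False := by
  have ρ0 : ρ ≠ 0 := by
    rintro rfl; exact C.β0 (by rw [h, zero_mul])
  have ρ1 : ρ ≠ 1 := by
    rintro rfl; exact C.ne (by rw [h, one_mul])
  have hNα : N n α ≠ 0 := N_ne_zero C.α0
  have T0 : τ (N n α) ≠ 0 := by
    intro h0
    have h1 : τ 0 = 0 := by
      have h2 := K.add 0 0 (bar_zero n) (bar_zero n)
      rw [add_zero] at h2
      exact left_eq_add.mp h2
    exact hNα (K.inj _ _ (fixed_N D.hq _) (bar_zero n) (h0.trans h1.symm))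
  have hτ : τ ρ = ρ := by
    have h1 : N n β = ρ * ρ * N n α := by rw [h, N_mul, N_of_fixed hρ, pow_two]
    have h2 : τ (N n β) = τ ρ * τ ρ * τ (N n α) := by
      rw [h1, K.mul _ _ (fixed_mul hρ hρ) (fixed_N D.hq _), K.mul _ _ hρ hρ]
    have h3 := K.e3
    rw [K.e1, h2, h1] at h3
    have h4 : τ ρ * τ ρ = ρ * ρ := by
      apply mul_left_cancel₀ (mul_ne_zero K.e0 (mul_ne_zero T0 hNα))
      linear_combination h3
    have h5 : (τ ρ + ρ) * (τ ρ + ρ) = 0 := by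
      have h6 : (τ ρ + ρ) * (τ ρ + ρ) = τ ρ * τ ρ + ρ * ρ + (τ ρ * ρ + τ ρ * ρ) := by ring
      rw [h6, add_self, add_zero, h4, add_self]
    exact add_eq_zero.mp (mul_self_eq_zero.mp h5)
  obtain ⟨g, hg, hgV, hgE⟩ := exists_g hy C hρ ρ0
  obtain ⟨q, hq, fq, -, e2⟩ := mem1 C K hρ
  obtain ⟨q', hq', e3, e4⟩ := mem2 C K hρ
  have hNβ : N n β ≠ 0 := N_ne_zero C.β0
  have f0 : D.f (y * q * y⁻¹) = 0 := by
    have h1 : τ ρ * α + β = 0 := by rw [hτ, h, add_self]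
    rw [h1, N_zero, mul_zero] at e2
    exact (mul_eq_zero.mp e2).resolve_right hNβ
  have hu : y * q * y⁻¹ ∈ cj g D.V := by rw [hgV]; exact mem_cj_mul hq
  have hE : cj g D.V = D.E := by
    have key : ∀ A, y * q * y⁻¹ ∈ D.W A → False := by
      intro A hA
      have h1 : y * q * y⁻¹ ∈ D.Z := mem_Z_of hA.1 (by rw [hA.2.1, f0, zero_mul]) (by rw [hA.2.2, f0, zero_mul]) f0
      have h2 := inv_conj_mem (cj_Z D.toChart hy) h1
      have h3 : y⁻¹ * (y * q * y⁻¹) * y = q := by group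
      rw [h3] at h2
      obtain ⟨b, hb, hq2⟩ := h2
      rw [hq2, D.f_z b hb] at fq
      exact zero_ne_one fq
    rcases Chart.cj_V (D := D.toChart) hg with h1 | ⟨-, ⟨A, -, h1⟩ | ⟨h1, -⟩⟩
    · rw [h1, ← D.W_zero] at hu; exact (key 0 hu).elim
    · rw [h1] at hu; exact (key A hu).elim
    · exact h1
  have hs : 1 + τ ρ ≠ 0 := by
    rw [hτ]; intro h1; exact ρ1 (Cfsg.Agent.StdU3.Field.add_eq_zero.mp h1).symm
  have f1 : D.f (y * q' * y⁻¹) ≠ 0 := by
    rw [e4]; exact mul_ne_zero K.d0 (pow_ne_zero 2 hs)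
  have hu' : y * q' * y⁻¹ ∈ cj g D.E := by rw [hgE]; exact mem_cj_mul hq'
  have hE' := eq_W_E C.k hg hu' f1
  have ha : D.a (y * q' * y⁻¹) ≠ 0 := by
    rw [e3]
    refine mul_ne_zero (mul_ne_zero K.d0 hs) ?_
    rw [hτ, h]
    have h1 : α + ρ * (ρ * α) = α * ((1 + ρ) * (1 + ρ)) := by
      have h2 : α * ((1 + ρ) * (1 + ρ)) = α + ρ * (ρ * α) + (ρ * α + ρ * α) := by ring
      rw [h2, add_self, add_zero]
    rw [h1, ← hτ]
    rw [hτ]
    have hs' : 1 + ρ ≠ 0 := by rwa [hτ] at hs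
    exact mul_ne_zero C.α0 (mul_ne_zero hs' hs')
  obtain ⟨l, hl, hl1⟩ := exists_fixed_ne D.hq
  have h1 : cj (D.h l * g) D.V = cj g D.V := by rw [cj_mul, hE, cj_h_E]
  have h2 := partner D h1
  rw [cj_mul, hE', cj_h_W] at h2
  have h3 := W_inj D.toChart h2
  rw [w_fixed hl] at h3
  have h4 : D.a (y * q' * y⁻¹) / D.f (y * q' * y⁻¹) ≠ 0 := div_ne_zero ha f1
  exact hl1 (mul_right_cancel₀ h4 (h3.trans (one_mul _).symm))

/-- the ratio at `w'` -/
theorem exists_ratio (hy : cj y D.P = D.P) (C : Co D y α β ζ) (K : Cs D y α β τ d e p) {x : F} (hx : bar n x = x)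
    (x0 : x ≠ 0) (x1 : x ≠ 1) : ∃ g A, A ≠ 0 ∧ cj g D.V = D.W A ∧
      cj g D.E = D.W ((α + τ x * β) * (τ x * α + β) / ((1 + τ x) ^ 2 * (α * β)) * A) := by
  obtain ⟨g, hg, hgV, hgE⟩ := exists_g hy C hx x0
  obtain ⟨q, hq, fq, e1, e2⟩ := mem1 C K hx
  obtain ⟨q', hq', e3, e4⟩ := mem2 C K hx
  have hX : bar n (τ x) = τ x := K.fix x hx
  have hs : 1 + τ x ≠ 0 := by
    intro h1
    have h2 := Cfsg.Agent.StdU3.Field.add_eq_zero.mp h1
    rw [← K.one] at h2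
    exact x1 (K.inj _ _ (bar_one n) hx h2).symm
  have hne : τ x * α + β ≠ 0 := by
    intro h1
    exact not_fixed hy C K hX (Cfsg.Agent.StdU3.Field.add_eq_zero.mp h1).symm
  have hNβ : N n β ≠ 0 := N_ne_zero C.β0
  have hb : bar n (τ x * α + β) ≠ 0 := fun h' => hne (bar_eq_zero h')
  have f0 : D.f (y * q * y⁻¹) ≠ 0 := by
    intro h0
    rw [h0, zero_mul] at e2
    exact mul_ne_zero K.d0 (N_ne_zero hne) e2.symm
  have f1 : D.f (y * q' * y⁻¹) ≠ 0 := by
    rw [e4]; exact mul_ne_zero K.d0 (pow_ne_zero 2 hs)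
  have h1 := eq_W_V hg (by rw [hgV]; exact mem_cj_mul hq) f0
  have h2 := eq_W_E C.k hg (by rw [hgE]; exact mem_cj_mul hq') f1
  have hA : D.a (y * q * y⁻¹) / D.f (y * q * y⁻¹) = (1 + τ x) * (α * β) / (τ x * α + β) := by
    rw [div_eq_div_iff f0 hne]
    apply mul_right_cancel₀ hNβ
    calc D.a (y * q * y⁻¹) * (τ x * α + β) * N n β = D.a (y * q * y⁻¹) * N n β * (τ x * α + β) := by ring
      _ = (1 + τ x) * (α * β) * (d * ((τ x * α + β) * bar n (τ x * α + β))) := by rw [e1]; ring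
      _ = (1 + τ x) * (α * β) * (d * N n (τ x * α + β)) := by rw [N_def n (τ x * α + β)]
      _ = (1 + τ x) * (α * β) * D.f (y * q * y⁻¹) * N n β := by rw [← e2]; ring
  have hα := C.α0
  have hβ := C.β0
  have hd := K.d0
  have hB : D.a (y * q' * y⁻¹) / D.f (y * q' * y⁻¹) =
      (α + τ x * β) * (τ x * α + β) / ((1 + τ x) ^ 2 * (α * β)) * ((1 + τ x) * (α * β) / (τ x * α + β)) := by
    rw [e3, e4]
    field_simp
  refine ⟨g, (1 + τ x) * (α * β) / (τ x * α + β), ?_, ?_, ?_⟩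
  · exact div_ne_zero (mul_ne_zero hs (mul_ne_zero C.α0 C.β0)) hne
  · rw [h1, hA]
  · rw [h2, hB]

/-- the ratio function -/
def rt (α β X : F) : F := (α + X * β) * (X * α + β) / ((1 + X) ^ 2 * (α * β))

theorem one_add_ne {X : F} (h : X ≠ 1) : 1 + X ≠ 0 := fun h' =>
  h (Cfsg.Agent.StdU3.Field.add_eq_zero.mp h').symm

theorem rt_ne (hα : α ≠ 0) (hβ : β ≠ 0) (hne : α ≠ β) {X Y : F} (hX : X ≠ 1) (hY : Y ≠ 1) (hXY : X ≠ Y)
    (hXY' : X * Y ≠ 1) : rt α β X ≠ rt α β Y := by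
  intro h
  unfold rt at h
  have hX' := one_add_ne hX
  have hY' := one_add_ne hY
  rw [div_eq_div_iff (mul_ne_zero (pow_ne_zero 2 hX') (mul_ne_zero hα hβ))
    (mul_ne_zero (pow_ne_zero 2 hY') (mul_ne_zero hα hβ))] at h
  have h2 : (2 : F) = 0 := CharTwo.two_eq_zero
  have h1 : (α * β) * ((α + β) ^ 2 * ((X + Y) * (1 + X * Y))) = 0 := by
    linear_combination h + (α * β ^ 3 * X ^ 2 * Y + α * β ^ 3 * Y + α ^ 2 * β ^ 2 * X * 2 +
      α ^ 2 * β ^ 2 * X * Y ^ 2 * 2 + α ^ 3 * β * X ^ 2 * Y + α ^ 3 * β * Y) * h2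
  have h3 : α + β ≠ 0 := fun h' => hne (Cfsg.Agent.StdU3.Field.add_eq_zero.mp h')
  have h4 : X + Y ≠ 0 := fun h' => hXY (Cfsg.Agent.StdU3.Field.add_eq_zero.mp h')
  have h5 : 1 + X * Y ≠ 0 := one_add_ne hXY'
  exact mul_ne_zero (mul_ne_zero hα hβ) (mul_ne_zero (pow_ne_zero 2 h3) (mul_ne_zero h4 h5)) h1

theorem rt_ne' (hα : α ≠ 0) (hβ : β ≠ 0) (hne : α ≠ β) (hρ : ∀ ρ, bar n ρ = ρ → β ≠ ρ * α) {X : F}
    (hb : bar n X = X) (hX : X ≠ 1) (hX0 : X ≠ 0) : rt α β X ≠ β / α := by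
  intro h
  unfold rt at h
  have hX' := one_add_ne hX
  rw [div_eq_div_iff (mul_ne_zero (pow_ne_zero 2 hX') (mul_ne_zero hα hβ)) hα] at h
  have h2 : (2 : F) = 0 := CharTwo.two_eq_zero
  have h1 : α * ((α + β) * (X * α + (1 + X + X ^ 2) * β)) = 0 := by
    linear_combination h + (α * β ^ 2 + α * β ^ 2 * X + α * β ^ 2 * X ^ 2 + α ^ 2 * β * X) * h2
  have h3 : α + β ≠ 0 := fun h' => hne (Cfsg.Agent.StdU3.Field.add_eq_zero.mp h')
  have h4 : X * α = (1 + X + X ^ 2) * β := by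
    have h5 := (mul_eq_zero.mp ((mul_eq_zero.mp h1).resolve_left hα)).resolve_left h3
    exact Cfsg.Agent.StdU3.Field.add_eq_zero.mp h5
  have h6 : 1 + X + X ^ 2 ≠ 0 := by
    intro h0
    rw [h0, zero_mul] at h4
    exact mul_ne_zero hX0 hα h4
  apply hρ (X / (1 + X + X ^ 2))
  · rw [div_eq_mul_inv]
    apply fixed_mul hb
    apply fixed_inv
    rw [pow_two]
    exact fixed_add (fixed_add (bar_one n) hb) (fixed_mul hb hb)
  · rw [div_mul_eq_mul_div, eq_div_iff h6, h4, mul_comm]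

theorem pow_tau (K : Cs D y α β τ d e p) {t : F} (ht : bar n t = t) (k : ℕ) : τ (t ^ k) = τ t ^ k := by
  induction k with
  | zero => rw [pow_zero, pow_zero, K.one]
  | succ k ih => rw [pow_succ, pow_succ, K.mul _ _ (by rw [bar_pow, ht]) ht, ih]

theorem false_of_four (hq : Qd F n) (A R : Fin 4 → F) (g : Fin 4 → G) (hA : ∀ i, A i ≠ 0)
    (hV : ∀ i, cj (g i) D.V = D.W (A i)) (hE : ∀ i, cj (g i) D.E = D.W (R i * A i))
    (hR : ∀ i j, i < j → R i ≠ R j) : False := by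
  obtain ⟨i, j, hij, l, hl⟩ := exists_pair hq A hA
  have h1 := ratio D (hV i) (hE i) (hV j) (hE j) hl
  have h2 : R j = R i := by
    apply mul_right_cancel₀ (hA j)
    rw [h1, hl]; ring
  rcases lt_or_gt_of_ne hij with h | h
  · exact hR i j h h2.symm
  · exact hR j i h h2

end

/-- **PIECE C of `u3e`.** -/
theorem swapTwo (D : Dat G F n) {y : G} (hy : cj y D.P = D.P) {α β : F} (hα : α ≠ 0) (hβ : β ≠ 0)
    (h1 : cj y D.V = D.W α) (h2 : cj y (D.W α) = D.V) (h3 : cj y D.E = D.W β) (h4 : cj y (D.W β) = D.E) :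
    False := by
  have hk : D.kap = 0 := by
    rcases Chart.cj_V (D := D.toChart) hy with h | ⟨h, -⟩
    · rw [h1, ← D.W_zero] at h
      exact absurd (W_inj D.toChart h) hα
    · exact h
  have hPhi : ∀ b, bar n b = b → b ∈ D.Phi := by
    rcases Chart.cj_E (D := D.toChart) hy hk with h | ⟨-, h⟩
    · rw [h3] at h
      exact absurd h (W_ne_E D.toChart β)
    · exact h
  obtain ⟨ζ, hζ⟩ := exists_zeta D.toChart hy
  have C : Co D y α β ζ := ⟨hζ, hk, hPhi, hα, hβ, h1, h2, h3, h4⟩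
  obtain ⟨τ, d, e, p, K⟩ := exists_cs D C
  have hρ : ∀ ρ, bar n ρ = ρ → β ≠ ρ * α := fun ρ hρ h => not_fixed hy C K hρ h
  have hfix : ∀ x, bar n x = x → x ≠ 0 → τ x ≠ 0 := by
    intro x hx hx0 h0
    have h5 : τ 0 = 0 := by
      have h6 := K.add 0 0 (bar_zero n) (bar_zero n)
      rw [add_zero] at h6
      exact left_eq_add.mp h6
    exact hx0 (K.inj _ _ hx (bar_zero n) (h0.trans h5.symm))
  have hfix1 : ∀ x, bar n x = x → x ≠ 1 → τ x ≠ 1 := by
    intro x hx hx1 h0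
    rw [← K.one] at h0
    exact hx1 (K.inj _ _ hx (bar_one n) h0)
  have hβα : β = β / α * α := (div_mul_cancel₀ β hα).symm
  rcases Nat.lt_or_ge 2 n with hn | hn
  · obtain ⟨t, ht, ht0, ht'⟩ := exists_t D.hq hn
    have hf : ∀ k, bar n (t ^ k) = t ^ k := fun k => by rw [bar_pow, ht]
    obtain ⟨g1, A1, hA1, hV1, hE1⟩ := exists_ratio hy C K (hf 1) (pow_ne_zero _ ht0) (ht' 1 (by norm_num) (by norm_num))
    obtain ⟨g2, A2, hA2, hV2, hE2⟩ := exists_ratio hy C K (hf 2) (pow_ne_zero _ ht0) (ht' 2 (by norm_num) (by norm_num))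
    obtain ⟨g3, A3, hA3, hV3, hE3⟩ := exists_ratio hy C K (hf 3) (pow_ne_zero _ ht0) (ht' 3 (by norm_num) (by norm_num))
    have key0 : ∀ k, 1 ≤ k → k ≤ 3 → β / α ≠ rt α β (τ (t ^ k)) := fun k hk hk3 h =>
      rt_ne' hα hβ C.ne hρ (K.fix _ (hf k)) (hfix1 _ (hf k) (ht' k hk (by omega)))
        (hfix _ (hf k) (pow_ne_zero _ ht0)) h.symm
    have key : ∀ i k, 1 ≤ i → 1 ≤ k → i + (i + k) ≤ 5 → rt α β (τ (t ^ i)) ≠ rt α β (τ (t ^ (i + k))) := by
      intro i k hi hk hik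
      apply rt_ne hα hβ C.ne (hfix1 _ (hf i) (ht' i hi (by omega))) (hfix1 _ (hf _) (ht' _ (by omega) (by omega)))
      · intro h
        have h5 := K.inj _ _ (hf i) (hf _) h
        rw [pow_add] at h5
        have h6 : t ^ i * t ^ k = t ^ i * 1 := by rw [← h5, mul_one]
        exact ht' k hk (by omega) (mul_left_cancel₀ (pow_ne_zero _ ht0) h6)
      · rw [← K.mul _ _ (hf i) (hf _), ← pow_add]
        exact hfix1 _ (hf _) (ht' _ (by omega) (by omega))
    refine false_of_four (D := D) D.hq ![α, A1, A2, A3]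
      ![β / α, rt α β (τ (t ^ 1)), rt α β (τ (t ^ 2)), rt α β (τ (t ^ 3))] ![y, g1, g2, g3] ?_ ?_ ?_ ?_
    · intro i
      fin_cases i
      · exact hα
      · exact hA1
      · exact hA2
      · exact hA3
    · intro i
      fin_cases i
      · exact h1
      · exact hV1
      · exact hV2
      · exact hV3
    · intro i
      fin_cases i
      · show cj y D.E = D.W (β / α * α)
        rw [← hβα]; exact h3
      · exact hE1
      · exact hE2
      · exact hE3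
    · intro i j hij
      fin_cases i <;> fin_cases j
      all_goals first
        | exact absurd hij (by decide)
        | exact key0 1 (by norm_num) (by norm_num)
        | exact key0 2 (by norm_num) (by norm_num)
        | exact key0 3 (by norm_num) (by norm_num)
        | exact key 1 1 (by norm_num) (by norm_num) (by norm_num)
        | exact key 1 2 (by norm_num) (by norm_num) (by norm_num)
        | exact key 2 1 (by norm_num) (by norm_num) (by norm_num)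
  · have hn2 : n = 2 := le_antisymm hn D.hq.hn
    subst hn2
    obtain ⟨l, hl, hl1⟩ := exists_fixed_ne D.hq
    obtain ⟨g, A, hA, hgV, hgE⟩ := exists_ratio hy C K hl l.ne_zero hl1
    obtain ⟨m, hm⟩ := exists_w D.hq (Units.mk0 (A / α) (div_ne_zero hA hα))
    have hm' : A = w 2 m * α := by
      rw [hm, Units.val_mk0, div_mul_cancel₀ _ hα]
    have h5 := ratio D h1 h3 hgV hgE hm'
    have h6 := rt_ne' hα hβ C.ne hρ (K.fix _ hl) (hfix1 _ hl hl1) (hfix _ hl l.ne_zero)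
    apply h6
    apply mul_right_cancel₀ hA
    change rt α β (τ l) * A = _ at h5
    rw [h5, hm']
    field_simp

end Cfsg.Agent.OddHalf.D4.U3.SwapTwo

end

-- merged: Cfsg.Agent.OddHalf.D4.U3.Trans
section

/-!
# ODD, D4, row `K = U₃(q)`: the conjugates of `V` under `N(P)` are `V` and possibly `E` (PIECE D of #14847)
-/

set_option autoImplicit false

namespace Cfsg.Agent.OddHalf.D4.U3.Trans

open Cfsg.Agent.StdU3.Field Cfsg.Agent.OddHalf.D4.CommConj Cfsg.Agent.OddHalf.D4.U3.Defs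
  Cfsg.Agent.OddHalf.D4.U3.TransCore

universe u v

variable {G : Type u} [Group G] {F : Type v} [Field F] [Fintype F] [CharP F 2] {n : ℕ}

theorem inp [Finite G] (D : Dat G F n) : Inp D where
  cV _ hx := Chart.cj_V hx
  cE _ hx hk := Chart.cj_E hx hk
  one _ _ hy hα h1 h2 h3 := SwapOne.swapOne D hy hα h1 h2 h3
  two _ _ _ hy hα hβ h1 h2 h3 h4 := SwapTwo.swapTwo D hy hα hβ h1 h2 h3 h4

/-- **PIECE D** -/
theorem trans [Finite G] (D : Dat G F n) {y : G} (hy : cj y D.P = D.P) (h2 : ∃ k : ℕ, y ^ 2 ^ k = 1)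
    (hV : cj y D.V ≠ D.V) : D.kap = 0 ∧ (∀ b, bar n b = b → b ∈ D.Phi) ∧
      ∀ x, cj x D.P = D.P → cj x D.V = D.V ∨ cj x D.V = D.E :=
  TransCore.trans (inp D) hy h2 hV

end Cfsg.Agent.OddHalf.D4.U3.Trans

end

-- merged: Cfsg.Agent.OddHalf.D4.U3.Types
section

/-!
# ODD, D4, row `K = U₃(q)`: a Sylow 2-subgroup of `N(P)` (PIECE E of #14847)
-/

set_option autoImplicit false

namespace Cfsg.Agent.OddHalf.D4.U3.Types

open Cfsg.Agent.OddHalf.D4.U3.Defs

universe u v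

variable {G : Type u} [Group G] {F : Type v} [Field F] [Fintype F] [CharP F 2] {n : ℕ}

/-- **PIECE E** -/
theorem exists_syl [Finite G] (D : Dat G F n) : ∃ T : Subgroup G, Syl D T :=
  TypesOf.exists_syl_of D fun _ h1 h2 h3 => Trans.trans D h1 h2 h3

end Cfsg.Agent.OddHalf.D4.U3.Types

end

-- merged: Cfsg.Agent.OddHalf.D4.U3.Weak
section

/-!
# ODD, D4, row `K = U₃(q)`: `P` is weakly closed in a Sylow 2-subgroup of `N(P)`
-/

set_option autoImplicit false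

namespace Cfsg.Agent.OddHalf.D4.U3.Weak

open Subgroup Cfsg.Agent.StdU3.Field Cfsg.Agent.StdU3.PreDef Cfsg.Agent.OddHalf.D4.CommConj
  Cfsg.Agent.OddHalf.D4.Basic Cfsg.Agent.OddHalf.D4.U3.Defs

universe u v

section index

variable {G : Type*} [Group G] [Finite G]

theorem le_relIndex {H K : Subgroup G} {ι : Type*} (f : ι → G) (hf : ∀ i, f i ∈ K)
    (hinj : ∀ i j, (f i)⁻¹ * f j ∈ H → i = j) : Nat.card ι ≤ H.relIndex K := by
  have h : Function.Injective (fun i : ι => ((⟨f i, hf i⟩ : ↥K) : ↥K ⧸ H.subgroupOf K)) := by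
    intro i j hij
    have h1 := QuotientGroup.eq.mp hij
    rw [mem_subgroupOf] at h1
    exact hinj i j h1
  exact Nat.card_le_card_of_injective _ h

omit [Finite G] in
theorem relIndex_le {H K : Subgroup G} {k : ℕ} (φ : G → Fin k)
    (h : ∀ x ∈ K, ∀ y ∈ K, φ x = φ y → x⁻¹ * y ∈ H) : H.relIndex K ≤ k := by
  have h1 : Function.Injective (fun c : ↥K ⧸ H.subgroupOf K => φ (c.out : ↥K)) := by
    intro c d hcd
    have h2 := h _ c.out.2 _ d.out.2 hcd
    rw [← QuotientGroup.out_eq' c, ← QuotientGroup.out_eq' d, QuotientGroup.eq, mem_subgroupOf]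
    exact h2
  have h2 := Nat.card_le_card_of_injective _ h1
  rw [Nat.card_eq_fintype_card (α := Fin k), Fintype.card_fin] at h2
  exact h2

theorem relIndex_comm {H K : Subgroup G} (h : Nat.card H = Nat.card K) : H.relIndex K = K.relIndex H := by
  have h1 := (H.subgroupOf K).card_mul_index
  have h2 := (K.subgroupOf H).card_mul_index
  have h3 : Nat.card (H.subgroupOf K) = Nat.card ↥(H ⊓ K) := by
    rw [← Subgroup.inf_subgroupOf_right]
    exact Nat.card_congr (Subgroup.subgroupOfEquivOfLe inf_le_right).toEquiv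
  have h4 : Nat.card (K.subgroupOf H) = Nat.card ↥(H ⊓ K) := by
    rw [← Subgroup.inf_subgroupOf_left]
    exact Nat.card_congr (Subgroup.subgroupOfEquivOfLe inf_le_left).toEquiv
  rw [h3] at h1
  rw [h4, h, ← h1] at h2
  exact (Nat.eq_of_mul_eq_mul_left Nat.card_pos h2).symm

end index

section

variable {G : Type u} [Group G] {F : Type v} [Field F] [Fintype F] [CharP F 2] {n : ℕ} (D : Dat G F n)

theorem z_zb {b : F} (hb : bar n b = b) : D.z b * D.z b = 1 := by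
  rw [← D.z_add b b hb hb, Cfsg.Agent.StdU3.Field.add_self, D.z_zero]

/-- every `z b` is a commutator of two elements of `S` -/
theorem z_comm {b : F} (hb : bar n b = b) : ∃ x ∈ D.S, ∃ y ∈ D.S, x * y * x⁻¹ * y⁻¹ = D.z b := by
  obtain ⟨e, he⟩ := exists_Tr_eq D.hq one_ne_zero hb
  obtain ⟨x, hx, hxa, hxc, hxf⟩ := D.surj 1 0 0 (bar_zero n) D.Phi.zero_mem
  obtain ⟨y, hy, hya, hyc, hyf⟩ := D.surj e 0 0 (bar_zero n) D.Phi.zero_mem
  refine ⟨x, ⟨hx, hxc, hxf⟩, y, ⟨hy, hyc, hyf⟩, ?_⟩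
  rw [D.comm x hx y hy, hxa, hya, hxc, hyc, zero_mul, zero_mul, add_zero, add_zero, he]
  group

/-- commutators of elements of `P` -/
theorem comm_mem {x y : G} (hx : x ∈ D.P) (hy : y ∈ D.P) : x * y * x⁻¹ * y⁻¹ ∈ D.Z := by
  refine ⟨Tr n (D.a x * bar n (D.a y)) + (D.c x * D.f y + D.c y * D.f x), ?_, ?_⟩
  · refine fixed_add (fixed_Tr D.hq _) (fixed_add ?_ ?_)
    · exact fixed_mul (D.fix_c x hx) (D.fix_Phi _ (D.f_mem y hy))
    · exact fixed_mul (D.fix_c y hy) (D.fix_Phi _ (D.f_mem x hx))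
  · rw [D.comm x hx y hy]; group

theorem form_fixed {x : G} (hx : x ∈ D.P) :
    bar n (N n (D.a x) + D.kap * D.c x + D.c x * D.f x) = N n (D.a x) + D.kap * D.c x + D.c x * D.f x :=
  fixed_add (fixed_add (fixed_N D.hq _) (fixed_mul D.fix_kap (D.fix_c x hx)))
    (fixed_mul (D.fix_c x hx) (D.fix_Phi _ (D.f_mem x hx)))

theorem sq_mem {x : G} (hx : x ∈ D.P) : x * x ∈ D.Z :=
  ⟨_, form_fixed D hx, D.sq x hx⟩

/-- an element of `P` of square one is singular -/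
theorem form_eq {x : G} (hx : x ∈ D.P) (h : x * x = 1) :
    N n (D.a x) + D.kap * D.c x + D.c x * D.f x = 0 := by
  apply D.z_inj _ (form_fixed D hx)
  rw [← D.sq x hx, h]

theorem Z_le : D.Z ≤ D.P := by
  rintro x ⟨b, hb, rfl⟩
  exact D.z_mem b hb

/-- coordinates of `[x, u]` -/
theorem coord {x u : G} (hx : cj x D.P = D.P) (hu : u ∈ D.P) :
    x * u * x⁻¹ * u⁻¹ ∈ D.P ∧ D.a (x * u * x⁻¹ * u⁻¹) = D.a (x * u * x⁻¹) + D.a u ∧
      D.c (x * u * x⁻¹ * u⁻¹) = D.c (x * u * x⁻¹) + D.c u ∧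
      D.f (x * u * x⁻¹ * u⁻¹) = D.f (x * u * x⁻¹) + D.f u := by
  have h1 : x * u * x⁻¹ ∈ D.P := hx ▸ mem_cj_mul hu
  have h2 := D.P.inv_mem hu
  refine ⟨D.P.mul_mem h1 h2, ?_, ?_, ?_⟩
  · rw [D.a_mul _ h1 _ h2, D.a_inv hu]
  · rw [D.c_mul _ h1 _ h2, D.c_inv hu]
  · rw [D.f_mul _ h1 _ h2, D.f_inv hu]

/-- type `F`: singular commutators -/
theorem typF_sing {x : G} (hx : cj x D.P = D.P) {c₀ : F}
    (h : ∀ p ∈ D.P, D.a (x * p * x⁻¹) = c₀ * bar n (D.a p) ∧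
      D.c (x * p * x⁻¹) = D.c p ∧ D.f (x * p * x⁻¹) = D.f p) {u : G} (hu : u ∈ D.P)
    (h2 : (x * u * x⁻¹ * u⁻¹) * (x * u * x⁻¹ * u⁻¹) = 1) : c₀ * bar n (D.a u) + D.a u = 0 := by
  obtain ⟨h3, h4, h5, h6⟩ := coord D hx hu
  have h7 := form_eq D h3 h2
  obtain ⟨h8, h9, h10⟩ := h u hu
  rw [h5, h6, h4, h8, h9, h10, Cfsg.Agent.StdU3.Field.add_self, Cfsg.Agent.StdU3.Field.add_self, mul_zero,
    add_zero, mul_zero, add_zero] at h7
  exact N_eq_zero h7

/-- type `G`: singular commutators -/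
theorem typG_sing {x : G} (hx : cj x D.P = D.P) (hk : D.kap = 0) {θ : F} (hθ : θ ≠ 0)
    (h : ∀ p ∈ D.P, D.a (x * p * x⁻¹) = D.a p ∧
      D.c (x * p * x⁻¹) = θ * D.f p ∧ D.f (x * p * x⁻¹) = θ⁻¹ * D.c p) {u : G} (hu : u ∈ D.P)
    (h2 : (x * u * x⁻¹ * u⁻¹) * (x * u * x⁻¹ * u⁻¹) = 1) : θ * D.f u + D.c u = 0 := by
  obtain ⟨h3, h4, h5, h6⟩ := coord D hx hu
  have h7 := form_eq D h3 h2
  obtain ⟨h8, h9, h10⟩ := h u hu
  rw [h5, h6, h4, h8, h9, h10, Cfsg.Agent.StdU3.Field.add_self, hk, zero_mul, N_zero, add_zero, zero_add] at h7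
  have h11 : (θ * D.f u + D.c u) * (θ⁻¹ * D.c u + D.f u) = θ⁻¹ * (θ * D.f u + D.c u) ^ 2 := by
    field_simp; ring
  rw [h11] at h7
  rcases mul_eq_zero.mp h7 with h12 | h12
  · exact absurd h12 (inv_ne_zero hθ)
  · exact pow_eq_zero_iff (two_ne_zero) |>.mp h12

/-- type `U`: singular commutators with elements of `S` -/
theorem typU_sing {x : G} (hx : cj x D.P = D.P) (_ : D.kap = 0) {c₀ θ : F}
    (h : ∀ p ∈ D.P, D.a (x * p * x⁻¹) = c₀ * bar n (D.a p) ∧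
      D.c (x * p * x⁻¹) = θ * D.f p ∧ D.f (x * p * x⁻¹) = θ⁻¹ * D.c p) {u : G} (hu : u ∈ D.P)
    (hc : D.c u = 0) (hf : D.f u = 0)
    (h2 : (x * u * x⁻¹ * u⁻¹) * (x * u * x⁻¹ * u⁻¹) = 1) : c₀ * bar n (D.a u) + D.a u = 0 := by
  obtain ⟨h3, h4, h5, h6⟩ := coord D hx hu
  have h7 := form_eq D h3 h2
  obtain ⟨h8, h9, h10⟩ := h u hu
  rw [h5, h6, h4, h8, h9, h10, hc, hf, mul_zero, mul_zero, add_zero, mul_zero, add_zero, mul_zero,
    add_zero] at h7
  exact N_eq_zero h7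

theorem cj_sq {g x u : G} (hx : x ∈ cj g D.P) (hu : u ∈ cj g D.P) :
    (x * u * x⁻¹ * u⁻¹) * (x * u * x⁻¹ * u⁻¹) = 1 := by
  rw [mem_cj] at hx hu
  obtain ⟨b, hb, h⟩ := comm_mem D hx hu
  have h1 : x * u * x⁻¹ * u⁻¹ = g * D.z b * g⁻¹ := by
    rw [← h]; group
  rw [h1]
  have h2 : g * D.z b * g⁻¹ * (g * D.z b * g⁻¹) = g * (D.z b * D.z b) * g⁻¹ := by group
  rw [h2, z_zb D hb, mul_one, mul_inv_cancel]

/-- three values of `c₀ ā + a` -/
theorem exists_three {c₀ : F} (hq : Qd F n) : ∃ a l : F, bar n l = l ∧ l ≠ 0 ∧ l ≠ 1 ∧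
    c₀ * bar n a + a ≠ 0 := by
  obtain ⟨l, hl, hl1⟩ := exists_fixed_ne hq
  obtain ⟨e, he⟩ := exists_Tr_one hq
  by_cases h1 : c₀ * bar n 1 + 1 = 0
  · refine ⟨e, l, hl, l.ne_zero, hl1, ?_⟩
    rw [bar_one, mul_one] at h1
    rw [Cfsg.Agent.StdU3.Field.add_eq_zero] at h1
    rw [h1, one_mul, add_comm, ← Tr_def, he]
    exact one_ne_zero
  · exact ⟨1, l, hl, l.ne_zero, hl1, h1⟩

theorem many [Finite G] {ι : Type*} (α γ : ι → F) (hγ : ∀ i, bar n (γ i) = γ i) {R : Subgroup G}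
    (h : ∀ i j, ∀ u ∈ R, u ∈ D.P → D.a u = α i + α j → D.c u = γ i + γ j → D.f u = 0 → i = j) :
    Nat.card ι ≤ R.relIndex D.P := by
  have h0 : ∀ i, ∃ x ∈ D.P, D.a x = α i ∧ D.c x = γ i ∧ D.f x = 0 := fun i =>
    D.surj (α i) (γ i) 0 (hγ i) D.Phi.zero_mem
  choose x hx hxa hxc hxf using h0
  refine le_relIndex x hx ?_
  intro i j hij
  have hu := D.P.inv_mem (hx i)
  refine h i j _ hij (D.P.mul_mem hu (hx j)) ?_ ?_ ?_
  · rw [D.a_mul _ hu _ (hx j), D.a_inv (hx i), hxa, hxa]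
  · rw [D.c_mul _ hu _ (hx j), D.c_inv (hx i), hxc, hxc]
  · rw [D.f_mul _ hu _ (hx j), D.f_inv (hx i), hxf, hxf, add_zero]

omit [Fintype F] [CharP F 2] in
theorem inj_three {l : F} (h0 : l ≠ 0) (h1 : l ≠ 1) : Function.Injective ![0, 1, l] := by
  intro i j h
  fin_cases i <;> fin_cases j <;> simp_all

omit [Fintype F] [CharP F 2] in
theorem fix_three {l : F} (hl : bar n l = l) (i : Fin 3) : bar n (![0, 1, l] i) = ![0, 1, l] i := by
  fin_cases i
  · exact bar_zero n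
  · exact bar_one n
  · exact hl

theorem three_a [Finite G] {c₀ : F} {R : Subgroup G}
    (h : ∀ u ∈ R, u ∈ D.P → D.c u = 0 → D.f u = 0 → c₀ * bar n (D.a u) + D.a u = 0) :
    3 ≤ R.relIndex D.P := by
  obtain ⟨a, l, hl, hl0, hl1, hv⟩ := exists_three (c₀ := c₀) D.hq
  have key := many D (fun i : Fin 3 => ![0, 1, l] i * a) (fun _ => 0) (fun _ => bar_zero n) (R := R) ?_
  · rwa [Nat.card_eq_fintype_card, Fintype.card_fin] at key
  · intro i j u hu huP hua huc huf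
    have h1 := h u hu huP (by rw [huc, add_zero]) huf
    rw [hua, ← add_mul, bar_mul, fixed_add (fix_three hl i) (fix_three hl j)] at h1
    have h2 : (![0, 1, l] i + ![0, 1, l] j) * (c₀ * bar n a + a) = 0 := by linear_combination h1
    rcases mul_eq_zero.mp h2 with h3 | h3
    · exact inj_three hl0 hl1 (Cfsg.Agent.StdU3.Field.add_eq_zero.mp h3)
    · exact absurd h3 hv

theorem three_c [Finite G] {R : Subgroup G}
    (h : ∀ u ∈ R, u ∈ D.P → D.f u = 0 → D.c u = 0) :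
    3 ≤ R.relIndex D.P := by
  obtain ⟨l, hl, hl1⟩ := exists_fixed_ne D.hq
  have key := many D (fun _ : Fin 3 => 0) (fun i => ![0, 1, (l : F)] i) (fix_three hl) (R := R) ?_
  · rwa [Nat.card_eq_fintype_card, Fintype.card_fin] at key
  · intro i j u hu huP hua huc huf
    have h1 := h u hu huP huf
    rw [huc] at h1
    exact inj_three l.ne_zero hl1 (Cfsg.Agent.StdU3.Field.add_eq_zero.mp h1)

theorem six [Finite G] {c₀ : F} {R : Subgroup G}
    (h : ∀ u ∈ R, u ∈ D.P → c₀ * bar n (D.a u) + D.a u = 0)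
    (h' : ∀ u ∈ R, u ∈ D.P → D.f u = 0 → D.c u = 0) :
    6 ≤ R.relIndex D.P := by
  obtain ⟨a, l, hl, hl0, hl1, hv⟩ := exists_three (c₀ := c₀) D.hq
  have key := many D (fun i : Fin 3 × Fin 2 => ![0, 1, l] i.1 * a) (fun i => ![0, 1] i.2)
    (fun i => by obtain ⟨i, j⟩ := i; fin_cases j; exacts [bar_zero n, bar_one n]) (R := R) ?_
  · rwa [Nat.card_eq_fintype_card, Fintype.card_prod, Fintype.card_fin, Fintype.card_fin] at key
  · rintro ⟨i, i'⟩ ⟨j, j'⟩ u hu huP hua huc huf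
    have h1 := h u hu huP
    dsimp only at hua huc
    rw [hua, ← add_mul, bar_mul, fixed_add (fix_three hl i) (fix_three hl j)] at h1
    have h2 : (![0, 1, l] i + ![0, 1, l] j) * (c₀ * bar n a + a) = 0 := by linear_combination h1
    have h4 : i = j := by
      rcases mul_eq_zero.mp h2 with h3 | h3
      · exact inj_three hl0 hl1 (Cfsg.Agent.StdU3.Field.add_eq_zero.mp h3)
      · exact absurd h3 hv
    have h5 := h' u hu huP huf
    rw [huc, Cfsg.Agent.StdU3.Field.add_eq_zero] at h5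
    have h6 : i' = j' := by
      fin_cases i' <;> fin_cases j' <;> simp_all
    rw [h4, h6]

theorem inn {u p : G} (hu : u ∈ D.P) (hp : p ∈ D.P) :
    D.a (u * p * u⁻¹) = D.a p ∧ D.c (u * p * u⁻¹) = D.c p ∧ D.f (u * p * u⁻¹) = D.f p := by
  have h1 := D.P.mul_mem hu hp
  have h2 := D.P.inv_mem hu
  refine ⟨?_, ?_, ?_⟩
  · rw [D.a_mul _ h1 _ h2, D.a_mul _ hu _ hp, D.a_inv hu, add_comm (D.a u), add_assoc,
      Cfsg.Agent.StdU3.Field.add_self, add_zero]
  · rw [D.c_mul _ h1 _ h2, D.c_mul _ hu _ hp, D.c_inv hu, add_comm (D.c u), add_assoc,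
      Cfsg.Agent.StdU3.Field.add_self, add_zero]
  · rw [D.f_mul _ h1 _ h2, D.f_mul _ hu _ hp, D.f_inv hu, add_comm (D.f u), add_assoc,
      Cfsg.Agent.StdU3.Field.add_self, add_zero]

theorem FU {x y : G} (hx : TypF D x) (hy : TypU D y) : x * y ∉ D.P := by
  intro hxy
  obtain ⟨hx0, -, c₀, -, hx1⟩ := hx
  obtain ⟨hy0, -, -, -, c₁, θ, -, -, -, hy1⟩ := hy
  obtain ⟨p, hp, -, hpc, hpf⟩ := D.surj 0 1 0 (bar_one n) D.Phi.zero_mem
  have h1 := (inn D hxy hp).2.1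
  have h2 : x * y * p * (x * y)⁻¹ = x * (y * p * y⁻¹) * x⁻¹ := by group
  have h3 : y * p * y⁻¹ ∈ D.P := hy0 ▸ mem_cj_mul hp
  rw [h2, (hx1 _ h3).2.1, (hy1 _ hp).2.1, hpf, hpc, mul_zero] at h1
  exact zero_ne_one h1

theorem GU {x y : G} (hx : TypG D x) (hy : TypU D y) : x * y ∉ D.P := by
  intro hxy
  obtain ⟨hx0, -, -, -, θ', -, -, hx1⟩ := hx
  obtain ⟨hy0, -, -, -, c₁, θ, -, -, -, hy1⟩ := hy
  obtain ⟨a, -, -, -, -, ha⟩ := exists_three (c₀ := c₁) D.hq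
  obtain ⟨p, hp, hpa, -, -⟩ := D.surj a 0 0 (bar_zero n) D.Phi.zero_mem
  have h1 := (inn D hxy hp).1
  have h2 : x * y * p * (x * y)⁻¹ = x * (y * p * y⁻¹) * x⁻¹ := by group
  have h3 : y * p * y⁻¹ ∈ D.P := hy0 ▸ mem_cj_mul hp
  rw [h2, (hx1 _ h3).1, (hy1 _ hp).1, hpa] at h1
  exact ha (Cfsg.Agent.StdU3.Field.add_eq_zero.mpr h1)

variable {D}

theorem cj_Z_le {T : Subgroup G} (hT : Syl D T) {g : G} (hg : cj g D.P ≤ T) {x : G} (hx : x ∈ D.Z) :
    g * x * g⁻¹ ∈ D.P := by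
  obtain ⟨b, hb, rfl⟩ := hx
  obtain ⟨s, hs, t, ht, h⟩ := z_comm D hb
  have h1 := hT.comm _ (hg (mem_cj_mul (g := g) hs.1)) _ (hg (mem_cj_mul (g := g) ht.1))
  rw [← h]
  have h2 : g * (s * t * s⁻¹ * t⁻¹) * g⁻¹ = g * s * g⁻¹ * (g * t * g⁻¹) * (g * s * g⁻¹)⁻¹ *
      (g * t * g⁻¹)⁻¹ := by group
  rw [h2]
  exact h1

theorem cj_sq_mem {T : Subgroup G} (hT : Syl D T) {g : G} (hg : cj g D.P ≤ T) {x : G}
    (hx : x ∈ cj g D.P) : x * x ∈ D.P := by
  rw [mem_cj] at hx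
  have h1 := cj_Z_le hT hg (sq_mem D hx)
  have h2 : g * (g⁻¹ * x * g * (g⁻¹ * x * g)) * g⁻¹ = x * x := by group
  rwa [h2] at h1

/-- two elements of the same type are in the same coset -/
theorem same {P : Subgroup G} {x y : G} (hxx : x * x ∈ P) (hxy : x * y ∈ P) : x⁻¹ * y ∈ P := by
  have h1 := P.mul_mem (P.inv_mem hxx) hxy
  have h2 : (x * x)⁻¹ * (x * y) = x⁻¹ * y := by group
  rwa [h2] at h1

theorem weak [Finite G] {T : Subgroup G} (hT : Syl D T) {g : G} (hg : cj g D.P ≤ T) :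
    cj g D.P = D.P := by
  classical
  by_cases hle : cj g D.P ≤ D.P
  · exact eq_of_le_of_card_ge hle (card_cj g D.P).ge
  exfalso
  have hsq : ∀ x ∈ cj g D.P, x * x ∈ D.P := fun x hx => cj_sq_mem hT hg hx
  have htyp : ∀ x ∈ cj g D.P, x ∈ D.P ∨ TypF D x ∨ TypG D x ∨ TypU D x := fun x hx =>
    hT.typ x (hg hx) (hsq x hx)
  have hFF : ∀ x ∈ cj g D.P, ∀ y ∈ cj g D.P, TypF D x → TypF D y → x⁻¹ * y ∈ D.P :=
    fun x hx y hy h1 h2 => same (hsq x hx) (hT.FF x (hg hx) y (hg hy) h1 h2)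
  have hGG : ∀ x ∈ cj g D.P, ∀ y ∈ cj g D.P, TypG D x → TypG D y → x⁻¹ * y ∈ D.P :=
    fun x hx y hy h1 h2 => same (hsq x hx) (hT.GG x (hg hx) y (hg hy) h1 h2)
  have hUU : ∀ x ∈ cj g D.P, ∀ y ∈ cj g D.P, TypU D x → TypU D y → x⁻¹ * y ∈ D.P :=
    fun x hx y hy h1 h2 => same (hsq x hx) (hT.UU x (hg hx) y (hg hy) h1 h2)
  have hPP : ∀ x y : G, x ∈ D.P → y ∈ D.P → x⁻¹ * y ∈ D.P := fun x y hx hy =>
    D.P.mul_mem (D.P.inv_mem hx) hy
  have hcomm := relIndex_comm (card_cj g D.P)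
  -- an element outside `P`
  obtain ⟨x₀, hx₀, hx₀P⟩ := SetLike.not_le_iff_exists.mp hle
  -- index two
  have hF : ∀ x ∈ cj g D.P, TypF D x → 3 ≤ (cj g D.P).relIndex D.P := by
    rintro x hx ⟨h1, -, c₀, -, h2⟩
    exact three_a D (c₀ := c₀) fun u hu huP _ _ => typF_sing D h1 h2 huP (cj_sq D hx hu)
  have hG : ∀ x ∈ cj g D.P, TypG D x → 3 ≤ (cj g D.P).relIndex D.P := by
    rintro x hx ⟨h1, -, hk, -, θ, hθ, -, h2⟩
    refine three_c D fun u hu huP huf => ?_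
    have h3 := typG_sing D h1 hk hθ h2 huP (cj_sq D hx hu)
    rwa [huf, mul_zero, zero_add] at h3
  have hU : ∀ x ∈ cj g D.P, TypU D x → 3 ≤ (cj g D.P).relIndex D.P := by
    rintro x hx ⟨h1, -, hk, -, c₀, θ, -, -, -, h2⟩
    exact three_a D (c₀ := c₀) fun u hu huP huc huf => typU_sing D h1 hk h2 huP huc huf (cj_sq D hx hu)
  have hthree : 3 ≤ (cj g D.P).relIndex D.P := by
    rcases htyp x₀ hx₀ with h | h | h | h
    · exact absurd h hx₀P
    · exact hF x₀ hx₀ h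
    · exact hG x₀ hx₀ h
    · exact hU x₀ hx₀ h
  have two : ∀ X : G → Prop, (∀ x ∈ cj g D.P, ∀ y ∈ cj g D.P, X x → X y → x⁻¹ * y ∈ D.P) →
      (∀ x ∈ cj g D.P, x ∉ D.P → X x) → False := by
    intro X h1 h2
    have h3 := relIndex_le (H := D.P) (K := cj g D.P) (k := 2) (fun x => if x ∈ D.P then 0 else 1) ?_
    · omega
    · intro x hx y hy hxy
      by_cases hxP : x ∈ D.P
      · by_cases hyP : y ∈ D.P
        · exact hPP x y hxP hyP
        · simp [hxP, hyP] at hxy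
      · by_cases hyP : y ∈ D.P
        · simp [hxP, hyP] at hxy
        · exact h1 x hx y hy (h2 x hx hxP) (h2 y hy hyP)
  by_cases hboth : (∃ x ∈ cj g D.P, TypF D x) ∧ ∃ x ∈ cj g D.P, TypG D x
  · obtain ⟨⟨x, hx, h1, -, c₀, -, h2⟩, y, hy, h3, -, hk, -, θ, hθ, -, h4⟩ := hboth
    have h5 := six D (R := cj g D.P) (c₀ := c₀)
      (fun u hu huP => typF_sing D h1 h2 huP (cj_sq D hx hu)) (fun u hu huP huf => by
        have h3 := typG_sing D h3 hk hθ h4 huP (cj_sq D hy hu)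
        rwa [huf, mul_zero, zero_add] at h3)
    have h6 := relIndex_le (H := D.P) (K := cj g D.P) (k := 4)
      (fun x => if x ∈ D.P then 0 else if TypF D x then 1 else if TypG D x then 2 else 3) ?_
    · omega
    · intro x hx y hy hxy
      have h7 := htyp x hx
      have h8 := htyp y hy
      by_cases hxP : x ∈ D.P
      · by_cases hyP : y ∈ D.P
        · exact hPP x y hxP hyP
        · rw [if_pos hxP, if_neg hyP] at hxy
          split_ifs at hxy <;> exact absurd hxy (by decide)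
      · by_cases hyP : y ∈ D.P
        · rw [if_neg hxP, if_pos hyP] at hxy
          split_ifs at hxy <;> exact absurd hxy (by decide)
        · rw [if_neg hxP, if_neg hyP] at hxy
          by_cases hxF : TypF D x
          · by_cases hyF : TypF D y
            · exact hFF x hx y hy hxF hyF
            · rw [if_pos hxF, if_neg hyF] at hxy
              split_ifs at hxy <;> exact absurd hxy (by decide)
          · by_cases hyF : TypF D y
            · rw [if_neg hxF, if_pos hyF] at hxy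
              split_ifs at hxy <;> exact absurd hxy (by decide)
            · rw [if_neg hxF, if_neg hyF] at hxy
              by_cases hxG : TypG D x
              · by_cases hyG : TypG D y
                · exact hGG x hx y hy hxG hyG
                · rw [if_pos hxG, if_neg hyG] at hxy
                  exact absurd hxy (by decide)
              · by_cases hyG : TypG D y
                · rw [if_neg hxG, if_pos hyG] at hxy
                  exact absurd hxy (by decide)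
                · refine hUU x hx y hy ?_ ?_
                  · exact ((h7.resolve_left hxP).resolve_left hxF).resolve_left hxG
                  · exact ((h8.resolve_left hyP).resolve_left hyF).resolve_left hyG
  · by_cases h1 : ∃ x ∈ cj g D.P, x ∉ D.P ∧ TypF D x
    · obtain ⟨x, hx, hxP, hxF⟩ := h1
      refine two (TypF D) hFF fun y hy hyP => ?_
      rcases htyp y hy with h | h | h | h
      · exact absurd h hyP
      · exact h
      · exact absurd ⟨⟨x, hx, hxF⟩, y, hy, h⟩ hboth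
      · exfalso
        rcases htyp (x * y) (mul_mem hx hy) with h' | h' | h' | h'
        · exact FU D hxF h h'
        · have h3 := hFF x hx _ (mul_mem hx hy) hxF h'
          rw [inv_mul_cancel_left] at h3
          exact hyP h3
        · exact hboth ⟨⟨x, hx, hxF⟩, _, mul_mem hx hy, h'⟩
        · have h3 := hT.UU _ (hg (mul_mem hx hy)) y (hg hy) h' h
          rw [mul_assoc] at h3
          exact hxP (((D.P).mul_mem_cancel_right (hsq y hy)).mp h3)
    · by_cases h2 : ∃ x ∈ cj g D.P, x ∉ D.P ∧ TypG D x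
      · obtain ⟨x, hx, hxP, hxG⟩ := h2
        refine two (TypG D) hGG fun y hy hyP => ?_
        rcases htyp y hy with h | h | h | h
        · exact absurd h hyP
        · exact absurd ⟨y, hy, hyP, h⟩ h1
        · exact h
        · exfalso
          rcases htyp (x * y) (mul_mem hx hy) with h' | h' | h' | h'
          · exact GU D hxG h h'
          · exact hboth ⟨⟨_, mul_mem hx hy, h'⟩, x, hx, hxG⟩
          · have h3 := hGG x hx _ (mul_mem hx hy) hxG h'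
            rw [inv_mul_cancel_left] at h3
            exact hyP h3
          · have h3 := hT.UU _ (hg (mul_mem hx hy)) y (hg hy) h' h
            rw [mul_assoc] at h3
            exact hxP (((D.P).mul_mem_cancel_right (hsq y hy)).mp h3)
      · refine two (TypU D) hUU fun y hy hyP => ?_
        rcases htyp y hy with h | h | h | h
        · exact absurd h hyP
        · exact absurd ⟨y, hy, hyP, h⟩ h1
        · exact absurd ⟨y, hy, hyP, h⟩ h2
        · exact h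

theorem syl_top [Finite G] {T : Subgroup G} (hT : Syl D T) : IsSyl T ⊤ := by
  have : Fact (Nat.Prime 2) := ⟨Nat.prime_two⟩
  refine ⟨hT.syl.two, le_top, ?_⟩
  intro Q hQ hle _
  refine (Cfsg.Agent.Blocks.SylowIn.eq_of_normalizer_inf_le (p := 2) hQ hle ?_).le
  intro x hx
  have h1 : cj x D.P ≤ T := by
    rw [← cj_eq_of_mem_normalizer hx.1]
    exact Subgroup.map_mono hT.le
  have h2 := mem_normalizer_of_cj_eq (weak hT h1)
  exact hT.syl.max (normalizer (D.P : Set G) ⊓ Q) (hQ.to_le inf_le_right)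
    (le_inf hT.syl.le hle) inf_le_left ⟨h2, hx.2⟩

end

end Cfsg.Agent.OddHalf.D4.U3.Weak

end

-- merged: Cfsg.Agent.OddHalf.D4.U3.RichP
section

/-!
# ODD, D4, row `U₃(q)`: PIECE G, subgroups of `P` rich in commutators

`rich_a`: `R ≤ P` with all `a`-coordinates and `[p, p'] = z (Tr (a ā'))` is rich. `rich_cf`: the same for all
`(c, f)`-coordinates and `[p, p'] = z (c f' + c' f)`. `richP`: an involution of `P` outside `Z` centralises a rich subgroup.
-/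

set_option autoImplicit false

namespace Cfsg.Agent.OddHalf.D4.U3.RichP

open Subgroup Cfsg.Agent.StdU3.Field Cfsg.Agent.OddHalf.D4.U3.Defs

universe u v

open scoped commutatorElement

section index

variable {G : Type u} [Group G] [Finite G]

/-- two elements outside a subgroup of index at most two -/
theorem mem_of_index_two {R₀ R : Subgroup G} (h : R₀.relIndex R ≤ 2) {x y : G} (hx : x ∈ R) (hy : y ∈ R)
    (hx0 : x ∉ R₀) (hy0 : y ∉ R₀) : x⁻¹ * y ∈ R₀ := by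
  have h1 : (R₀.subgroupOf R).index ≤ 2 := h
  have h2 : Nat.card (↥R ⧸ R₀.subgroupOf R) ≤ 2 := h1
  by_contra hc
  have hfin : Finite (↥R ⧸ R₀.subgroupOf R) := inferInstance
  let e : Fin 3 → ↥R ⧸ R₀.subgroupOf R := ![QuotientGroup.mk 1, QuotientGroup.mk ⟨x, hx⟩, QuotientGroup.mk ⟨y, hy⟩]
  have h01 : e 0 ≠ e 1 := by
    intro h3
    have h3' : (QuotientGroup.mk (1 : ↥R) : ↥R ⧸ R₀.subgroupOf R) = QuotientGroup.mk ⟨x, hx⟩ := h3
    rw [QuotientGroup.eq, inv_one, one_mul, mem_subgroupOf] at h3'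
    exact hx0 h3'
  have h02 : e 0 ≠ e 2 := by
    intro h3
    have h3' : (QuotientGroup.mk (1 : ↥R) : ↥R ⧸ R₀.subgroupOf R) = QuotientGroup.mk ⟨y, hy⟩ := h3
    rw [QuotientGroup.eq, inv_one, one_mul, mem_subgroupOf] at h3'
    exact hy0 h3'
  have h12 : e 1 ≠ e 2 := by
    intro h3
    have h3' : (QuotientGroup.mk (⟨x, hx⟩ : ↥R) : ↥R ⧸ R₀.subgroupOf R) = QuotientGroup.mk ⟨y, hy⟩ := h3
    rw [QuotientGroup.eq, mem_subgroupOf] at h3'
    exact hc h3'
  have hinj : Function.Injective e := by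
    intro i j hij
    fin_cases i <;> fin_cases j
    · rfl
    · exact absurd hij h01
    · exact absurd hij h02
    · exact absurd hij.symm h01
    · rfl
    · exact absurd hij h12
    · exact absurd hij.symm h02
    · exact absurd hij.symm h12
    · rfl
  have h4 := Nat.card_le_card_of_injective e hinj
  rw [Nat.card_eq_fintype_card, Fintype.card_fin] at h4
  omega

/-- a homomorphism on `R` with more values than the index is not trivial on `R₀` -/
theorem exists_ne_of_index {R₀ R : Subgroup G} {A : Type v} [AddCommGroup A] (φ : G → A)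
    (hφ : ∀ x ∈ R, ∀ y ∈ R, φ (x * y) = φ x + φ y) {m : ℕ} (h : R₀.relIndex R ≤ m) (s : Finset A)
    (hs : m < s.card) (hsurj : ∀ α ∈ s, ∃ r ∈ R, φ r = α) : ∃ r ∈ R₀, φ r ≠ 0 := by
  classical
  by_contra hc
  push Not at hc
  have h1 : φ 1 = 0 := hc 1 R₀.one_mem
  choose g hg hgφ using hsurj
  let e : s → ↥R ⧸ R₀.subgroupOf R := fun α => QuotientGroup.mk ⟨g α.1 α.2, hg α.1 α.2⟩
  have hinj : Function.Injective e := by
    intro α β hαβ
    have h3' : (QuotientGroup.mk (⟨g α.1 α.2, hg α.1 α.2⟩ : ↥R) : ↥R ⧸ R₀.subgroupOf R)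
      = QuotientGroup.mk ⟨g β.1 β.2, hg β.1 β.2⟩ := hαβ
    rw [QuotientGroup.eq, mem_subgroupOf] at h3'
    have h4 := hc _ h3'
    have h5 : φ ((g α.1 α.2)⁻¹ * g β.1 β.2) = φ (g α.1 α.2)⁻¹ + φ (g β.1 β.2) :=
      hφ _ (R.inv_mem (hg _ _)) _ (hg _ _)
    have h6 : φ (g α.1 α.2) + φ (g α.1 α.2)⁻¹ = 0 := by
      rw [← hφ _ (hg _ _) _ (R.inv_mem (hg _ _)), mul_inv_cancel, h1]
    have h7 : φ ((g α.1 α.2)⁻¹ * g β.1 β.2) = 0 := h4
    rw [h5] at h7
    have h8 : φ (g α.1 α.2) = φ (g β.1 β.2) := by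
      have h9 : φ (g α.1 α.2) + (φ (g α.1 α.2)⁻¹ + φ (g β.1 β.2)) = φ (g α.1 α.2) := by rw [h7, add_zero]
      rw [← add_assoc, h6, zero_add] at h9
      exact h9.symm
    rw [hgφ, hgφ] at h8
    exact Subtype.ext h8
  have h4 := Nat.card_le_card_of_injective e hinj
  rw [Nat.card_eq_fintype_card, Fintype.card_coe] at h4
  have h5 : Nat.card (↥R ⧸ R₀.subgroupOf R) = R₀.relIndex R := rfl
  omega

/-- subgroups between `R₀` and `R`: if the index of `K₀` is at least that of `R₀`, then `K₀ = R₀` -/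
theorem le_of_index {R₀ K₀ R : Subgroup G} (h1 : R₀ ≤ K₀) (h2 : K₀ ≤ R) (h : R₀.relIndex R ≤ K₀.relIndex R) :
    K₀ ≤ R₀ := by
  have h3 := relIndex_mul_relIndex R₀ K₀ R h1 h2
  have h4 : K₀.relIndex R ≠ 0 := (K₀.subgroupOf R).index_ne_zero_of_finite
  have h5 : R₀.relIndex K₀ ≠ 0 := (R₀.subgroupOf K₀).index_ne_zero_of_finite
  have h6 : R₀.relIndex K₀ = 1 := by
    by_contra hc
    have h7 : 2 ≤ R₀.relIndex K₀ := by omega
    have h8 : 2 * K₀.relIndex R ≤ R₀.relIndex K₀ * K₀.relIndex R := Nat.mul_le_mul_right _ h7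
    omega
  exact relIndex_eq_one.mp h6

end index

variable {G : Type u} [Group G] {F : Type v} [Field F] [Fintype F] [CharP F 2] {n : ℕ}

/-- the commutator formula -/
theorem comm_eq (D : Chart G F n) {x y : G} (hx : x ∈ D.P) (hy : y ∈ D.P) :
    ⁅x, y⁆ = D.z (Tr n (D.a x * bar n (D.a y)) + (D.c x * D.f y + D.c y * D.f x)) := by
  rw [commutatorElement_def, D.comm x hx y hy]
  group

theorem fixed_B (D : Chart G F n) {x y : G} (hx : x ∈ D.P) (hy : y ∈ D.P) :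
    bar n (Tr n (D.a x * bar n (D.a y)) + (D.c x * D.f y + D.c y * D.f x)) =
      Tr n (D.a x * bar n (D.a y)) + (D.c x * D.f y + D.c y * D.f x) :=
  fixed_add (fixed_Tr D.hq _) (fixed_add (fixed_mul (D.fix_c x hx) (D.fix_Phi _ (D.f_mem y hy)))
    (fixed_mul (D.fix_c y hy) (D.fix_Phi _ (D.f_mem x hx))))

/-- elements of `P` commute when the form vanishes -/
theorem commute_of (D : Chart G F n) {x y : G} (hx : x ∈ D.P) (hy : y ∈ D.P)
    (h : Tr n (D.a x * bar n (D.a y)) + (D.c x * D.f y + D.c y * D.f x) = 0) : x * y = y * x := by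
  rw [D.comm x hx y hy, h, D.z_zero, one_mul]

/-- **(LA)**, index at most two: the field part. `A` = the coordinates of the subgroup, `M` = the commutators. -/
theorem span_a (hq : Qd F n) (A M : F → Prop) (hA : ∀ x y, A x → A y → A (x + y))
    (hA2 : ∀ x y, ¬ A x → ¬ A y → A (x + y)) (hM : ∀ x y, M x → M y → M (x + y))
    (hAM : ∀ x y, A x → A y → M (Tr n (x * bar n y))) {b : F} (hb : bar n b = b) : M b := by
  classical
  by_contra hMb
  -- two different nonzero elements of `A`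
  have h4 := four_le hq
  have hcard : 16 ≤ Fintype.card F := by
    rw [hq.hK]
    nlinarith
  have hA0 : A 0 := by
    by_contra h0
    have := hA2 0 0 h0 h0
    rw [add_zero] at this
    exact h0 this
  -- for nonzero `x ∈ A` and `y` with `Tr (x ȳ)` outside `M`, `y ∉ A`
  have hex : ∃ x x' : F, A x ∧ A x' ∧ x ≠ 0 ∧ x' ≠ 0 ∧ x ≠ x' := by
    -- a set of 4 elements `0, p, q, p+q` contains at least 2 in `A`; simply use three distinct nonzero ones
    by_contra hc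
    push Not at hc
    -- the nonzero elements of `A` are at most one
    have hone : ∃ w : F, ∀ x, A x → x = 0 ∨ x = w := by
      by_cases h : ∃ w, A w ∧ w ≠ 0
      · obtain ⟨w, hw, hw0⟩ := h
        refine ⟨w, fun x hx => ?_⟩
        by_cases hx0 : x = 0
        · exact Or.inl hx0
        · exact Or.inr (hc x w hx hw hx0 hw0)
      · push Not at h
        exact ⟨0, fun x hx => Or.inl (h x hx)⟩
    obtain ⟨w, hw⟩ := hone
    -- so the field has at most four elements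
    have hv : ∃ v : F, ¬ A v ∧ v ≠ 0 := by
      by_contra hv
      push Not at hv
      have h5 : (Finset.univ : Finset F) ⊆ {0, w} := by
        intro x _
        rw [Finset.mem_insert, Finset.mem_singleton]
        by_cases hx : A x
        · exact hw x hx
        · exact Or.inl (hv x hx)
      have h6 := Finset.card_le_card h5
      have h7 := (Finset.card_insert_le (0 : F) {w})
      rw [Finset.card_singleton] at h7
      rw [Finset.card_univ] at h6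
      omega
    obtain ⟨v, hv, -⟩ := hv
    have h5 : (Finset.univ : Finset F) ⊆ {0, w, v, v + w} := by
      intro x _
      simp only [Finset.mem_insert, Finset.mem_singleton]
      by_cases hx : A x
      · rcases hw x hx with h | h
        · exact Or.inl h
        · exact Or.inr (Or.inl h)
      · rcases hw _ (hA2 x v hx hv) with h | h
        · exact Or.inr (Or.inr (Or.inl (Cfsg.Agent.StdU3.Field.add_eq_zero.mp h)))
        · right; right; right
          rw [← h, add_comm v, add_add_self]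
    have h6 := Finset.card_le_card h5
    have h7 := Finset.card_le_four (a := (0 : F)) (b := w) (c := v) (d := v + w)
    rw [Finset.card_univ] at h6
    omega
  obtain ⟨x, x', hx, hx', hx0, hx'0, hne⟩ := hex
  have hs : x + x' ≠ 0 := fun h => hne (Cfsg.Agent.StdU3.Field.add_eq_zero.mp h)
  obtain ⟨y, hy⟩ := exists_Tr_eq hq hs hb
  have hyA : ¬ A y := by
    intro h
    apply hMb
    rw [← hy]
    exact hAM _ _ (hA _ _ hx hx') h
  -- `Tr (w ȳ) ∉ M` for `w ∈ A`, `w ≠ 0`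
  have key : ∀ w, A w → w ≠ 0 → ¬ M (Tr n (w * bar n y)) := by
    intro w hw hw0 hM1
    apply hMb
    obtain ⟨y', hy'⟩ := exists_Tr_eq hq hw0 hb
    rw [← hy']
    by_cases hA' : A y'
    · exact hAM _ _ hw hA'
    · have h1 := hAM _ _ hw (hA2 y' y hA' hyA)
      have h2 := hM _ _ h1 hM1
      rw [bar_add, mul_add, Tr_add, add_add_self] at h2
      exact h2
  -- `M` has index at most two in `F_q`
  have hM2 : ∀ b₁ b₂, bar n b₁ = b₁ → bar n b₂ = b₂ → ¬ M b₁ → ¬ M b₂ → M (b₁ + b₂) := by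
    intro b₁ b₂ h1 h2 hm1 hm2
    obtain ⟨y₁, hy₁⟩ := exists_Tr_eq hq hx0 h1
    obtain ⟨y₂, hy₂⟩ := exists_Tr_eq hq hx0 h2
    have hA1 : ¬ A y₁ := fun h => hm1 (hy₁ ▸ hAM _ _ hx h)
    have hA2' : ¬ A y₂ := fun h => hm2 (hy₂ ▸ hAM _ _ hx h)
    have h3 := hAM _ _ hx (hA2 _ _ hA1 hA2')
    rw [bar_add, mul_add, Tr_add, hy₁, hy₂] at h3
    exact h3
  apply hMb
  rw [← hy, add_mul, Tr_add]
  exact hM2 _ _ (fixed_Tr hq _) (fixed_Tr hq _) (key x hx hx0) (key x' hx' hx'0)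

/-- **(LA)** -/
theorem rich_of_a [Finite G] (D : Dat G F n) {R : Subgroup G} (hR : R ≤ D.P) (hsurj : ∀ α : F, ∃ r ∈ R, D.a r = α)
    (hc : ∀ x ∈ R, ∀ y ∈ R, x * y = D.z (Tr n (D.a x * bar n (D.a y))) * (y * x)) : Rich D R := by
  classical
  have hcm : ∀ p ∈ R, ∀ p' ∈ R, ⁅p, p'⁆ = D.z (Tr n (D.a p * bar n (D.a p'))) := by
    intro p hp p' hp'
    rw [commutatorElement_def, hc p hp p' hp']
    group
  refine ⟨?_, ?_⟩
  · intro R₀ hle hind
    rintro _ ⟨b, hb, rfl⟩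
    have h := span_a (n := n) D.hq (fun α => ∃ r ∈ R₀, D.a r = α) (fun b => bar n b = b ∧ D.z b ∈ ⁅R₀, R₀⁆)
      ?_ ?_ ?_ ?_ hb
    · exact h.2
    · rintro _ _ ⟨r, hr, rfl⟩ ⟨r', hr', rfl⟩
      exact ⟨r * r', R₀.mul_mem hr hr', D.a_mul r (hR (hle hr)) r' (hR (hle hr'))⟩
    · intro α β hα hβ
      obtain ⟨r, hr, hrα⟩ := hsurj α
      obtain ⟨s, hs, hsβ⟩ := hsurj β
      have h1 := mem_of_index_two hind hr hs (fun h => hα ⟨r, h, hrα⟩) (fun h => hβ ⟨s, h, hsβ⟩)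
      refine ⟨_, h1, ?_⟩
      rw [D.a_mul _ (D.P.inv_mem (hR hr)) _ (hR hs), D.a_inv (hR hr), hrα, hsβ]
    · rintro b b' ⟨hb, hzb⟩ ⟨hb', hzb'⟩
      refine ⟨fixed_add hb hb', ?_⟩
      rw [D.z_add b b' hb hb']
      exact Subgroup.mul_mem _ hzb hzb'
    · rintro _ _ ⟨r, hr, rfl⟩ ⟨r', hr', rfl⟩
      refine ⟨fixed_Tr D.hq _, ?_⟩
      rw [← hcm r (hle hr) r' (hle hr')]
      exact commutator_mem_commutator hr hr'
  · intro R₀ hle hind
    rintro _ ⟨b, hb, rfl⟩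
    have h4 := four_le D.hq
    have hcard : 16 ≤ Fintype.card F := by
      rw [D.hq.hK]
      nlinarith
    obtain ⟨r, hr, hr0⟩ := exists_ne_of_index D.a
      (fun x hx y hy => D.a_mul x (hR hx) y (hR hy)) hind Finset.univ (by rw [Finset.card_univ]; omega)
      (fun α _ => hsurj α)
    obtain ⟨y, hy⟩ := exists_Tr_eq D.hq hr0 hb
    obtain ⟨s, hs, rfl⟩ := hsurj y
    rw [← hy, ← hcm r (hle hr) s hs]
    exact commutator_mem_commutator hr hs

omit [CharP F 2] in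
theorem pow_card_pred {x : F} (hx : x ≠ 0) : x ^ (Fintype.card F - 1) = 1 :=
  FiniteField.pow_card_sub_one_eq_one x hx

omit [CharP F 2] in
/-- a subset of `F` closed under multiplication by `x ≠ 0` is closed under division -/
theorem of_mul {C : F → Prop} {x : F} (hx : x ≠ 0) (h : ∀ c, C c → C (x * c)) {c : F} (hc : C (x * c)) : C c := by
  have h1 : ∀ k : ℕ, C (x ^ k * (x * c)) := by
    intro k
    induction k with
    | zero => rw [pow_zero, one_mul]; exact hc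
    | succ k ih =>
      have := h _ ih
      rw [← mul_assoc, ← pow_succ'] at this
      exact this
  have hcard : 2 ≤ Fintype.card F := Fintype.one_lt_card
  have h2 := h1 (Fintype.card F - 2)
  rw [← mul_assoc, ← pow_succ, show Fintype.card F - 2 + 1 = Fintype.card F - 1 by omega, pow_card_pred hx,
    one_mul] at h2
  exact h2

/-- `Phi` has an element different from `0` and `1` -/
theorem exists_Phi (D : Chart G F n) : ∃ φ ∈ D.Phi, φ ≠ 0 ∧ φ ≠ 1 := by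
  classical
  by_contra hc
  push Not at hc
  have h1 : Nat.card D.Phi ≤ 2 := by
    have hinj : Function.Injective (fun x : D.Phi => (⟨x.1, by
      by_cases h : (x : F) = 0
      · rw [h]; simp
      · rw [hc x.1 x.2 h]; simp⟩ : ↥({0, 1} : Finset F))) := by
      intro x y hxy
      exact Subtype.ext (by simpa using hxy)
    have h2 := Nat.card_le_card_of_injective _ hinj
    rw [Nat.card_eq_fintype_card (α := ↥({0, 1} : Finset F)), Fintype.card_coe] at h2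
    have h3 : ({0, 1} : Finset F).card ≤ 2 := Finset.card_le_two
    omega
  have := D.four
  omega

/-- **(LB)** -/
theorem rich_of_cf [Finite G] (D : Dat G F n) {R : Subgroup G} (hR : R ≤ D.P)
    (hsurj : ∀ γ φ : F, bar n γ = γ → φ ∈ D.Phi → ∃ r ∈ R, D.c r = γ ∧ D.f r = φ)
    (hc : ∀ x ∈ R, ∀ y ∈ R, x * y = D.z (D.c x * D.f y + D.c y * D.f x) * (y * x)) : Rich D R := by
  classical
  have hcm : ∀ p ∈ R, ∀ p' ∈ R, ⁅p, p'⁆ = D.z (D.c p * D.f p' + D.c p' * D.f p) := by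
    intro p hp p' hp'
    rw [commutatorElement_def, hc p hp p' hp']
    group
  obtain ⟨φ₀, hφ₀, hφ0, hφ1⟩ := exists_Phi D.toChart
  refine ⟨?_, ?_⟩
  · intro R₀ hle hind
    -- the commutators
    have hadd : ∀ b b', bar n b = b → bar n b' = b' → D.z b ∈ ⁅R₀, R₀⁆ → D.z b' ∈ ⁅R₀, R₀⁆ →
        D.z (b + b') ∈ ⁅R₀, R₀⁆ := by
      intro b b' hb hb' h h'
      rw [D.z_add b b' hb hb']
      exact Subgroup.mul_mem _ h h'
    have hprod : ∀ γ φ, (∃ r ∈ R₀, D.c r = γ ∧ D.f r = 0) → (∃ r ∈ R₀, D.f r = φ) → D.z (γ * φ) ∈ ⁅R₀, R₀⁆ := by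
      rintro _ _ ⟨r, hr, rfl, hr0⟩ ⟨s, hs, rfl⟩
      have h := commutator_mem_commutator hr hs
      rw [hcm r (hle hr) s (hle hs), hr0, mul_zero, add_zero] at h
      exact h
    by_cases hC : ∀ γ, bar n γ = γ → ∃ r ∈ R₀, D.c r = γ ∧ D.f r = 0
    · -- `C₀ = F_q`
      obtain ⟨φ, hφm, hφ, hφr⟩ : ∃ φ, φ ∈ D.Phi ∧ φ ≠ 0 ∧ ∃ r ∈ R₀, D.f r = φ := by
        obtain ⟨r, hr, hr0⟩ := exists_ne_of_index (m := 2) D.f
          (fun x hx y hy => D.f_mul x (hR hx) y (hR hy)) hind {0, 1, φ₀} (by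
            rw [Finset.card_insert_of_notMem, Finset.card_pair hφ1.symm]
            · norm_num
            · simp only [Finset.mem_insert, Finset.mem_singleton, not_or]
              exact ⟨zero_ne_one, hφ0.symm⟩)
          (by
            intro α hα
            simp only [Finset.mem_insert, Finset.mem_singleton] at hα
            rcases hα with rfl | rfl | rfl
            · obtain ⟨r, hr, -, h⟩ := hsurj 0 0 (bar_zero n) D.Phi.zero_mem
              exact ⟨r, hr, h⟩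
            · obtain ⟨r, hr, -, h⟩ := hsurj 0 1 (bar_zero n) D.one_mem
              exact ⟨r, hr, h⟩
            · obtain ⟨r, hr, -, h⟩ := hsurj 0 α (bar_zero n) hφ₀
              exact ⟨r, hr, h⟩)
        exact ⟨D.f r, D.f_mem r (hR (hle hr)), hr0, r, hr, rfl⟩
      rintro _ ⟨b, hb, rfl⟩
      have h := hprod (b / φ) φ (hC _ (by
        rw [div_eq_mul_inv]; exact fixed_mul hb (fixed_inv (D.fix_Phi φ hφm)))) hφr
      rwa [div_mul_cancel₀ _ hφ] at h
    · push Not at hC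
      obtain ⟨γ₀, hγ₀, hγ₀C⟩ := hC
      have hCn : ¬ ∃ r ∈ R₀, D.c r = γ₀ ∧ D.f r = 0 := by
        rintro ⟨r, hr, h1, h2⟩
        exact hγ₀C r hr h1 h2
      -- `f (R₀) = Phi`
      have hF : ∀ φ ∈ D.Phi, ∃ r ∈ R₀, D.f r = φ := by
        intro φ hφ
        obtain ⟨r, hr, hrc, hrf⟩ := hsurj 0 φ (bar_zero n) hφ
        obtain ⟨s, hs, hsc, hsf⟩ := hsurj γ₀ φ hγ₀ hφ
        by_contra hc
        have h1 : r ∉ R₀ := fun h => hc ⟨r, h, hrf⟩
        have h2 : s ∉ R₀ := fun h => hc ⟨s, h, hsf⟩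
        have h3 := mem_of_index_two hind hr hs h1 h2
        apply hCn
        refine ⟨_, h3, ?_, ?_⟩
        · rw [D.c_mul _ (D.P.inv_mem (hR hr)) _ (hR hs), D.c_inv (hR hr), hrc, hsc, zero_add]
        · rw [D.f_mul _ (D.P.inv_mem (hR hr)) _ (hR hs), D.f_inv (hR hr), hrf, hsf,
            Cfsg.Agent.StdU3.Field.add_self]
      -- `C₀` has index two
      have hC2 : ∀ γ γ', bar n γ = γ → bar n γ' = γ' → (¬ ∃ r ∈ R₀, D.c r = γ ∧ D.f r = 0) →
          (¬ ∃ r ∈ R₀, D.c r = γ' ∧ D.f r = 0) → ∃ r ∈ R₀, D.c r = γ + γ' ∧ D.f r = 0 := by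
        intro γ γ' hγ hγ' h h'
        obtain ⟨r, hr, hrc, hrf⟩ := hsurj γ 0 hγ D.Phi.zero_mem
        obtain ⟨s, hs, hsc, hsf⟩ := hsurj γ' 0 hγ' D.Phi.zero_mem
        have h3 := mem_of_index_two hind hr hs (fun h1 => h ⟨r, h1, hrc, hrf⟩) (fun h1 => h' ⟨s, h1, hsc, hsf⟩)
        refine ⟨_, h3, ?_, ?_⟩
        · rw [D.c_mul _ (D.P.inv_mem (hR hr)) _ (hR hs), D.c_inv (hR hr), hrc, hsc]
        · rw [D.f_mul _ (D.P.inv_mem (hR hr)) _ (hR hs), D.f_inv (hR hr), hrf, hsf, add_zero]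
      rintro _ ⟨b, hb, rfl⟩
      by_contra hbM
      -- then `M = C₀`
      have hMC : ∀ m, bar n m = m → D.z m ∈ ⁅R₀, R₀⁆ → ∃ r ∈ R₀, D.c r = m ∧ D.f r = 0 := by
        intro m hm hmM
        by_contra hmC
        apply hbM
        by_cases hbC : ∃ r ∈ R₀, D.c r = b ∧ D.f r = 0
        · have := hprod b 1 hbC (hF 1 D.one_mem)
          rwa [mul_one] at this
        · have h1 := hprod (b + m) 1 (hC2 b m hb hm hbC hmC) (hF 1 D.one_mem)
          rw [mul_one] at h1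
          have h2 := hadd _ _ (fixed_add hb hm) hm h1 hmM
          rwa [add_add_self] at h2
      -- `C₀` is closed under multiplication by `Phi`
      have hmul : ∀ φ ∈ D.Phi, ∀ γ, (bar n γ = γ ∧ ∃ r ∈ R₀, D.c r = γ ∧ D.f r = 0) →
          (bar n (φ * γ) = φ * γ ∧ ∃ r ∈ R₀, D.c r = φ * γ ∧ D.f r = 0) := by
        rintro φ hφ γ ⟨hγ, hγC⟩
        have h1 : bar n (φ * γ) = φ * γ := fixed_mul (D.fix_Phi φ hφ) hγ
        refine ⟨h1, hMC _ h1 ?_⟩
        rw [mul_comm]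
        exact hprod γ φ hγC (hF φ hφ)
      have hφ₁ : φ₀ + 1 ≠ 0 := fun h => hφ1 (Cfsg.Agent.StdU3.Field.add_eq_zero.mp h)
      have h1 : ¬ ∃ r ∈ R₀, D.c r = φ₀ * γ₀ ∧ D.f r = 0 := by
        intro h
        have := of_mul (C := fun γ => bar n γ = γ ∧ ∃ r ∈ R₀, D.c r = γ ∧ D.f r = 0) hφ0 (hmul φ₀ hφ₀)
          (c := γ₀) ⟨fixed_mul (D.fix_Phi φ₀ hφ₀) hγ₀, h⟩
        exact hCn this.2
      have h2 := hC2 _ _ (fixed_mul (D.fix_Phi φ₀ hφ₀) hγ₀) hγ₀ h1 hCn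
      have h3 : φ₀ * γ₀ + γ₀ = (φ₀ + 1) * γ₀ := by ring
      rw [h3] at h2
      have := of_mul (C := fun γ => bar n γ = γ ∧ ∃ r ∈ R₀, D.c r = γ ∧ D.f r = 0) hφ₁
        (hmul (φ₀ + 1) (D.Phi.add_mem hφ₀ D.one_mem)) (c := γ₀)
        ⟨fixed_mul (D.fix_Phi _ (D.Phi.add_mem hφ₀ D.one_mem)) hγ₀, h2⟩
      exact hCn this.2
  · intro R₀ hle hind
    rintro _ ⟨b, hb, rfl⟩
    by_cases hf : ∃ r ∈ R₀, D.f r ≠ 0
    · obtain ⟨r, hr, hr0⟩ := hf
      obtain ⟨s, hs, hsc, hsf⟩ := hsurj (b / D.f r) 0 (by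
        rw [div_eq_mul_inv]
        exact fixed_mul hb (fixed_inv (D.fix_Phi _ (D.f_mem r (hR (hle hr)))))) D.Phi.zero_mem
      have h := commutator_mem_commutator hr hs
      rw [hcm r (hle hr) s hs, hsf, mul_zero, zero_add, hsc, div_mul_cancel₀ _ hr0] at h
      exact h
    · push Not at hf
      -- `R₀` is the kernel of `f`
      let K₀ : Subgroup G := R ⊓ D.toChart.sub (fun _ _ φ => φ = 0) rfl (by
        rintro α γ φ α' γ' φ' rfl rfl; exact add_zero 0)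
      have hmK : ∀ x, x ∈ K₀ ↔ x ∈ R ∧ x ∈ D.P ∧ D.f x = 0 := fun x => Iff.rfl
      have hRK : R₀ ≤ K₀ := fun x hx => (hmK x).mpr ⟨hle hx, hR (hle hx), hf x hx⟩
      have hKR : K₀ ≤ R := inf_le_left
      have hK4 : 4 ≤ K₀.relIndex R := by
        have hex : ∀ φ : D.Phi, ∃ r ∈ R, D.f r = φ := by
          intro φ
          obtain ⟨r, hr, -, h⟩ := hsurj 0 φ (bar_zero n) φ.2
          exact ⟨r, hr, h⟩
        choose g hg hgφ using hex
        let e : D.Phi → ↥R ⧸ K₀.subgroupOf R := fun φ => QuotientGroup.mk ⟨g φ, hg φ⟩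
        have hinj : Function.Injective e := by
          intro φ φ' h
          have h' : (QuotientGroup.mk (⟨g φ, hg φ⟩ : ↥R) : ↥R ⧸ K₀.subgroupOf R)
            = QuotientGroup.mk ⟨g φ', hg φ'⟩ := h
          rw [QuotientGroup.eq, mem_subgroupOf] at h'
          have h5 : D.f ((g φ)⁻¹ * g φ') = 0 := ((hmK _).mp h').2.2
          rw [D.f_mul _ (D.P.inv_mem (hR (hg φ))) _ (hR (hg φ')), D.f_inv (hR (hg φ)), hgφ, hgφ] at h5
          exact Subtype.ext (Cfsg.Agent.StdU3.Field.add_eq_zero.mp h5)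
        have h4 := Nat.card_le_card_of_injective e hinj
        exact D.four.trans h4
      have hKR₀ := le_of_index hRK hKR (hind.trans hK4)
      obtain ⟨r, hr, hrc, hrf⟩ := hsurj b 0 hb D.Phi.zero_mem
      have hr0 : r ∈ R₀ := hKR₀ ((hmK r).mpr ⟨hr, hR hr, hrf⟩)
      obtain ⟨s, hs, hsc, hsf⟩ := hsurj 0 1 (bar_zero n) D.one_mem
      have h := commutator_mem_commutator hr0 hs
      rw [hcm r hr s hs, hrc, hrf, hsc, hsf, mul_one, mul_zero, add_zero] at h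
      exact h

/-- **(LA)**, from the coordinates -/
theorem rich_a [Finite G] (D : Dat G F n) {R : Subgroup G} (hR : R ≤ D.P) (hsurj : ∀ α : F, ∃ r ∈ R, D.a r = α)
    (hcomm : ∀ p ∈ R, ∀ p' ∈ R, D.c p * D.f p' + D.c p' * D.f p = 0) : Rich D R :=
  rich_of_a D hR hsurj fun x hx y hy => by
    rw [D.comm x (hR hx) y (hR hy), hcomm x hx y hy, add_zero]

/-- **(LB)**, from the coordinates -/
theorem rich_cf [Finite G] (D : Dat G F n) {R : Subgroup G} (hR : R ≤ D.P)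
    (hsurj : ∀ γ φ : F, bar n γ = γ → φ ∈ D.Phi → ∃ r ∈ R, D.c r = γ ∧ D.f r = φ)
    (hcomm : ∀ p ∈ R, ∀ p' ∈ R, Tr n (D.a p * bar n (D.a p')) = 0) : Rich D R :=
  rich_of_cf D hR hsurj fun x hx y hy => by
    rw [D.comm x (hR hx) y (hR hy), hcomm x hx y hy, zero_add]

/-- **PIECE G.** An involution of `P` outside `Z` centralises a rich subgroup of `P`. -/
theorem richP [Finite G] (D : Dat G F n) {b : G} (hb : b ∈ D.P) (_hbZ : b ∉ D.Z) (hb2 : b * b = 1) :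
    ∃ R : Subgroup G, R ≤ D.P ∧ (∀ r ∈ R, r * b = b * r) ∧ Rich D R := by
  have hsq : N n (D.a b) + D.kap * D.c b + D.c b * D.f b = 0 := by
    refine D.z_inj _ ?_ ((D.sq b hb).symm.trans hb2)
    exact fixed_add (fixed_add (fixed_N D.hq _) (fixed_mul D.fix_kap (D.fix_c b hb)))
      (fixed_mul (D.fix_c b hb) (D.fix_Phi _ (D.f_mem b hb)))
  by_cases ha : D.a b = 0
  · -- `R = S`
    refine ⟨D.S, fun x hx => hx.1, ?_, ?_⟩
    · rintro r ⟨hr, hrc, hrf⟩
      apply commute_of D.toChart hr hb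
      rw [ha, hrc, hrf, bar_zero, mul_zero, Tr_zero, zero_mul, mul_zero, add_zero, add_zero]
    · refine rich_a D (fun x hx => hx.1) ?_ ?_
      · intro α
        obtain ⟨x, hx, h1, h2, h3⟩ := D.surj α 0 0 (bar_zero n) D.Phi.zero_mem
        exact ⟨x, ⟨hx, h2, h3⟩, h1⟩
      · rintro p ⟨hp, hpc, hpf⟩ p' ⟨hp', hp'c, hp'f⟩
        rw [hpc, hpf, zero_mul, mul_zero, add_zero]
  by_cases hf : D.f b = 0
  · -- `f = 0`
    have hc0 : D.c b ≠ 0 := by
      intro h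
      rw [h, mul_zero, zero_mul, add_zero, add_zero] at hsq
      exact ha (N_eq_zero hsq)
    obtain ⟨e, he⟩ := exists_Tr_one D.hq
    -- `Tr (e' ā₀) = 1`
    obtain ⟨e', he'⟩ : ∃ e' : F, Tr n (e' * bar n (D.a b)) = 1 := by
      obtain ⟨y, hy⟩ := exists_Tr_eq D.hq ha (bar_one n)
      exact ⟨y, by rw [Tr_comm D.hq]; exact hy⟩
    refine ⟨D.toChart.sub (fun α γ φ => α = D.c b * φ * e') (by ring) (by
      rintro α γ φ α' γ' φ' rfl rfl; ring), fun x hx => hx.1, ?_, ?_⟩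
    · rintro r ⟨hr, hra⟩
      apply commute_of D.toChart hr hb
      have hfix : bar n (D.c b * D.f r) = D.c b * D.f r :=
        fixed_mul (D.fix_c b hb) (D.fix_Phi _ (D.f_mem r hr))
      rw [hra, hf, mul_assoc (D.c b * D.f r), Tr_mul_fixed hfix, he', mul_one, mul_zero, zero_add,
        Cfsg.Agent.StdU3.Field.add_self]
    · refine rich_cf D (fun x hx => hx.1) ?_ ?_
      · intro γ φ hγ hφ
        obtain ⟨x, hx, h1, h2, h3⟩ := D.surj (D.c b * φ * e') γ φ hγ hφ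
        exact ⟨x, ⟨hx, by rw [h1, h3]⟩, h2, h3⟩
      · rintro p ⟨hp, hpa⟩ p' ⟨hp', hp'a⟩
        have hfix : ∀ r ∈ D.P, bar n (D.c b * D.f r) = D.c b * D.f r := fun r hr =>
          fixed_mul (D.fix_c b hb) (D.fix_Phi _ (D.f_mem r hr))
        apply Tr_of_fixed
        rw [hpa, hp'a]
        simp only [bar_mul, bar_bar D.hq]
        rw [D.fix_c b hb, D.fix_Phi _ (D.f_mem p hp), D.fix_Phi _ (D.f_mem p' hp')]
        ring
  · -- `f ≠ 0`
    refine ⟨D.toChart.sub (fun α γ φ => γ = Tr n (α * bar n (D.a b)) / D.f b ∧ φ = 0) ⟨by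
      rw [zero_mul, Tr_zero, zero_div], rfl⟩ (by
      rintro α γ φ α' γ' φ' ⟨rfl, rfl⟩ ⟨rfl, rfl⟩
      exact ⟨by rw [add_mul, Tr_add]; ring, add_zero 0⟩), fun x hx => hx.1, ?_, ?_⟩
    · rintro r ⟨hr, hrc, hrf⟩
      apply commute_of D.toChart hr hb
      rw [hrc, hrf, mul_zero, add_zero, div_mul_cancel₀ _ hf, Cfsg.Agent.StdU3.Field.add_self]
    · refine rich_a D (fun x hx => hx.1) ?_ ?_
      · intro α
        obtain ⟨x, hx, h1, h2, h3⟩ := D.surj α (Tr n (α * bar n (D.a b)) / D.f b) 0 (by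
          rw [div_eq_mul_inv]
          exact fixed_mul (fixed_Tr D.hq _) (fixed_inv (D.fix_Phi _ (D.f_mem b hb)))) D.Phi.zero_mem
        exact ⟨x, ⟨hx, by rw [h1, h2], h3⟩, h1⟩
      · rintro p ⟨hp, hpc, hpf⟩ p' ⟨hp', hp'c, hp'f⟩
        rw [hpf, hp'f, mul_zero, mul_zero, add_zero]

end Cfsg.Agent.OddHalf.D4.U3.RichP

end

-- merged: Cfsg.Agent.OddHalf.D4.U3.RichT
section

/-!
# ODD, D4, row `K = U₃(q)`, piece H: involutions of `T` outside `P` of type F and G (helper928)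

For `b ∈ T` an involution of type F or G, `R = C_P(b)` is rich in commutators.
-/

set_option autoImplicit false

namespace Cfsg.Agent.OddHalf.D4.U3.RichT

open Subgroup Cfsg.Agent.StdU3.Field Cfsg.Agent.OddHalf.D4.CommConj Cfsg.Agent.OddHalf.D4.U3.Defs
  Cfsg.Agent.OddHalf.D4.U3.RichP

universe u v

variable {G : Type u} [Group G] {F : Type v} [Field F] [Fintype F] [CharP F 2] {n : ℕ} (D : Dat G F n)

/-- the elements of `Z` are central in `P` -/
theorem z_comm {e : F} (he : bar n e = e) {x : G} (hx : x ∈ D.P) : x * D.z e = D.z e * x := by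
  have h := D.comm x hx (D.z e) (D.z_mem e he)
  rw [D.a_z e he, D.c_z e he, D.f_z e he, bar_zero, mul_zero, mul_zero, zero_mul, add_zero, Tr_zero,
    add_zero, D.z_zero, one_mul] at h
  exact h

/-- elements of `P` with the same coordinates differ by an element of `Z` -/
theorem eq_mul_z {x y : G} (hx : x ∈ D.P) (hy : y ∈ D.P) (ha : D.a x = D.a y) (hc : D.c x = D.c y)
    (hf : D.f x = D.f y) : ∃ e, bar n e = e ∧ y = x * D.z e := by
  obtain ⟨e, he, h⟩ := D.ker (x⁻¹ * y) (D.P.mul_mem (D.P.inv_mem hx) hy)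
    (by rw [D.a_mul _ (D.P.inv_mem hx) _ hy, D.a_inv hx, ha, add_self])
    (by rw [D.c_mul _ (D.P.inv_mem hx) _ hy, D.c_inv hx, hc, add_self])
    (by rw [D.f_mul _ (D.P.inv_mem hx) _ hy, D.f_inv hx, hf, add_self])
  exact ⟨e, he, by rw [← h, mul_inv_cancel_left]⟩

theorem cj_mem {b : G} (hb : cj b D.P = D.P) {p : G} (hp : p ∈ D.P) : b * p * b⁻¹ ∈ D.P := by
  have := mem_cj_mul (g := b) hp
  rwa [hb] at this

/-- if `b` inverts nothing: `b p b = p z(e)`, `b p' b = p' z(e)` give `p p' ∈ C(b)` -/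
theorem comm_of {b p p' : G} {e : F} (he : bar n e = e)
    (hp' : p' ∈ D.P) (h1 : b * p * b⁻¹ = p * D.z e) (h2 : b * p' * b⁻¹ = p' * D.z e) :
    p * p' * b = b * (p * p') := by
  have h3 : b * (p * p') * b⁻¹ = p * p' := by
    calc b * (p * p') * b⁻¹ = (b * p * b⁻¹) * (b * p' * b⁻¹) := by group
      _ = p * (D.z e * p') * D.z e := by rw [h1, h2]; group
      _ = p * (p' * D.z e) * D.z e := by rw [z_comm D he hp']
      _ = p * p' * (D.z e * D.z e) := by group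
      _ = p * p' := by rw [← D.z_add e e he he, add_self, D.z_zero, mul_one]
  calc p * p' * b = b * (p * p') * b⁻¹ * b := by rw [h3]
    _ = b * (p * p') := by group

/-- the centralizer of `b` in `P` -/
def R (b : G) : Subgroup G := D.P ⊓ centralizer {b}

theorem mem_R {b x : G} : x ∈ R D b ↔ x ∈ D.P ∧ x * b = b * x := by
  rw [R, mem_inf, mem_centralizer_iff]
  constructor
  · rintro ⟨h1, h2⟩
    exact ⟨h1, (h2 b rfl).symm⟩
  · rintro ⟨h1, h2⟩
    refine ⟨h1, ?_⟩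
    rintro y rfl
    exact h2.symm

theorem conj_of_mem {b x : G} (hx : x * b = b * x) : b * x * b⁻¹ = x := by
  rw [← hx, mul_inv_cancel_right]

/-- a solution of `Tr (c̄₀ α²) = e` -/
theorem exists_alpha (hq : Qd F n) {c₀ e : F} (hc : N n c₀ = 1) (he : bar n e = e) :
    ∃ α : F, Tr n (c₀ * bar n α * bar n α) = e := by
  have h0 : c₀ ≠ 0 := by
    rintro rfl
    rw [N_zero] at hc
    exact zero_ne_one hc
  obtain ⟨y, hy⟩ := exists_Tr_eq hq h0 he
  obtain ⟨α, hα⟩ := FiniteField.isSquare_of_char_two (F := F) (ringChar.eq F 2) y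
  refine ⟨α, ?_⟩
  rw [mul_assoc, ← bar_mul, ← hα]
  exact hy

/-- **Involutions of type F.** -/
theorem richF' [Finite G] {b : G} (hF : TypF D b) (hb2 : b * b = 1) :
    ∃ R ≤ D.P, (∀ r ∈ R, r * b = b * r) ∧ Rich D R := by
  obtain ⟨hP, hz, c₀, hc₀, hact⟩ := hF
  have hinv : b⁻¹ = b := inv_eq_of_mul_eq_one_left hb2
  refine ⟨R D b, inf_le_left, fun r hr => ((mem_R D).1 hr).2, ?_⟩
  have hbar : ∀ x ∈ R D b, D.a x = c₀ * bar n (D.a x) := by
    intro x hx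
    obtain ⟨h1, h2⟩ := (mem_R D).1 hx
    have h3 := (hact x h1).1
    rwa [conj_of_mem h2] at h3
  have hc1 : c₀ * bar n c₀ = 1 := hc₀
  refine rich_of_cf D inf_le_left ?_ ?_
  · intro γ φ hγ hφ
    obtain ⟨p, hp, ha, hc, hf⟩ := D.surj 0 γ φ hγ hφ
    obtain ⟨h1, h2, h3⟩ := hact p hp
    obtain ⟨e, he, hpe⟩ := eq_mul_z D hp (cj_mem D hP hp) (by rw [h1, ha, bar_zero, mul_zero]) h2.symm h3.symm
    obtain ⟨α, hα⟩ := exists_alpha D.hq hc₀ he
    obtain ⟨s, hs, hsa, hsc, hsf⟩ := D.surj α 0 0 (bar_zero n) D.Phi.zero_mem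
    obtain ⟨g1, g2, g3⟩ := hact s hs
    have hs' := cj_mem D hP hs
    -- `p' = s (b s b⁻¹)`
    have hp' : s * (b * s * b⁻¹) ∈ D.P := D.P.mul_mem hs hs'
    have hcm := D.comm (b * s * b⁻¹) hs' s hs
    have h4 : b * (s * (b * s * b⁻¹)) * b⁻¹ = s * (b * s * b⁻¹) * D.z e := by
      have h5 : b * (s * (b * s * b⁻¹)) * b⁻¹ = (b * s * b⁻¹) * s := by
        calc b * (s * (b * s * b⁻¹)) * b⁻¹ = b * s * (b * s * b⁻¹) * b⁻¹ := by group
          _ = b * s * b * s * (b⁻¹ * b⁻¹) := by group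
          _ = b * s * b⁻¹ * s := by rw [hinv, hb2, mul_one]
      rw [h5, hcm, g1, g2, g3, hsa, hsc, hsf, mul_zero, add_zero, add_zero, hα]
      exact (z_comm D he hp').symm
    have ha' : D.a (b * s * b⁻¹) = c₀ * bar n α := by rw [g1, hsa]
    refine ⟨p * (s * (b * s * b⁻¹)), (mem_R D).2 ⟨D.P.mul_mem hp hp', ?_⟩, ?_, ?_⟩
    · exact comm_of D he hp' hpe h4
    · rw [D.c_mul p hp _ hp', D.c_mul s hs _ hs', g2, hsc, hc, add_zero, add_zero]
    · rw [D.f_mul p hp _ hp', D.f_mul s hs _ hs', g3, hsf, hf, add_zero, add_zero]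
  · intro x hx y hy
    have hxP := ((mem_R D).1 hx).1
    have hyP := ((mem_R D).1 hy).1
    have h1 := hbar x hx
    have h2 := hbar y hy
    have h3 : Tr n (D.a x * bar n (D.a y)) = 0 := by
      rw [Tr_def, bar_mul, bar_bar D.hq]
      have h4 : bar n (D.a x) = bar n c₀ * D.a x := by
        have := congrArg (bar n) h1
        rwa [bar_mul, bar_bar D.hq] at this
      have h5 : bar n (D.a y) = bar n c₀ * D.a y := by
        have := congrArg (bar n) h2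
        rwa [bar_mul, bar_bar D.hq] at this
      rw [h4, h5]
      have h6 : D.a x * (bar n c₀ * D.a y) + bar n c₀ * D.a x * D.a y =
          (D.a x * (bar n c₀ * D.a y)) + (D.a x * (bar n c₀ * D.a y)) := by ring
      rw [h6, add_self]
    have h := D.comm x hxP y hyP
    rwa [h3, zero_add] at h

/-- **Involutions of type G.** -/
theorem richG' [Finite G] {b : G} (hG : TypG D b) (hb2 : b * b = 1) :
    ∃ R ≤ D.P, (∀ r ∈ R, r * b = b * r) ∧ Rich D R := by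
  obtain ⟨hP, hz, hk, hPhi, θ, hθ, hθb, hact⟩ := hG
  have hinv : b⁻¹ = b := inv_eq_of_mul_eq_one_left hb2
  refine ⟨R D b, inf_le_left, fun r hr => ((mem_R D).1 hr).2, ?_⟩
  have hcf : ∀ x ∈ R D b, D.c x = θ * D.f x := by
    intro x hx
    obtain ⟨h1, h2⟩ := (mem_R D).1 hx
    have h3 := (hact x h1).2.1
    rwa [conj_of_mem h2] at h3
  refine rich_of_a D inf_le_left ?_ ?_
  · intro α
    obtain ⟨p, hp, ha, hc, hf⟩ := D.surj α 0 0 (bar_zero n) D.Phi.zero_mem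
    obtain ⟨h1, h2, h3⟩ := hact p hp
    obtain ⟨e, he, hpe⟩ := eq_mul_z D hp (cj_mem D hP hp) h1.symm (by rw [h2, hf, hc, mul_zero])
      (by rw [h3, hf, hc, mul_zero])
    -- `φ² = e / θ`
    obtain ⟨φ, hφ⟩ := FiniteField.isSquare_of_char_two (F := F) (ringChar.eq F 2) (θ⁻¹ * e)
    have hφb : bar n φ = φ := by
      have h4 : bar n φ * bar n φ = φ * φ := by
        rw [← bar_mul, ← hφ, bar_mul, bar_inv, hθb, he]
      have h5 : (bar n φ + φ) * (bar n φ + φ) = 0 := by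
        have : (bar n φ + φ) * (bar n φ + φ) = bar n φ * bar n φ + φ * φ + (bar n φ * φ + bar n φ * φ) := by ring
        rw [this, h4, add_self, add_self, add_zero]
      exact add_eq_zero.1 (mul_self_eq_zero.1 h5)
    obtain ⟨s, hs, hsa, hsc, hsf⟩ := D.surj 0 0 φ (bar_zero n) (hPhi φ hφb)
    obtain ⟨g1, g2, g3⟩ := hact s hs
    have hs' := cj_mem D hP hs
    have hp' : s * (b * s * b⁻¹) ∈ D.P := D.P.mul_mem hs hs'
    have hcm := D.comm (b * s * b⁻¹) hs' s hs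
    have h4 : b * (s * (b * s * b⁻¹)) * b⁻¹ = s * (b * s * b⁻¹) * D.z e := by
      have h5 : b * (s * (b * s * b⁻¹)) * b⁻¹ = (b * s * b⁻¹) * s := by
        calc b * (s * (b * s * b⁻¹)) * b⁻¹ = b * s * (b * s * b⁻¹) * b⁻¹ := by group
          _ = b * s * b * s * (b⁻¹ * b⁻¹) := by group
          _ = b * s * b⁻¹ * s := by rw [hinv, hb2, mul_one]
      have h6 : θ * φ * φ = e := by
        rw [mul_assoc, ← hφ, mul_inv_cancel_left₀ hθ]
      rw [h5, hcm, g1, g2, g3, hsa, hsc, hsf, bar_zero, mul_zero, mul_zero, Tr_zero, zero_mul, add_zero,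
        zero_add, h6]
      exact (z_comm D he hp').symm
    refine ⟨p * (s * (b * s * b⁻¹)), (mem_R D).2 ⟨D.P.mul_mem hp hp', ?_⟩, ?_⟩
    · exact comm_of D he hp' hpe h4
    · rw [D.a_mul p hp _ hp', D.a_mul s hs _ hs', g1, hsa, ha, add_zero, add_zero]
  · intro x hx y hy
    have hxP := ((mem_R D).1 hx).1
    have hyP := ((mem_R D).1 hy).1
    have h := D.comm x hxP y hyP
    have h3 : D.c x * D.f y + D.c y * D.f x = 0 := by
      rw [hcf x hx, hcf y hy]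
      have : θ * D.f x * D.f y + θ * D.f y * D.f x = θ * D.f x * D.f y + θ * D.f x * D.f y := by ring
      rw [this, add_self]
    rwa [h3, add_zero] at h

theorem richF [Finite G] {T : Subgroup G} (_hT : Syl D T) {b : G} (_hb : b ∈ T) (hF : TypF D b) (hb2 : b * b = 1) :
    ∃ R ≤ D.P, (∀ r ∈ R, r * b = b * r) ∧ Rich D R :=
  richF' D hF hb2

theorem richG [Finite G] {T : Subgroup G} (_hT : Syl D T) {b : G} (_hb : b ∈ T) (hG : TypG D b) (hb2 : b * b = 1) :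
    ∃ R ≤ D.P, (∀ r ∈ R, r * b = b * r) ∧ Rich D R :=
  richG' D hG hb2

end Cfsg.Agent.OddHalf.D4.U3.RichT

end

-- merged: Cfsg.Agent.OddHalf.D4.U3.Closed
section

/-!
# ODD, D4, row `K = U₃(q)`: fusion of the involutions of `T` with a rich centralizer

`normalise`: if `b` is conjugate to an element of `Z`, then by a `g` with `g b g⁻¹ ∈ Z ∩ Z(T)` and
`g C_T(b) g⁻¹ ≤ T`. `closed`: if `R ≤ C_P(b)` is rich, then `b ∈ Z`.
-/

set_option autoImplicit false

namespace Cfsg.Agent.OddHalf.D4.U3.Closed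

open Subgroup Cfsg.Agent.StdU3.Field Cfsg.Agent.StdU3.PreDef Cfsg.Agent.OddHalf.D4.CommConj
  Cfsg.Agent.OddHalf.D4.Basic Cfsg.Agent.OddHalf.D4.U3.Defs

universe u v

variable {G : Type u} [Group G] {F : Type v} [Field F] [Fintype F] [CharP F 2] {n : ℕ}

section chart

variable (D : Chart G F n)

theorem sq_mem_Z {x : G} (hx : x ∈ D.P) : x * x ∈ D.Z :=
  ⟨_, fixed_add (fixed_add (fixed_N D.hq _) (fixed_mul D.fix_kap (D.fix_c x hx)))
    (fixed_mul (D.fix_c x hx) (D.fix_Phi _ (D.f_mem x hx))), D.sq x hx⟩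

theorem comm_mem_Z {x y : G} (hx : x ∈ D.P) (hy : y ∈ D.P) : x * y * x⁻¹ * y⁻¹ ∈ D.Z := by
  refine ⟨Tr n (D.a x * bar n (D.a y)) + (D.c x * D.f y + D.c y * D.f x), ?_, ?_⟩
  · exact fixed_add (fixed_Tr D.hq _)
      (fixed_add (fixed_mul (D.fix_c x hx) (D.fix_Phi _ (D.f_mem y hy)))
        (fixed_mul (D.fix_c y hy) (D.fix_Phi _ (D.f_mem x hx))))
  · rw [D.comm x hx y hy]; group

theorem Z_le : D.Z ≤ D.P := by
  rintro x ⟨b, hb, rfl⟩
  exact D.z_mem b hb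

theorem z_central {b : F} (hb : bar n b = b) {x : G} (hx : x ∈ D.P) : x * D.z b = D.z b * x := by
  rw [D.comm x hx (D.z b) (D.z_mem b hb), D.a_z b hb, D.c_z b hb, D.f_z b hb, bar_zero, mul_zero,
    Tr_zero, mul_zero, zero_mul, add_zero, add_zero, D.z_zero, one_mul]

theorem Z_central {w : G} (hw : w ∈ D.Z) {x : G} (hx : x ∈ D.P) : x * w = w * x := by
  obtain ⟨b, hb, rfl⟩ := hw
  exact z_central D hb hx

theorem Z_sq {w : G} (hw : w ∈ D.Z) : w * w = 1 := by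
  obtain ⟨b, hb, rfl⟩ := hw
  rw [← D.z_add b b hb hb, Cfsg.Agent.StdU3.Field.add_self, D.z_zero]

theorem exists_sq {w : G} (hw : w ∈ D.Z) : ∃ s ∈ D.P, w = s * s := by
  obtain ⟨b, hb, rfl⟩ := hw
  obtain ⟨α, hα⟩ := exists_norm D.hq hb
  obtain ⟨s, hs, ha, hc, hf⟩ := D.surj α 0 0 (bar_zero n) D.Phi.zero_mem
  refine ⟨s, hs, ?_⟩
  rw [D.sq s hs, ha, hc, hf, hα, mul_zero, mul_zero, add_zero, add_zero]

/-- `Z` is the set of squares of `P` -/
theorem conj_Z {x : G} (hx : cj x D.P = D.P) {w : G} (hw : w ∈ D.Z) : x * w * x⁻¹ ∈ D.Z := by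
  obtain ⟨s, hs, rfl⟩ := exists_sq D hw
  have h1 : x * s * x⁻¹ ∈ D.P := by
    rw [← hx]; exact mem_cj_mul hs
  have h2 : x * (s * s) * x⁻¹ = x * s * x⁻¹ * (x * s * x⁻¹) := by group
  rw [h2]
  exact sq_mem_Z D h1

theorem Z_ne_bot : D.Z ≠ ⊥ := by
  intro h
  have h1 : D.z 1 ∈ D.Z := ⟨1, bar_one n, rfl⟩
  rw [h, mem_bot] at h1
  exact one_ne_zero (D.z_inj 1 (bar_one n) h1)

theorem comm_P {u x : G} (hu : u ∈ D.P) (hx : cj x D.P = D.P) :
    u * x * u⁻¹ * x⁻¹ ∈ D.P ∧ D.a (u * x * u⁻¹ * x⁻¹) = D.a u + D.a (x * u⁻¹ * x⁻¹) ∧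
    D.c (u * x * u⁻¹ * x⁻¹) = D.c u + D.c (x * u⁻¹ * x⁻¹) ∧
    D.f (u * x * u⁻¹ * x⁻¹) = D.f u + D.f (x * u⁻¹ * x⁻¹) := by
  have h1 : x * u⁻¹ * x⁻¹ ∈ D.P := by
    rw [← hx]; exact mem_cj_mul (D.P.inv_mem hu)
  have h2 : u * x * u⁻¹ * x⁻¹ = u * (x * u⁻¹ * x⁻¹) := by group
  rw [h2]
  exact ⟨D.P.mul_mem hu h1, D.a_mul u hu _ h1, D.c_mul u hu _ h1, D.f_mul u hu _ h1⟩

end chart

variable (D : Dat G F n)

/-- an involution `[u, x]`, `x` of type F, is in `Z` -/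
theorem comm_F {u x : G} (hu : u ∈ D.P) (hx : TypF D x)
    (h2 : u * x * u⁻¹ * x⁻¹ * (u * x * u⁻¹ * x⁻¹) = 1) : u * x * u⁻¹ * x⁻¹ ∈ D.Z := by
  obtain ⟨hxP, -, c₀, -, hact⟩ := hx
  obtain ⟨h3, h4, h5, h6⟩ := comm_P D.toChart hu hxP
  obtain ⟨k1, k2, k3⟩ := hact u⁻¹ (D.P.inv_mem hu)
  rw [k1, D.a_inv hu] at h4
  rw [k2, D.c_inv hu, Cfsg.Agent.StdU3.Field.add_self] at h5
  rw [k3, D.f_inv hu, Cfsg.Agent.StdU3.Field.add_self] at h6
  have h7 := D.sq _ h3
  rw [h2, h5, h6, mul_zero, mul_zero, add_zero, add_zero] at h7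
  have h8 := D.z_inj _ (fixed_N D.hq _) h7.symm
  exact D.ker _ h3 (N_eq_zero h8) h5 h6

/-- an involution `[u, x]`, `x` of type G, is in `Z` -/
theorem comm_G {u x : G} (hu : u ∈ D.P) (hx : TypG D x)
    (h2 : u * x * u⁻¹ * x⁻¹ * (u * x * u⁻¹ * x⁻¹) = 1) : u * x * u⁻¹ * x⁻¹ ∈ D.Z := by
  obtain ⟨hxP, -, hk, -, θ, hθ, hbθ, hact⟩ := hx
  obtain ⟨h3, h4, h5, h6⟩ := comm_P D.toChart hu hxP
  obtain ⟨k1, k2, k3⟩ := hact u⁻¹ (D.P.inv_mem hu)
  rw [k1, D.a_inv hu, Cfsg.Agent.StdU3.Field.add_self] at h4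
  rw [k2, D.f_inv hu] at h5
  rw [k3, D.c_inv hu] at h6
  have h7 := D.sq _ h3
  rw [h2, h4, hk, N_zero, zero_mul, zero_add, zero_add] at h7
  have h8 := D.z_inj _ (fixed_mul (D.fix_c _ h3) (D.fix_Phi _ (D.f_mem _ h3))) h7.symm
  have h9 : D.c u + θ * D.f u = θ * (D.f u + θ⁻¹ * D.c u) := by
    field_simp
    ring
  have h10 : D.f u + θ⁻¹ * D.c u = 0 := by
    rw [h5, h6, h9] at h8
    have h11 : θ * ((D.f u + θ⁻¹ * D.c u) * (D.f u + θ⁻¹ * D.c u)) = 0 := by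
      rw [← h8]; ring
    rcases mul_eq_zero.mp h11 with h | h
    · exact absurd h hθ
    · exact mul_self_eq_zero.mp h
  refine D.ker _ h3 h4 ?_ ?_
  · rw [h5, h9, h10, mul_zero]
  · rw [h6, h10]

/-- a subgroup of small index from a function -/
theorem relIndex_le_of_fun [Finite G] {R R₀ : Subgroup G} {k : ℕ} (f : G → Fin k)
    (h : ∀ x ∈ R, ∀ y ∈ R, f x = f y → x⁻¹ * y ∈ R₀) : R₀.relIndex R ≤ k := by
  have h1 : R₀.relIndex R = Nat.card (↥R ⧸ R₀.subgroupOf R) := rfl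
  rw [h1]
  have h2 : Function.Injective (fun q : ↥R ⧸ R₀.subgroupOf R => f (Quotient.out q : ↥R)) := by
    intro q q' hqq
    have h3 := h _ (Quotient.out q : ↥R).2 _ (Quotient.out q' : ↥R).2 hqq
    rw [← QuotientGroup.out_eq' q, ← QuotientGroup.out_eq' q']
    rw [QuotientGroup.eq, mem_subgroupOf]
    exact h3
  have h3 := Nat.card_le_card_of_injective _ h2
  rwa [Nat.card_fin] at h3

theorem norm_P {T : Subgroup G} (hT : Syl D T) {t : G} (ht : t ∈ T) : cj t D.P = D.P :=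
  cj_eq_of_mem_normalizer (hT.syl.le ht)

/-- The conjugation of `b` into `Z` can be taken with `g b g⁻¹` central in `T` and `g C_T(b) g⁻¹ ≤ T`. -/
theorem normalise [Finite G] {T : Subgroup G} (hT : Syl D T) (htop : IsSyl T ⊤) {b g : G}
    (hg : g * b * g⁻¹ ∈ D.Z) (hb1 : b ≠ 1) :
    ∃ g' : G, g' * b * g'⁻¹ ∈ D.Z ∧ (∀ t ∈ T, t * (g' * b * g'⁻¹) = g' * b * g'⁻¹ * t) ∧
      ∀ x ∈ T, x * b = b * x → g' * x * g'⁻¹ ∈ T := by
  obtain ⟨z₀, hz₀, hz₀2, hz₀c⟩ := exists_central_invol hT.syl.two ((Z_le D.toChart).trans hT.le)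
    (Z_ne_bot D.toChart) (fun t ht w hw => conj_Z D.toChart (norm_P D hT ht) hw)
  -- move `g b g⁻¹` to `z₀` by the torus
  obtain ⟨l, hl⟩ : ∃ l : Fˣ, D.h l * (g * b * g⁻¹) * (D.h l)⁻¹ = z₀ := by
    obtain ⟨β, hβ, hβe⟩ := hg
    obtain ⟨γ, hγ, hγe⟩ := hz₀
    have hβ0 : β ≠ 0 := by
      rintro rfl
      rw [D.z_zero] at hβe
      apply hb1
      have : b = g⁻¹ * (g * b * g⁻¹) * g := by group
      rw [this, hβe]; group
    have hγ0 : γ ≠ 0 := by
      rintro rfl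
      rw [D.z_zero] at hγe
      rw [hγe, orderOf_one] at hz₀2
      exact absurd hz₀2 (by norm_num)
    obtain ⟨α, hα⟩ := exists_norm D.hq (fixed_mul hγ (fixed_inv hβ))
    have hα0 : α ≠ 0 := by
      rintro rfl
      rw [N_zero] at hα
      exact mul_ne_zero hγ0 (inv_ne_zero hβ0) hα.symm
    refine ⟨Units.mk0 α hα0, ?_⟩
    rw [hβe, D.h_z _ β hβ, hγe, Units.val_mk0, hα, mul_assoc, inv_mul_cancel₀ hβ0, mul_one]
  have hg1 : D.h l * g * b * (D.h l * g)⁻¹ = z₀ := by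
    rw [← hl]; group
  -- Sylow in the centralizer of `z₀`
  have hTC : T ≤ centralizer {z₀} := by
    intro t ht
    rw [mem_centralizer_singleton_iff]
    exact hz₀c t ht
  have hS : IsSyl T (centralizer {z₀}) := htop.mono hTC le_top
  have hQ : IsPGroup 2 ↥(cj (D.h l * g) (T ⊓ centralizer {b})) :=
    (hT.syl.two.to_le inf_le_left).map _
  obtain ⟨m, hm, hmq⟩ := hS.conj_into hQ (by
    rintro _ ⟨x, hx, rfl⟩
    have h1 : x * b = b * x := mem_centralizer_singleton_iff.mp hx.2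
    rw [mem_centralizer_singleton_iff, ← hg1]
    change D.h l * g * x * (D.h l * g)⁻¹ * _ = _ * (D.h l * g * x * (D.h l * g)⁻¹)
    have h2 : D.h l * g * x * (D.h l * g)⁻¹ * (D.h l * g * b * (D.h l * g)⁻¹)
      = D.h l * g * (x * b) * (D.h l * g)⁻¹ := by group
    have h3 : D.h l * g * b * (D.h l * g)⁻¹ * (D.h l * g * x * (D.h l * g)⁻¹)
      = D.h l * g * (b * x) * (D.h l * g)⁻¹ := by group
    rw [h2, h3, h1])
  have hm' : m * z₀ = z₀ * m := mem_centralizer_singleton_iff.mp hm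
  have hg2 : m * (D.h l * g) * b * (m * (D.h l * g))⁻¹ = z₀ := by
    have h1 : m * (D.h l * g) * b * (m * (D.h l * g))⁻¹ = m * (D.h l * g * b * (D.h l * g)⁻¹) * m⁻¹ := by
      group
    rw [h1, hg1, hm']; group
  refine ⟨m * (D.h l * g), ?_, ?_, ?_⟩
  · rw [hg2]; exact hz₀
  · intro t ht
    rw [hg2]; exact hz₀c t ht
  · intro x hx hxb
    have h1 := hmq (D.h l * g * x * (D.h l * g)⁻¹)
      (mem_cj_mul (mem_inf.mpr ⟨hx, mem_centralizer_singleton_iff.mpr hxb⟩))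
    have h2 : m * (D.h l * g * x * (D.h l * g)⁻¹) * m⁻¹ = m * (D.h l * g) * x * (m * (D.h l * g))⁻¹ := by
      group
    rwa [h2] at h1

/-- the heart of `closed` -/
theorem conj_Z_le [Finite G] {T : Subgroup G} (hT : Syl D T) {R : Subgroup G} {g : G}
    (hR : R ≤ D.P) (hRT : ∀ r ∈ R, g * r * g⁻¹ ∈ T) (rich : Rich D R) : cj g D.Z ≤ D.Z := by
  classical
  -- `g Z g⁻¹ ≤ P`
  have hZ1 : D.Z ≤ ⁅R, R⁆ := rich.1 R le_rfl (by rw [relIndex_self]; norm_num)
  have hZP : cj g D.Z ≤ D.P := by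
    refine (map_mono hZ1).trans ?_
    rw [map_commutator, commutator_le]
    rintro _ ⟨x, hx, rfl⟩ _ ⟨y, hy, rfl⟩
    rw [commutatorElement_def]
    exact hT.comm _ (hRT x hx) _ (hRT y hy)
  have hsq : ∀ r ∈ R, g * r * g⁻¹ * (g * r * g⁻¹) ∈ D.P := by
    intro r hr
    have h1 : g * r * g⁻¹ * (g * r * g⁻¹) = g * (r * r) * g⁻¹ := by group
    rw [h1]
    exact hZP (mem_cj_mul (sq_mem_Z D.toChart (hR hr)))
  set R₀ : Subgroup G := R ⊓ D.P.comap (MulAut.conj g).toMonoidHom with hR₀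
  have hmem : ∀ r, r ∈ R₀ ↔ r ∈ R ∧ g * r * g⁻¹ ∈ D.P := fun r => Iff.rfl
  have hR₀R : R₀ ≤ R := inf_le_left
  -- products in `P` and cosets
  have hcos : ∀ x ∈ R, ∀ y ∈ R, g * x * g⁻¹ * (g * y * g⁻¹) ∈ D.P → x⁻¹ * y ∈ R₀ := by
    intro x hx y hy h
    refine (hmem _).mpr ⟨R.mul_mem (R.inv_mem hx) hy, ?_⟩
    have h1 : g * (x⁻¹ * y) * g⁻¹ = (g * x * g⁻¹ * (g * x * g⁻¹))⁻¹ * (g * x * g⁻¹ * (g * y * g⁻¹)) := by
      group
    rw [h1]
    exact D.P.mul_mem (D.P.inv_mem (hsq x hx)) h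
  have htyp : ∀ r ∈ R, g * r * g⁻¹ ∈ D.P ∨ TypF D (g * r * g⁻¹) ∨ TypG D (g * r * g⁻¹) ∨
      TypU D (g * r * g⁻¹) := fun r hr => hT.typ _ (hRT r hr) (hsq r hr)
  -- commutators in `g Z g⁻¹` are involutions
  have hinv : ∀ x ∈ R, ∀ y ∈ R, ∀ w : G, w = g * x * g⁻¹ * (g * y * g⁻¹) * (g * x * g⁻¹)⁻¹ * (g * y * g⁻¹)⁻¹ →
      w * w = 1 := by
    intro x hx y hy w hw
    have h1 : w = g * (x * y * x⁻¹ * y⁻¹) * g⁻¹ := by rw [hw]; group
    have h2 := Z_sq D.toChart (comm_mem_Z D.toChart (hR hx) (hR hy))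
    rw [h1]
    calc g * (x * y * x⁻¹ * y⁻¹) * g⁻¹ * (g * (x * y * x⁻¹ * y⁻¹) * g⁻¹)
        = g * ((x * y * x⁻¹ * y⁻¹) * (x * y * x⁻¹ * y⁻¹)) * g⁻¹ := by group
      _ = 1 := by rw [h2]; group
  by_cases hi : ∀ x ∈ R, ∀ y ∈ R, x ∉ R₀ → y ∉ R₀ → x⁻¹ * y ∈ R₀
  · -- index at most two
    have h1 : R₀.relIndex R ≤ 2 := by
      refine relIndex_le_of_fun (fun r => if r ∈ R₀ then (0 : Fin 2) else 1) ?_
      intro x hx y hy hxy
      by_cases h2 : x ∈ R₀ <;> by_cases h3 : y ∈ R₀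
      · exact R₀.mul_mem (R₀.inv_mem h2) h3
      · simp [h2, h3] at hxy
      · simp [h2, h3] at hxy
      · exact hi x hx y hy h2 h3
    refine (map_mono (rich.1 R₀ hR₀R h1)).trans ?_
    rw [map_commutator, commutator_le]
    rintro _ ⟨x, hx, rfl⟩ _ ⟨y, hy, rfl⟩
    rw [commutatorElement_def]
    exact comm_mem_Z D.toChart ((hmem x).mp hx).2 ((hmem y).mp hy).2
  · push Not at hi
    obtain ⟨x₁, hx₁, x₂, hx₂, hn₁, hn₂, hn₁₂⟩ := hi
    have h1 : R₀.relIndex R ≤ 4 := by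
      refine relIndex_le_of_fun (fun r => if g * r * g⁻¹ ∈ D.P then (0 : Fin 4) else
        if TypF D (g * r * g⁻¹) then 1 else if TypG D (g * r * g⁻¹) then 2 else 3) ?_
      intro x hx y hy hxy
      split_ifs at hxy with c1 c2 c3 c4 c5 c6 c7 c8 c9 c10 c11 c12
      all_goals first
        | exact absurd hxy (by decide)
        | skip
      · exact R₀.mul_mem (R₀.inv_mem ((hmem x).mpr ⟨hx, c1⟩)) ((hmem y).mpr ⟨hy, c2⟩)
      all_goals
        apply hcos x hx y hy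
      · exact hT.FF _ (hRT x hx) _ (hRT y hy) (by assumption) (by assumption)
      · exact hT.GG _ (hRT x hx) _ (hRT y hy) (by assumption) (by assumption)
      · have hx' := htyp x hx
        have hy' := htyp y hy
        refine hT.UU _ (hRT x hx) _ (hRT y hy) ?_ ?_
        · tauto
        · tauto
    -- `[u, x] ∈ Z` for the types P, F, G
    have hcm : ∀ r ∈ R₀, ∀ s ∈ R, ¬ TypU D (g * s * g⁻¹) ∨ s ∈ R₀ →
        g * r * g⁻¹ * (g * s * g⁻¹) * (g * r * g⁻¹)⁻¹ * (g * s * g⁻¹)⁻¹ ∈ D.Z := by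
      intro r hr s hs hU
      have hrP := ((hmem r).mp hr).2
      rcases htyp s hs with h | h | h | h
      · exact comm_mem_Z D.toChart hrP h
      · exact comm_F D hrP h (hinv r (hR₀R hr) s hs _ rfl)
      · exact comm_G D hrP h (hinv r (hR₀R hr) s hs _ rfl)
      · rcases hU with hU | hU
        · exact absurd h hU
        · exact comm_mem_Z D.toChart hrP ((hmem s).mp hU).2
    -- all of `R`
    have hall : ∀ r ∈ R₀, ∀ s ∈ R,
        g * r * g⁻¹ * (g * s * g⁻¹) * (g * r * g⁻¹)⁻¹ * (g * s * g⁻¹)⁻¹ ∈ D.Z := by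
      intro r hr s hs
      by_cases hU : TypU D (g * s * g⁻¹)
      swap
      · exact hcm r hr s hs (Or.inl hU)
      by_cases hsR : s ∈ R₀
      · exact hcm r hr s hs (Or.inr hsR)
      -- a `y` not in `R₀ ∪ s R₀`
      obtain ⟨y, hy, hyn, hsy⟩ : ∃ y ∈ R, y ∉ R₀ ∧ s⁻¹ * y ∉ R₀ := by
        by_cases h2 : s⁻¹ * x₁ ∈ R₀
        · refine ⟨x₂, hx₂, hn₂, ?_⟩
          intro h3
          apply hn₁₂
          have h4 : x₁⁻¹ * x₂ = (s⁻¹ * x₁)⁻¹ * (s⁻¹ * x₂) := by group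
          rw [h4]
          exact R₀.mul_mem (R₀.inv_mem h2) h3
        · exact ⟨x₁, hx₁, hn₁, h2⟩
      have hyU : ¬ TypU D (g * y * g⁻¹) := by
        intro h
        exact hsy (hcos s hs y hy (hT.UU _ (hRT s hs) _ (hRT y hy) hU h))
      have hsyU : ¬ TypU D (g * (s * y) * g⁻¹) := by
        intro h
        have h2 := hcos s hs (s * y) (R.mul_mem hs hy) (hT.UU _ (hRT s hs) _ (hRT _ (R.mul_mem hs hy)) hU h)
        rw [inv_mul_cancel_left] at h2
        exact hyn h2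
      have k1 := hcm r hr (s * y) (R.mul_mem hs hy) (Or.inl hsyU)
      have k2 := hcm r hr y hy (Or.inl hyU)
      -- `[r, s] = [r, s y] (s y) ([r, y⁻¹]) (s y)⁻¹`
      have hyP : cj (g * y * g⁻¹) D.P = D.P := norm_P D hT (hRT y hy)
      have hsP : cj (g * s * g⁻¹) D.P = D.P := norm_P D hT (hRT s hs)
      have k3 : g * s * g⁻¹ *
          (g * r * g⁻¹ * (g * y * g⁻¹) * (g * r * g⁻¹)⁻¹ * (g * y * g⁻¹)⁻¹)⁻¹ * (g * s * g⁻¹)⁻¹ ∈ D.Z :=
        conj_Z D.toChart hsP (D.Z.inv_mem k2)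
      have h5 : g * r * g⁻¹ * (g * s * g⁻¹) * (g * r * g⁻¹)⁻¹ * (g * s * g⁻¹)⁻¹
          = (g * r * g⁻¹ * (g * (s * y) * g⁻¹) * (g * r * g⁻¹)⁻¹ * (g * (s * y) * g⁻¹)⁻¹) *
            (g * s * g⁻¹ *
          (g * r * g⁻¹ * (g * y * g⁻¹) * (g * r * g⁻¹)⁻¹ * (g * y * g⁻¹)⁻¹)⁻¹ * (g * s * g⁻¹)⁻¹) := by
        group
      rw [h5]
      exact D.Z.mul_mem k1 k3
    refine (map_mono (rich.2 R₀ hR₀R h1)).trans ?_
    rw [map_commutator, commutator_le]
    rintro _ ⟨x, hx, rfl⟩ _ ⟨y, hy, rfl⟩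
    rw [commutatorElement_def]
    exact hall x hx y hy

theorem closed [Finite G] {T : Subgroup G} (hT : Syl D T) (htop : IsSyl T ⊤)
    {R : Subgroup G} {b g : G} (_hb : b ∈ T) (hR : R ≤ D.P) (hRb : ∀ r ∈ R, r * b = b * r)
    (rich : Rich D R) (hg : g * b * g⁻¹ ∈ D.Z) (hb1 : b ≠ 1) : b ∈ D.Z := by
  obtain ⟨g', hZ, -, hin⟩ := normalise D hT htop hg hb1
  have h1 := conj_Z_le D hT hR (fun r hr => hin r (hT.le (hR hr)) (hRb r hr)) rich
  have h2 : cj g' D.Z = D.Z := eq_of_le_of_card_ge h1 (card_cj g' D.Z).ge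
  rw [← h2] at hZ
  rw [mem_cj] at hZ
  have h3 : g'⁻¹ * (g' * b * g'⁻¹) * g' = b := by group
  rwa [h3] at hZ

end Cfsg.Agent.OddHalf.D4.U3.Closed

end

-- merged: Cfsg.Agent.OddHalf.D4.U3.Tools
section

/-!
# ODD, D4, row `K = U₃(q)`: elementary facts on the chart (used by PIECE J)
-/

set_option autoImplicit false

namespace Cfsg.Agent.OddHalf.D4.U3.Tools

open Subgroup Cfsg.Agent.StdU3.Field Cfsg.Agent.StdU3.PreDef Cfsg.Agent.OddHalf.D4.CommConj
  Cfsg.Agent.OddHalf.D4.Basic Cfsg.Agent.OddHalf.D4.U3.Defs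

universe u v

variable {G : Type u} [Group G] {F : Type v} [Field F] [Fintype F] [CharP F 2] {n : ℕ}

section Chart

variable (D : Chart G F n)

theorem Z_le : D.Z ≤ D.P := by
  rintro x ⟨b, hb, rfl⟩
  exact D.z_mem b hb

theorem z_mem_Z {b : F} (hb : bar n b = b) : D.z b ∈ D.Z := ⟨b, hb, rfl⟩

/-- `z b` is central in `P` -/
theorem z_comm {x : G} (hx : x ∈ D.P) {b : F} (hb : bar n b = b) : x * D.z b = D.z b * x := by
  rw [D.comm x hx _ (D.z_mem b hb), D.a_z b hb, D.c_z b hb, D.f_z b hb]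
  have h1 : Tr n (D.a x * bar n 0) + (D.c x * 0 + 0 * D.f x) = 0 := by
    rw [bar_zero, mul_zero, Tr_zero, mul_zero, zero_mul, add_zero, add_zero]
  rw [h1, D.z_zero, one_mul]

theorem z_sq {b : F} (hb : bar n b = b) : D.z b * D.z b = 1 := by
  rw [← D.z_add b b hb hb, Cfsg.Agent.StdU3.Field.add_self, D.z_zero]

theorem Z_sq {x : G} (hx : x ∈ D.Z) : x * x = 1 := by
  obtain ⟨b, hb, rfl⟩ := hx
  exact z_sq D hb

theorem Z_central {x y : G} (hx : x ∈ D.P) (hy : y ∈ D.Z) : x * y = y * x := by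
  obtain ⟨b, hb, rfl⟩ := hy
  exact z_comm D hx hb

/-- injectivity of `z` -/
theorem z_inj' {b b' : F} (hb : bar n b = b) (hb' : bar n b' = b') (h : D.z b = D.z b') : b = b' := by
  have h1 : D.z (b + b') = 1 := by
    rw [D.z_add b b' hb hb', h, z_sq D hb']
  exact Cfsg.Agent.StdU3.Field.add_eq_zero.mp (D.z_inj _ (fixed_add hb hb') h1)

theorem fixed_form {x y : G} (hx : x ∈ D.P) (hy : y ∈ D.P) :
    bar n (Tr n (D.a x * bar n (D.a y)) + (D.c x * D.f y + D.c y * D.f x)) =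
      Tr n (D.a x * bar n (D.a y)) + (D.c x * D.f y + D.c y * D.f x) := by
  have h1 := D.fix_c x hx
  have h2 := D.fix_c y hy
  have h3 := D.fix_Phi _ (D.f_mem x hx)
  have h4 := D.fix_Phi _ (D.f_mem y hy)
  exact fixed_add (fixed_Tr D.hq _) (fixed_add (fixed_mul h1 h4) (fixed_mul h2 h3))

theorem comm_mem {x y : G} (hx : x ∈ D.P) (hy : y ∈ D.P) : x * y * x⁻¹ * y⁻¹ ∈ D.Z := by
  refine ⟨_, fixed_form D hx hy, ?_⟩
  rw [D.comm x hx y hy]
  group

theorem fixed_sq {x : G} (hx : x ∈ D.P) :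
    bar n (N n (D.a x) + D.kap * D.c x + D.c x * D.f x) = N n (D.a x) + D.kap * D.c x + D.c x * D.f x := by
  have h1 := D.fix_c x hx
  have h3 := D.fix_Phi _ (D.f_mem x hx)
  exact fixed_add (fixed_add (fixed_N D.hq _) (fixed_mul D.fix_kap h1)) (fixed_mul h1 h3)

theorem sq_mem {x : G} (hx : x ∈ D.P) : x * x ∈ D.Z := ⟨_, fixed_sq D hx, D.sq x hx⟩

/-- every `z b` is a commutator -/
theorem exists_comm {b : F} (hb : bar n b = b) : ∃ x ∈ D.P, ∃ y ∈ D.P, x * y * x⁻¹ * y⁻¹ = D.z b := by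
  obtain ⟨x, hx, hxa, hxc, hxf⟩ := D.surj 1 0 0 (bar_zero n) (zero_mem _)
  obtain ⟨e, he⟩ := exists_Tr_eq D.hq one_ne_zero hb
  obtain ⟨y, hy, hya, hyc, hyf⟩ := D.surj e 0 0 (bar_zero n) (zero_mem _)
  refine ⟨x, hx, y, hy, ?_⟩
  rw [D.comm x hx y hy, hxa, hya, hxc, hyc]
  have h1 : Tr n (1 * bar n e) + (0 * D.f y + 0 * D.f x) = b := by
    rw [he, zero_mul, zero_mul, add_zero, add_zero]
  rw [h1]
  group

/-- an element normalizing `P` normalizes `Z` -/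
theorem conj_Z {x : G} (hx : cj x D.P = D.P) {y : G} (hy : y ∈ D.Z) : x * y * x⁻¹ ∈ D.Z := by
  obtain ⟨b, hb, rfl⟩ := hy
  obtain ⟨p, hp, q, hq, hpq⟩ := exists_comm D hb
  rw [← hpq]
  have h1 : x * p * x⁻¹ ∈ D.P := by
    have := mem_cj_mul (g := x) hp
    rwa [hx] at this
  have h2 : x * q * x⁻¹ ∈ D.P := by
    have := mem_cj_mul (g := x) hq
    rwa [hx] at this
  have h3 := comm_mem D h1 h2
  have h4 : x * (p * q * p⁻¹ * q⁻¹) * x⁻¹ =
      x * p * x⁻¹ * (x * q * x⁻¹) * (x * p * x⁻¹)⁻¹ * (x * q * x⁻¹)⁻¹ := by group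
  rw [h4]
  exact h3

theorem cj_inv {x : G} {X : Subgroup G} (hx : cj x X = X) : cj x⁻¹ X = X := by
  conv_lhs => rw [← hx]
  rw [← cj_mul, inv_mul_cancel]
  ext y
  rw [mem_cj]
  simp

theorem conj_Z' {x : G} (hx : cj x D.P = D.P) {y : G} (hy : x * y * x⁻¹ ∈ D.Z) : y ∈ D.Z := by
  have h1 := conj_Z D (cj_inv hx) hy
  have h2 : x⁻¹ * (x * y * x⁻¹) * x⁻¹⁻¹ = y := by group
  rwa [h2] at h1

/-- order of `Z` -/
theorem mem_Z_of_coord {x : G} (hx : x ∈ D.P) (ha : D.a x = 0) (hc : D.c x = 0) (hf : D.f x = 0) :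
    x ∈ D.Z := by
  obtain ⟨b, hb, h⟩ := D.ker x hx ha hc hf
  exact ⟨b, hb, h⟩

theorem coord_of_Z {x : G} (hx : x ∈ D.Z) : D.a x = 0 ∧ D.c x = 0 ∧ D.f x = 0 := by
  obtain ⟨b, hb, rfl⟩ := hx
  exact ⟨D.a_z b hb, D.c_z b hb, D.f_z b hb⟩

/-- there are at least four fixed elements -/
theorem exists_fixed (D : Chart G F n) : ∃ l : F, bar n l = l ∧ l ≠ 0 ∧ l ≠ 1 := by
  obtain ⟨l, hl, hl1⟩ := exists_fixed_ne D.hq
  exact ⟨l, hl, l.ne_zero, hl1⟩

theorem four_le_card [Finite G] (D : Chart G F n) : 4 ≤ Nat.card D.Z := by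
  classical
  obtain ⟨l, hl, hl0, hl1⟩ := exists_fixed D
  have h1 : bar n (1 : F) = 1 := bar_one n
  let s : Fin 4 → D.Z := ![⟨D.z 0, z_mem_Z D (bar_zero n)⟩, ⟨D.z 1, z_mem_Z D h1⟩,
    ⟨D.z l, z_mem_Z D hl⟩, ⟨D.z (1 + l), z_mem_Z D (fixed_add h1 hl)⟩]
  have hinj : Function.Injective s := by
    have h01 : (0 : F) ≠ 1 := zero_ne_one
    have h2 : (1 + l : F) ≠ 0 := fun h => hl1 (Cfsg.Agent.StdU3.Field.add_eq_zero.mp h).symm
    have h3 : (1 + l : F) ≠ 1 := fun h => hl0 (by simpa using h)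
    have h4 : (1 + l : F) ≠ l := fun h => one_ne_zero (α := F) (by simpa using h)
    have hz := bar_zero (K := F) n
    have h5 := fixed_add h1 hl
    intro i j hij
    fin_cases i <;> fin_cases j <;> first | rfl | (exfalso; have h := congrArg Subtype.val hij; simp [s] at h; first
      | exact h01 (z_inj' D hz h1 h)
      | exact h01.symm (z_inj' D h1 hz h)
      | exact hl0 (z_inj' D hl hz h)
      | exact hl0.symm (z_inj' D hz hl h)
      | exact hl1 (z_inj' D hl h1 h)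
      | exact hl1.symm (z_inj' D h1 hl h)
      | exact h2 (z_inj' D h5 hz h)
      | exact h2.symm (z_inj' D hz h5 h)
      | exact h3 (z_inj' D h5 h1 h)
      | exact h3.symm (z_inj' D h1 h5 h)
      | exact h4 (z_inj' D h5 hl h)
      | exact h4.symm (z_inj' D hl h5 h))
  have := Nat.card_le_card_of_injective s hinj
  simpa using this

end Chart

end Cfsg.Agent.OddHalf.D4.U3.Tools

end

-- merged: Cfsg.Agent.OddHalf.D4.U3.EndCore
section

/-!
# ODD, D4, row `K = U₃(q)`, `q = 2 ^ n ≥ 4`: PIECE J (the end), core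

`false_of`: `Syl D T`, `T` Sylow in `G`, an element of `T` conjugate into `Z` is in `Z` or of type `U`: contradiction.
-/

set_option autoImplicit false
set_option linter.unusedSectionVars false

namespace Cfsg.Agent.OddHalf.D4.U3.EndCore

open Subgroup Cfsg.Agent.StdU3.Field Cfsg.Agent.StdU3.PreDef Cfsg.Agent.OddHalf.D4.CommConj
  Cfsg.Agent.OddHalf.D4.Basic Cfsg.Agent.OddHalf.D4.U3.Defs Cfsg.Agent.OddHalf.D4.U3.Tools

universe u v

variable {G : Type u} [Group G] {F : Type v} [Field F] [Fintype F] [CharP F 2] {n : ℕ}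
  {D : Dat G F n} {T : Subgroup G}

theorem norm_of (hT : Syl D T) {x : G} (hx : x ∈ T) : cj x D.P = D.P :=
  cj_eq_of_mem_normalizer (hT.syl.le hx)

theorem norm_Z (hT : Syl D T) {x : G} (hx : x ∈ T) {y : G} (hy : y ∈ D.Z) : x * y * x⁻¹ ∈ D.Z :=
  conj_Z D.toChart (norm_of hT hx) hy

/-- an element of `T` with square in `P` centralizes `Z` -/
theorem comm_Z (hT : Syl D T) {x : G} (hx : x ∈ T) (hx2 : x * x ∈ D.P) {y : G} (hy : y ∈ D.Z) :
    x * y = y * x := by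
  rcases hT.typ x hx hx2 with h | h | h | h
  · exact Z_central D.toChart h hy
  all_goals
    obtain ⟨b, hb, rfl⟩ := hy
    exact h.2.1 b hb

theorem Z_le_T (hT : Syl D T) : D.Z ≤ T := (Z_le D.toChart).trans hT.le

/-- elements of type `U` are not in `P` -/
theorem notMem_of_U {b : G} (hU : TypU D b) : b ∉ D.P := by
  intro hb
  obtain ⟨-, -, -, -, c₀, θ, -, hθ, -, h⟩ := hU
  obtain ⟨p, hp, -, hpc, hpf⟩ := D.surj 0 0 1 (bar_zero n) D.one_mem
  obtain ⟨-, h2, -⟩ := h p hp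
  rw [D.c_mul _ (D.P.mul_mem hb hp) _ (D.P.inv_mem hb), D.c_mul b hb p hp,
    D.toChart.c_inv hb, hpc, hpf, add_zero, Cfsg.Agent.StdU3.Field.add_self, mul_one] at h2
  exact hθ h2.symm

theorem sq_inj {x y : F} (h : x ^ 2 = y ^ 2) : x = y := by
  have h1 : (x + y) ^ 2 = 0 := by
    have h2 : (x + y) ^ 2 = x ^ 2 + y ^ 2 + (x * y + x * y) := by ring
    rw [h2, h, Cfsg.Agent.StdU3.Field.add_self, Cfsg.Agent.StdU3.Field.add_self, add_zero]
  exact Cfsg.Agent.StdU3.Field.add_eq_zero.mp (pow_eq_zero_iff (two_ne_zero) |>.mp h1)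

theorem exists_sqrt (a : F) : ∃ x : F, x ^ 2 = a := by
  have h1 : ringChar F = 2 := ringChar.eq_iff.mpr inferInstance
  obtain ⟨r, hr⟩ := FiniteField.isSquare_of_char_two h1 a
  exact ⟨r, by rw [hr, sq]⟩

/-- `p = s (b s b⁻¹)` with `b p b⁻¹ = p z(ε)`, `p² = z(ε)` -/
theorem twist {b : G} (hU : TypU D b) (hb2 : b * b = 1) {ε : F} (hε : bar n ε = ε) :
    ∃ p ∈ D.P, b * p * b⁻¹ = p * D.z ε ∧ p * p = D.z ε := by
  obtain ⟨hP, -, hkap, -, c₀, θ, hc₀, hθ, -, h⟩ := hU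
  obtain ⟨x, hx⟩ := exists_sqrt (c₀ * ε)
  have hN : c₀ * bar n c₀ = 1 := by rw [← N_def]; exact hc₀
  have hxb : c₀ * bar n x = x := by
    apply sq_inj
    have h1 : (c₀ * bar n x) ^ 2 = c₀ ^ 2 * bar n (x ^ 2) := by rw [bar_pow]; ring
    rw [h1, hx, bar_mul, hε]
    calc c₀ ^ 2 * (bar n c₀ * ε) = c₀ * (c₀ * bar n c₀) * ε := by ring
      _ = c₀ * ε := by rw [hN, mul_one]
  have hNx : N n x = ε := by
    have h1 : bar n x = x * bar n c₀ := by
      calc bar n x = (c₀ * bar n c₀) * bar n x := by rw [hN, one_mul]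
        _ = (c₀ * bar n x) * bar n c₀ := by ring
        _ = x * bar n c₀ := by rw [hxb]
    rw [N_def, h1]
    calc x * (x * bar n c₀) = x ^ 2 * bar n c₀ := by ring
      _ = c₀ * bar n c₀ * ε := by rw [hx]; ring
      _ = ε := by rw [hN, one_mul]
  obtain ⟨e, he⟩ := exists_Tr_one D.hq
  rw [Tr_def] at he
  obtain ⟨s, hs, hsa, hsc, hsf⟩ := D.surj (x * e) 0 0 (bar_zero n) (zero_mem _)
  obtain ⟨h1, h2, h3⟩ := h s hs
  have ht : b * s * b⁻¹ ∈ D.P := by
    have := mem_cj_mul (g := b) hs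
    rwa [hP] at this
  set t := b * s * b⁻¹ with htdef
  rw [hsa] at h1
  rw [hsf, mul_zero] at h2
  rw [hsc, mul_zero] at h3
  have hadd : x * e + c₀ * bar n (x * e) = x := by
    rw [bar_mul, ← mul_assoc, hxb, ← mul_add, he, mul_one]
  have hpa : D.a (s * t) = x := by rw [D.a_mul s hs t ht, hsa, h1, hadd]
  have hpc : D.c (s * t) = 0 := by rw [D.c_mul s hs t ht, hsc, h2, add_zero]
  have hpf : D.f (s * t) = 0 := by rw [D.f_mul s hs t ht, hsf, h3, add_zero]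
  have hp : s * t ∈ D.P := D.P.mul_mem hs ht
  refine ⟨s * t, hp, ?_, ?_⟩
  · have hbt : b * (s * t) * b⁻¹ = t * s := by
      rw [htdef]
      calc b * (s * (b * s * b⁻¹)) * b⁻¹ = b * s * b⁻¹ * ((b * b) * s * (b * b)⁻¹) := by group
        _ = b * s * b⁻¹ * s := by rw [hb2]; group
    rw [hbt, D.comm t ht s hs, h1, hsa, h2, h3, hsc, hsf]
    have hB : Tr n (c₀ * bar n (x * e) * bar n (x * e)) + ((0 : F) * 0 + 0 * 0) = ε := by
      have h4 := N_add' D.hq (x * e) (c₀ * bar n (x * e))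
      have h5 : N n (c₀ * bar n (x * e)) = N n (x * e) := by rw [N_mul, N_bar D.hq, hc₀, one_mul]
      rw [hadd, hNx, h5, Cfsg.Agent.StdU3.Field.add_self, zero_add, Tr_comm D.hq] at h4
      rw [← h4]
      ring
    rw [hB]
    exact (z_comm D.toChart hp hε).symm
  · rw [D.sq _ hp, hpa, hpc, hpf, hNx, mul_zero, mul_zero, add_zero, add_zero]

theorem card_le_two_mul [Finite G] {A B : Subgroup G} (t : G) (h : ∀ b ∈ B, b ∈ A ∨ t * b ∈ A) :
    Nat.card B ≤ 2 * Nat.card A := by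
  classical
  let φ : B → A × Bool := fun b =>
    if hb : (b : G) ∈ A then (⟨b, hb⟩, true) else (⟨t * b, (h b b.2).resolve_left hb⟩, false)
  have hφ : Function.Injective φ := by
    intro b b' hbb
    by_cases h1 : (b : G) ∈ A <;> by_cases h2 : (b' : G) ∈ A
    · simp only [φ, dif_pos h1, dif_pos h2, Prod.mk.injEq, Subtype.mk.injEq] at hbb
      exact Subtype.ext hbb.1
    · simp [φ, h1, h2] at hbb
    · simp [φ, h1, h2] at hbb
    · simp only [φ, dif_neg h1, dif_neg h2, Prod.mk.injEq, Subtype.mk.injEq] at hbb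
      exact Subtype.ext (mul_left_cancel hbb.1)
  have h3 := Nat.card_le_card_of_injective φ hφ
  rw [Nat.card_prod, Nat.card_eq_fintype_card (α := Bool), Fintype.card_bool] at h3
  omega

theorem two_mul_card_le [Finite G] {A B : Subgroup G} (t : G) (hA : A ≤ B) (ht : t ∉ A)
    (h : ∀ a ∈ A, a * t ∈ B) : 2 * Nat.card A ≤ Nat.card B := by
  classical
  let φ : A × Bool → B := fun p => bif p.2 then ⟨p.1, hA p.1.2⟩ else ⟨p.1 * t, h _ p.1.2⟩
  have hφ : Function.Injective φ := by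
    rintro ⟨a, i⟩ ⟨a', j⟩ hp
    cases i <;> cases j
    · have h1 := congrArg Subtype.val hp
      have h2 : (a : G) = a' := mul_right_cancel h1
      rw [Subtype.ext h2]
    · exfalso
      have h1 : (a : G) * t = a' := congrArg Subtype.val hp
      apply ht
      have h2 : t = (a : G)⁻¹ * a' := by rw [← h1]; group
      rw [h2]
      exact A.mul_mem (A.inv_mem a.2) a'.2
    · exfalso
      have h1 : (a : G) = a' * t := congrArg Subtype.val hp
      apply ht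
      have h2 : t = (a' : G)⁻¹ * a := by rw [h1]; group
      rw [h2]
      exact A.mul_mem (A.inv_mem a'.2) a.2
    · have h1 : (a : G) = (a' : G) := congrArg (fun x : B => (x : G)) hp
      rw [Subtype.ext h1]
  have h3 := Nat.card_le_card_of_injective φ hφ
  rw [Nat.card_prod, Nat.card_eq_fintype_card (α := Bool), Fintype.card_bool] at h3
  omega

/-- normalization of the conjugating element -/
theorem normalise [Finite G] (hT : Syl D T) (htop : IsSyl T ⊤) {b g : G} (hg : g * b * g⁻¹ ∈ D.Z)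
    (hb1 : b ≠ 1) : ∃ g' : G, g' * b * g'⁻¹ ∈ D.Z ∧ (∀ t ∈ T, t * (g' * b * g'⁻¹) = (g' * b * g'⁻¹) * t) ∧
      ∀ x ∈ T, x * b = b * x → g' * x * g'⁻¹ ∈ T := by
  obtain ⟨b₁, hb₁, hgb⟩ := hg
  have hne : b₁ ≠ 0 := by
    rintro rfl
    rw [D.toChart.z_zero] at hgb
    exact hb1 (by
      calc b = g⁻¹ * (g * b * g⁻¹) * g := by group
        _ = 1 := by rw [hgb]; group)
  have hZne : D.Z ≠ ⊥ := by
    intro h
    have h1 : D.z b₁ ∈ D.Z := ⟨b₁, hb₁, rfl⟩
    rw [h, mem_bot] at h1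
    exact hne (D.z_inj b₁ hb₁ h1)
  obtain ⟨z₀, hz₀, hz₀2, hz₀c⟩ := exists_central_invol (T := T) (N := D.Z) htop.two (Z_le_T hT) hZne
    (fun t ht y hy => norm_Z hT ht hy)
  obtain ⟨b₀, hb₀, hzb⟩ := hz₀
  have hne₀ : b₀ ≠ 0 := by
    rintro rfl
    rw [D.toChart.z_zero] at hzb
    rw [hzb, orderOf_one] at hz₀2
    omega
  obtain ⟨l, hl⟩ := exists_norm D.hq (b := b₀ * b₁⁻¹) (fixed_mul hb₀ (fixed_inv hb₁))
  have hl0 : l ≠ 0 := by
    rintro rfl
    rw [N_zero] at hl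
    exact (mul_ne_zero hne₀ (inv_ne_zero hne)) hl.symm
  set L : Fˣ := Units.mk0 l hl0 with hL
  have h1 : (D.h L * g) * b * (D.h L * g)⁻¹ = z₀ := by
    calc (D.h L * g) * b * (D.h L * g)⁻¹ = D.h L * (g * b * g⁻¹) * (D.h L)⁻¹ := by group
      _ = D.z (N n (L : F) * b₁) := by rw [hgb, D.h_z L b₁ hb₁]
      _ = z₀ := by
        rw [hzb, hL, Units.val_mk0, hl, mul_assoc, inv_mul_cancel₀ hne, mul_one]
  set g₁ := D.h L * g with hg₁
  have hTz : T ≤ centralizer ({z₀} : Set G) := by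
    intro t ht
    rw [mem_centralizer_singleton_iff]
    exact hz₀c t ht
  have hS : IsSyl T (centralizer ({z₀} : Set G)) := htop.mono hTz le_top
  have hC2 : IsPGroup 2 ↥(cj g₁ (T ⊓ centralizer ({b} : Set G))) :=
    (htop.two.to_le inf_le_left).map _
  have hCle : cj g₁ (T ⊓ centralizer ({b} : Set G)) ≤ centralizer ({z₀} : Set G) := by
    rintro _ ⟨x, hx, rfl⟩
    rw [mem_centralizer_singleton_iff]
    have h2 := mem_centralizer_singleton_iff.mp hx.2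
    show g₁ * x * g₁⁻¹ * z₀ = z₀ * (g₁ * x * g₁⁻¹)
    rw [← h1]
    calc g₁ * x * g₁⁻¹ * (g₁ * b * g₁⁻¹) = g₁ * (x * b) * g₁⁻¹ := by group
      _ = g₁ * (b * x) * g₁⁻¹ := by rw [h2]
      _ = g₁ * b * g₁⁻¹ * (g₁ * x * g₁⁻¹) := by group
  obtain ⟨m, hm, hmq⟩ := hS.conj_into hC2 hCle
  have hm' := mem_centralizer_singleton_iff.mp hm
  have h2 : (m * g₁) * b * (m * g₁)⁻¹ = z₀ := by
    calc (m * g₁) * b * (m * g₁)⁻¹ = m * (g₁ * b * g₁⁻¹) * m⁻¹ := by group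
      _ = m * z₀ * m⁻¹ := by rw [h1]
      _ = z₀ := by rw [hm']; group
  refine ⟨m * g₁, ?_, ?_, ?_⟩
  · rw [h2]; exact ⟨b₀, hb₀, hzb⟩
  · rw [h2]; exact hz₀c
  · intro x hx hxb
    have h3 := hmq (g₁ * x * g₁⁻¹) (mem_cj_mul ⟨hx, mem_centralizer_singleton_iff.mpr hxb⟩)
    have h4 : m * (g₁ * x * g₁⁻¹) * m⁻¹ = m * g₁ * x * (m * g₁)⁻¹ := by group
    rwa [h4] at h3

/-- **no element of type `U` is conjugate into `Z`** -/
theorem false_U [Finite G] (hT : Syl D T) (htop : IsSyl T ⊤)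
    (hin : ∀ b ∈ T, b ≠ 1 → (∃ g : G, g * b * g⁻¹ ∈ D.Z) → b ∈ D.Z ∨ TypU D b)
    {b g₀ : G} (hb : b ∈ T) (hU : TypU D b) (hg₀ : g₀ * b * g₀⁻¹ ∈ D.Z) : False := by
  have hbP := notMem_of_U hU
  have hb1 : b ≠ 1 := fun h => hbP (h ▸ D.P.one_mem)
  have hbZ : b ∉ D.Z := fun h => hbP (Z_le D.toChart h)
  obtain ⟨g, hg, hgc, hgT⟩ := normalise hT htop hg₀ hb1
  set z₀ := g * b * g⁻¹ with hz₀
  have hb2 : b * b = 1 := by
    have h1 := Z_sq D.toChart hg
    calc b * b = g⁻¹ * (z₀ * z₀) * g := by rw [hz₀]; group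
      _ = 1 := by rw [h1]; group
  have hbcomm : ∀ y ∈ D.Z, y * b = b * y := by
    intro y hy
    obtain ⟨β, hβ, rfl⟩ := hy
    exact (hU.2.1 β hβ).symm
  have hz₀sq : z₀ * z₀ = 1 := Z_sq D.toChart hg
  -- elements `z β b` are conjugate to `b`
  have hconj : ∀ y ∈ D.Z, ∃ p : G, p * (y * b) * p⁻¹ = b := by
    intro y hy
    obtain ⟨β, hβ, rfl⟩ := hy
    obtain ⟨p, hp, hp1, -⟩ := twist hU hb2 hβ
    refine ⟨p, ?_⟩
    have h1 : b * p = p * (D.z β * b) := by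
      calc b * p = b * p * b⁻¹ * b := by group
        _ = p * D.z β * b := by rw [hp1]
        _ = p * (D.z β * b) := by group
    calc p * (D.z β * b) * p⁻¹ = b * p * p⁻¹ := by rw [h1]
      _ = b := by group
  -- the two cases for elements of `B₀`
  have hB1 : ∀ y ∈ D.Z, g * y * g⁻¹ ∈ T := fun y hy => hgT y (Z_le_T hT hy) (hbcomm y hy)
  have hB2 : ∀ y ∈ D.Z, g * (y * b) * g⁻¹ ∈ T := by
    intro y hy
    apply hgT _ (T.mul_mem (Z_le_T hT hy) hb)
    rw [mul_assoc, ← mul_assoc b y b, ← hbcomm y hy]; group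
  have hcase1 : ∀ y ∈ D.Z, g * y * g⁻¹ ∈ D.Z ∨ TypU D (g * y * g⁻¹) := by
    intro y hy
    by_cases hy1 : y = 1
    · left; rw [hy1]
      have : g * 1 * g⁻¹ = 1 := by group
      rw [this]; exact D.Z.one_mem
    apply hin _ (hB1 y hy)
    · intro h
      apply hy1
      calc y = g⁻¹ * (g * y * g⁻¹) * g := by group
        _ = 1 := by rw [h]; group
    · refine ⟨g⁻¹, ?_⟩
      have : g⁻¹ * (g * y * g⁻¹) * g⁻¹⁻¹ = y := by group
      rw [this]; exact hy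
  have hcase2 : ∀ y ∈ D.Z, g * (y * b) * g⁻¹ ∈ D.Z ∨ TypU D (g * (y * b) * g⁻¹) := by
    intro y hy
    obtain ⟨p, hp⟩ := hconj y hy
    apply hin _ (hB2 y hy)
    · intro h
      apply hb1
      have h1 : y * b = 1 := by
        calc y * b = g⁻¹ * (g * (y * b) * g⁻¹) * g := by group
          _ = 1 := by rw [h]; group
      rw [← hp, h1]; group
    · refine ⟨g * p * g⁻¹, ?_⟩
      have : g * p * g⁻¹ * (g * (y * b) * g⁻¹) * (g * p * g⁻¹)⁻¹ = g * (p * (y * b) * p⁻¹) * g⁻¹ := by group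
      rw [this, hp]; exact hg
  -- the subgroup `B₀ = Z × ⟨b⟩`
  let B₀ : Subgroup G :=
    { carrier := {w | w ∈ D.Z ∨ w * b ∈ D.Z}
      one_mem' := Or.inl D.Z.one_mem
      mul_mem' := by
        rintro x y (hx | hx) (hy | hy)
        · exact Or.inl (D.Z.mul_mem hx hy)
        · right
          show x * y * b ∈ D.Z
          rw [mul_assoc]; exact D.Z.mul_mem hx hy
        · right
          show x * y * b ∈ D.Z
          have h1 := D.Z.mul_mem hx hy
          rw [mul_assoc, hbcomm y hy |>.symm, ← mul_assoc] at h1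
          exact h1
        · left
          show x * y ∈ D.Z
          have h1 := D.Z.mul_mem hx hy
          have h2 : x * b * (y * b) = x * y := by
            calc x * b * (y * b) = x * b * (y * b) * 1 := by group
              _ = x * (b * (y * b)) := by group
              _ = x * ((y * b) * b) := by rw [← hbcomm _ hy]
              _ = x * y * (b * b) := by group
              _ = x * y := by rw [hb2, mul_one]
          rwa [h2] at h1
      inv_mem' := by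
        rintro x (hx | hx)
        · exact Or.inl (D.Z.inv_mem hx)
        · right
          show x⁻¹ * b ∈ D.Z
          have h1 := D.Z.inv_mem hx
          have hbi : b⁻¹ = b := inv_eq_of_mul_eq_one_right hb2
          have h3 := hbcomm _ h1
          have h2 : x⁻¹ * b = (x * b)⁻¹ := by
            calc x⁻¹ * b = b * (x * b)⁻¹ * b := by group
              _ = (x * b)⁻¹ * b * b := by rw [← h3]
              _ = (x * b)⁻¹ * (b * b) := by group
              _ = (x * b)⁻¹ := by rw [hb2, mul_one]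
          rw [h2]; exact h1 }
  have hmemB : ∀ w, w ∈ B₀ ↔ w ∈ D.Z ∨ w * b ∈ D.Z := fun w => Iff.rfl
  have hBcase : ∀ w ∈ B₀, g * w * g⁻¹ ∈ D.Z ∨ TypU D (g * w * g⁻¹) ∧ g * w * g⁻¹ ∈ T := by
    intro w hw
    rcases (hmemB w).mp hw with h | h
    · rcases hcase1 w h with h1 | h1
      · exact Or.inl h1
      · exact Or.inr ⟨h1, hB1 w h⟩
    · have h2 : w * b * b = w := by rw [mul_assoc, hb2, mul_one]
      rcases hcase2 _ h with h1 | h1
      · rw [h2] at h1; exact Or.inl h1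
      · have h3 := hB2 _ h
        rw [h2] at h1 h3
        exact Or.inr ⟨h1, h3⟩
  -- `Z ≤ cj g B₀`
  have hZB : D.Z ≤ B₀ := fun y hy => Or.inl hy
  have hbB : b ∈ B₀ := Or.inr (by rw [hb2]; exact D.Z.one_mem)
  have hcard1 : 2 * Nat.card D.Z ≤ Nat.card B₀ := by
    refine two_mul_card_le b hZB hbZ ?_
    intro a ha
    right
    show a * b * b ∈ D.Z
    rw [mul_assoc, hb2, mul_one]; exact ha
  have hcard2 : Nat.card B₀ ≤ 2 * Nat.card (D.Z ⊓ cj g B₀ : Subgroup G) := by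
    rw [← card_cj g B₀]
    by_cases hex : ∃ w ∈ B₀, TypU D (g * w * g⁻¹) ∧ g * w * g⁻¹ ∈ T
    · obtain ⟨w, hw, hwU, hwT⟩ := hex
      apply card_le_two_mul (g * w * g⁻¹)
      rintro _ ⟨y, hy, rfl⟩
      show g * y * g⁻¹ ∈ _ ∨ g * w * g⁻¹ * (g * y * g⁻¹) ∈ _
      rcases hBcase y hy with h1 | ⟨h1, h1T⟩
      · exact Or.inl ⟨h1, mem_cj_mul hy⟩
      · right
        have h2 := hT.UU _ hwT _ h1T hwU h1
        have h3 : g * w * g⁻¹ * (g * y * g⁻¹) = g * (w * y) * g⁻¹ := by group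
        rw [h3] at h2 ⊢
        have h4 := B₀.mul_mem hw hy
        rcases hBcase _ h4 with h5 | ⟨h5, -⟩
        · exact ⟨h5, mem_cj_mul h4⟩
        · exact absurd h2 (notMem_of_U h5)
    · apply card_le_two_mul 1
      rintro _ ⟨y, hy, rfl⟩
      left
      show g * y * g⁻¹ ∈ _
      rcases hBcase y hy with h1 | ⟨h1, h1T⟩
      · exact ⟨h1, mem_cj_mul hy⟩
      · exact absurd ⟨y, hy, h1, h1T⟩ hex
  have hZle : ∀ w ∈ D.Z, g⁻¹ * w * g ∈ D.Z ∨ g⁻¹ * (w * z₀) * g ∈ D.Z := by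
    have h1 : D.Z ⊓ cj g B₀ = D.Z := by
      apply eq_of_le_of_card_ge inf_le_left
      omega
    intro w hw
    rw [← h1] at hw
    have h2 := mem_cj.mp hw.2
    rcases (hmemB _).mp h2 with h3 | h3
    · exact Or.inl h3
    · right
      have h4 : g⁻¹ * (w * z₀) * g = g⁻¹ * w * g * b := by rw [hz₀]; group
      rw [h4]; exact h3
  -- an element `y₁ ≠ 1` of `Z ∩ cj g Z`
  obtain ⟨y₁, hy₁, hy₁1, hy₁g⟩ : ∃ y₁ ∈ D.Z, y₁ ≠ 1 ∧ g⁻¹ * y₁ * g ∈ D.Z := by
    by_contra hcon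
    push Not at hcon
    have h4 := four_le_card D.toChart
    classical
    let φ : D.Z → Bool := fun w => decide ((w : G) = 1)
    have hφ : Function.Injective φ := by
      intro w w' hww
      by_cases h1 : (w : G) = 1
      · have h2 : (w' : G) = 1 := by
          have h3 : decide ((w : G) = 1) = decide ((w' : G) = 1) := hww
          rw [decide_eq_true h1] at h3
          exact of_decide_eq_true h3.symm
        exact Subtype.ext (h1.trans h2.symm)
      · have h2 : (w' : G) ≠ 1 := by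
          intro h2
          apply h1
          have h3 : decide ((w : G) = 1) = decide ((w' : G) = 1) := hww
          rw [decide_eq_true h2] at h3
          exact of_decide_eq_true h3
        have h3 : ∀ v ∈ D.Z, v ≠ 1 → v = z₀ := by
          intro v hv hv1
          rcases hZle v hv with h | h
          · exact absurd h (hcon v hv hv1)
          · by_contra hne
            refine hcon (v * z₀) (D.Z.mul_mem hv hg) ?_ h
            intro h5
            apply hne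
            calc v = v * z₀ * z₀ := by rw [mul_assoc, hz₀sq, mul_one]
              _ = z₀ := by rw [h5, one_mul]
        exact Subtype.ext ((h3 w w.2 h1).trans (h3 w' w'.2 h2).symm)
    have h5 := Nat.card_le_card_of_injective φ hφ
    rw [Nat.card_eq_fintype_card (α := Bool), Fintype.card_bool] at h5
    have h6 : Nat.card D.Z ≤ 2 := h5
    omega
  obtain ⟨ε, hε, hεy⟩ := hy₁g
  have hy₁e : y₁ = g * D.z ε * g⁻¹ := by rw [← hεy]; group
  obtain ⟨p, hp, hp1, hp2⟩ := twist hU hb2 hε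
  have hzε := z_sq D.toChart hε
  have hpb : p * b * p⁻¹ = D.z ε * b := by
    have h1 : b * p⁻¹ * b⁻¹ = (p * D.z ε)⁻¹ := by rw [← hp1]; group
    have h2 := z_comm D.toChart hp hε
    have h3 : (D.z ε)⁻¹ = D.z ε := inv_eq_of_mul_eq_one_right hzε
    calc p * b * p⁻¹ = p * (b * p⁻¹ * b⁻¹) * b := by group
      _ = p * ((D.z ε)⁻¹ * p⁻¹) * b := by rw [h1, mul_inv_rev]
      _ = (p * D.z ε) * p⁻¹ * b := by rw [h3]; group
      _ = D.z ε * b := by rw [h2]; group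
  set u := g * p * g⁻¹ with hu
  -- `u` on `Z ∩ cj g Z`
  have hu1 : ∀ w, g⁻¹ * w * g ∈ D.Z → u * w * u⁻¹ = w := by
    intro w hw
    have h1 := Z_central D.toChart hp hw
    calc u * w * u⁻¹ = g * (p * (g⁻¹ * w * g)) * p⁻¹ * g⁻¹ := by rw [hu]; group
      _ = g * ((g⁻¹ * w * g) * p) * p⁻¹ * g⁻¹ := by rw [h1]
      _ = w := by group
  have hu2 : u * z₀ * u⁻¹ = y₁ * z₀ := by
    calc u * z₀ * u⁻¹ = g * (p * b * p⁻¹) * g⁻¹ := by rw [hu, hz₀]; group
      _ = g * (D.z ε * b) * g⁻¹ := by rw [hpb]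
      _ = y₁ * z₀ := by rw [hy₁e, hz₀]; group
  have huZ : ∀ w ∈ D.Z, u * w * u⁻¹ ∈ D.Z := by
    intro w hw
    rcases hZle w hw with h | h
    · rw [hu1 w h]; exact hw
    · have h1 := hu1 _ h
      have h2 : u * w * u⁻¹ = (u * (w * z₀) * u⁻¹) * (u * z₀ * u⁻¹)⁻¹ := by group
      rw [h2, h1, hu2]
      exact D.Z.mul_mem (D.Z.mul_mem hw hg) (D.Z.inv_mem (D.Z.mul_mem hy₁ hg))
  have huN : cj u D.Z = D.Z := by
    apply eq_of_le_of_card_ge
    · rintro _ ⟨w, hw, rfl⟩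
      exact huZ w hw
    · rw [card_cj]
  have hTN : T ≤ normalizer (D.Z : Set G) := by
    intro t ht
    apply mem_normalizer_of_cj_eq
    apply eq_of_le_of_card_ge
    · rintro _ ⟨w, hw, rfl⟩
      exact norm_Z hT ht hw
    · rw [card_cj]
  have hS : IsSyl T (normalizer (D.Z : Set G)) := htop.mono hTN le_top
  have hu2grp : IsPGroup 2 ↥(zpowers u) := by
    have h1 : zpowers u ≤ cj g D.P := by
      rw [zpowers_le]
      exact mem_cj_mul hp
    exact (D.two.map (MulAut.conj g).toMonoidHom).to_le h1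
  obtain ⟨m, hm, hmu⟩ := hS.conj_into hu2grp (by rw [zpowers_le]; exact mem_normalizer_of_cj_eq huN)
  have hu' := hmu u (mem_zpowers u)
  have hmZ : cj m D.Z = D.Z := cj_eq_of_mem_normalizer hm
  have hmZ' : ∀ y ∈ D.Z, m * y * m⁻¹ ∈ D.Z := by
    intro y hy
    have := mem_cj_mul (g := m) hy
    rwa [hmZ] at this
  have husq : m * u * m⁻¹ * (m * u * m⁻¹) ∈ D.P := by
    have h1 : m * u * m⁻¹ * (m * u * m⁻¹) = m * y₁ * m⁻¹ := by
      calc m * u * m⁻¹ * (m * u * m⁻¹) = m * (g * (p * p) * g⁻¹) * m⁻¹ := by rw [hu]; group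
        _ = m * y₁ * m⁻¹ := by rw [hp2, hy₁e]
    rw [h1]
    exact Z_le D.toChart (hmZ' y₁ hy₁)
  have h1 := comm_Z hT hu' husq (hmZ' z₀ hg)
  have h2 : u * z₀ * u⁻¹ = z₀ := by
    calc u * z₀ * u⁻¹ = m⁻¹ * ((m * u * m⁻¹) * (m * z₀ * m⁻¹)) * m * u⁻¹ := by group
      _ = m⁻¹ * ((m * z₀ * m⁻¹) * (m * u * m⁻¹)) * m * u⁻¹ := by rw [h1]
      _ = z₀ := by group
  rw [hu2] at h2
  exact hy₁1 (by simpa using h2)

/-- **the end**: `gold` is S1169 -/
theorem false_of [Finite G] [IsSimpleGroup G] (gold : Cfsg.Agent.StdSz.EndClosed.Gold.{u})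
    (hT : Syl D T) (htop : IsSyl T ⊤)
    (hin : ∀ b ∈ T, b ≠ 1 → (∃ g : G, g * b * g⁻¹ ∈ D.Z) → b ∈ D.Z ∨ TypU D b) : False := by
  obtain ⟨v, hv, hva, hvc, hvf⟩ := D.surj 0 0 1 (bar_zero n) D.one_mem
  obtain ⟨x, hx, y, hy, hxy⟩ := exists_comm D.toChart (bar_one (K := F) n)
  have hz1 : D.z 1 ≠ 1 := fun h => one_ne_zero (D.z_inj 1 (bar_one n) h)
  refine Cfsg.Agent.OddHalf.D4.RkEnd.End.false_of_strong gold (S := T) (A := D.Z) htop (Z_le_T hT)
    (fun a ha => Z_sq D.toChart ha) ⟨D.z 1, ⟨1, bar_one n, rfl⟩, hz1⟩ ?_ ?_ ?_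
  · intro a ha g hga
    by_cases ha1 : a = 1
    · rw [ha1]
      have : g * 1 * g⁻¹ = 1 := by group
      rw [this]; exact D.Z.one_mem
    have hex : g⁻¹ * (g * a * g⁻¹) * g⁻¹⁻¹ ∈ D.Z := by
      have : g⁻¹ * (g * a * g⁻¹) * g⁻¹⁻¹ = a := by group
      rw [this]; exact ha
    rcases hin _ hga (by
      intro h
      apply ha1
      calc a = g⁻¹ * (g * a * g⁻¹) * g := by group
        _ = 1 := by rw [h]; group) ⟨g⁻¹, hex⟩ with h | h
    · exact h
    · exact (false_U hT htop hin hga h hex).elim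
  · refine ⟨v, hT.le hv, ?_, ?_⟩
    · intro h
      have := (coord_of_Z D.toChart h).2.2
      rw [hvf] at this
      exact one_ne_zero this
    · rw [D.sq v hv, hva, hvc, N_zero, mul_zero, zero_mul, add_zero, add_zero, D.toChart.z_zero]
  · refine ⟨x, hT.le hx, y, hT.le hy, ?_⟩
    intro h
    apply hz1
    rw [← hxy, h]
    group

/-- the existence of a rich subgroup commuting with `b` -/
def HasRich (D : Dat G F n) (b : G) : Prop := ∃ R ≤ D.P, (∀ r ∈ R, r * b = b * r) ∧ Rich D R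

/-- glue of the pieces G, H, I -/
theorem in_of (hT : Syl D T)
    (closed : ∀ b ∈ T, b ≠ 1 → HasRich D b → (∃ g : G, g * b * g⁻¹ ∈ D.Z) → b ∈ D.Z)
    (richP : ∀ b ∈ D.P, b ∉ D.Z → b * b = 1 → HasRich D b)
    (richF : ∀ b ∈ T, TypF D b → b * b = 1 → HasRich D b)
    (richG : ∀ b ∈ T, TypG D b → b * b = 1 → HasRich D b) :
    ∀ b ∈ T, b ≠ 1 → (∃ g : G, g * b * g⁻¹ ∈ D.Z) → b ∈ D.Z ∨ TypU D b := by
  intro b hb hb1 hg
  have hb2 : b * b = 1 := by
    obtain ⟨g, hg⟩ := hg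
    have h1 := Z_sq D.toChart hg
    calc b * b = g⁻¹ * (g * b * g⁻¹ * (g * b * g⁻¹)) * g := by group
      _ = 1 := by rw [h1]; group
  rcases hT.typ b hb (by rw [hb2]; exact D.P.one_mem) with h | h | h | h
  · by_cases hZ : b ∈ D.Z
    · exact Or.inl hZ
    · exact Or.inl (closed b hb hb1 (richP b h hZ hb2) hg)
  · exact Or.inl (closed b hb hb1 (richF b hb h hb2) hg)
  · exact Or.inl (closed b hb hb1 (richG b hb h hb2) hg)
  · exact Or.inr h

end Cfsg.Agent.OddHalf.D4.U3.EndCore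

end

-- merged: Cfsg.Agent.OddHalf.D4.U3.End
section

/-!
# ODD, D4, row `K = U₃(q)`, `q = 2 ^ n ≥ 4`: the abstract half

`Dat.false`: the data `Dat G F n` are contradictory in a simple group.
-/

set_option autoImplicit false

namespace Cfsg.Agent.OddHalf.D4.U3.Defs

open Subgroup Cfsg.Agent.OddHalf.D4.Basic

universe u v

variable {G : Type u} [Group G] {F : Type v} [Field F] [Fintype F] [CharP F 2] {n : ℕ}

/-- **the abstract half of `u3e`** -/
theorem Dat.false [Finite G] [IsSimpleGroup G] (gold : Cfsg.Agent.StdSz.EndClosed.Gold.{u})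
    (D : Dat G F n) : False := by
  obtain ⟨T, hT⟩ := Types.exists_syl D
  have htop : IsSyl T ⊤ := Weak.syl_top hT
  refine EndCore.false_of gold hT htop (EndCore.in_of hT ?_ ?_ ?_ ?_)
  · rintro b hb hb1 ⟨R, hR, hRb, rich⟩ ⟨g, hg⟩
    exact Closed.closed D hT htop hb hR hRb rich hg hb1
  · intro b hb hbZ hb2
    obtain ⟨R, hR, h1, h2⟩ := RichP.richP D hb hbZ hb2
    exact ⟨R, hR, h1, h2⟩
  · intro b hb hF hb2
    exact RichT.richF D hT hb hF hb2
  · intro b hb hF hb2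
    exact RichT.richG D hT hb hF hb2

end Cfsg.Agent.OddHalf.D4.U3.Defs

end
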