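import Cfsg.Agent.OddHalf.D4.U3.Defs
import Cfsg.Agent.OddHalf.D4.U3.MkDefs
import Cfsg.Agent.OddHalf.D4.U3.ParFacts
import Cfsg.Agent.OddHalf.D4.U3.TLam
import Cfsg.Agent.OddHalf.D4.U3.StepA

-- merged: Cfsg.Agent.OddHalf.D4.U3.MkChart
section

/-!
# ODD, D4, row `K = U₃(q)`: the chart of `P = S E Q`

Normal forms `u y * e * r` and coordinates.
-/

set_option autoImplicit false
set_option linter.dupNamespace false
set_option linter.unusedSectionVars false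

namespace Cfsg.Agent.OddHalf.D4.U3.Mk

open Subgroup Cfsg.Agent.LieRecognition Cfsg.Agent.LieRecognition.HermHeis Cfsg.Agent.StdU3.URel
  Cfsg.Agent.StdU3.Field Cfsg.Agent.StdU3.Semi Cfsg.Agent.OddHalf.D4.CommConj Cfsg.Agent.OddHalf.D4.Basic
  Cfsg.Agent.OddHalf.D4.U3.ParDefs Cfsg.Agent.OddHalf.D4.U3.MkDefs Cfsg.Agent.OddHalf.D4.U3.Defs

universe u v

variable {G : Type u} [Group G] {F : Type v} [Field F] [Fintype F] [CharP F 2] {σ : F →+* F}
  [hσ : Fact (∀ x, σ (σ x) = x)] {n : ℕ} {K : Subgroup G}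

/-! ### the elements `zz b` -/

section ZZ

variable (p : Par K σ n)

include p

theorem sig_of_bar {b : F} (hb : bar n b = b) : σ b = b := by rw [p.hS.eq, hb]

theorem bar_of_sig {b : F} (hb : σ b = b) : bar n b = b := by rw [← p.hS.eq, hb]

theorem zz_eq {b : F} (hb : σ b = b) : zz p b = p.u (zet b hb) := by
  unfold zz
  rw [dif_pos hb]

theorem zz_mem (b : F) : zz p b ∈ p.Z := by
  unfold zz
  split_ifs with h
  · exact p.u_mem_Z rfl
  · exact one_mem _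

theorem zz_add {b b' : F} (hb : bar n b = b) (hb' : bar n b' = b') : zz p (b + b') = zz p b * zz p b' := by
  have h1 := sig_of_bar p hb
  have h2 := sig_of_bar p hb'
  have h3 : σ (b + b') = b + b' := by rw [map_add, h1, h2]
  rw [zz_eq p h1, zz_eq p h2, zz_eq p h3, ← map_mul]
  congr 1
  ext
  · simp
  · simp

theorem zz_zero : zz p (0 : F) = 1 := by
  rw [zz_eq p (map_zero σ), ← map_one p.u]
  congr 1

theorem zz_inj {b : F} (hb : bar n b = b) (h : zz p b = 1) : b = 0 := by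
  rw [zz_eq p (sig_of_bar p hb)] at h
  have h1 := p.u_eq_one h
  exact congrArg Heis.b h1

theorem zz_inj' {b b' : F} (hb : bar n b = b) (hb' : bar n b' = b') (h : zz p b = zz p b') : b = b' := by
  rw [zz_eq p (sig_of_bar p hb), zz_eq p (sig_of_bar p hb')] at h
  exact congrArg Heis.b (p.u_inj h)

theorem exists_zz {z : G} (hz : z ∈ p.Z) : ∃ b, bar n b = b ∧ z = zz p b := by
  obtain ⟨y, hy, rfl⟩ := hz
  have h1 := b_fixed_of_a_eq_zero hy
  refine ⟨y.b, bar_of_sig p h1, ?_⟩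
  rw [zz_eq p h1]
  congr 1
  exact ext_z hy rfl rfl

/-- every `u ζ`, `ζ.a = 0`, is `zz ζ.b` -/
theorem u_eq_zz {y : Heis σ} (hy : y.a = 0) : p.u y = zz p y.b := by
  rw [zz_eq p (b_fixed_of_a_eq_zero hy)]
  congr 1
  exact ext_z hy rfl rfl

theorem zz_act (l : Fˣ) {b : F} (hb : bar n b = b) :
    p.d l * zz p b * (p.d l)⁻¹ = zz p (N n (l : F) * b) := by
  have h1 := sig_of_bar p hb
  rw [zz_eq p h1, p.d_u]
  rw [u_eq_zz p (y := act l (zet b h1)) (by rw [act_a, zet_a, mul_zero])]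
  congr 1
  rw [act_b, zet_b]
  unfold nm
  rw [p.hS.eq, N_def]

/-- the squares in `S` -/
theorem u_sq (x : Heis σ) : p.u x * p.u x = zz p (N n x.a) := by
  rw [← map_mul, u_eq_zz p (sq_a x), sq_b, p.hS.eq, N_def]

/-- the commutators in `S` -/
theorem u_comm (x y : Heis σ) : p.u x * p.u y = zz p (Tr n (x.a * bar n y.a)) * (p.u y * p.u x) := by
  have hf : σ (Tr n (x.a * bar n y.a)) = Tr n (x.a * bar n y.a) :=
    sig_of_bar p (fixed_Tr p.hS.hq _)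
  rw [zz_eq p hf, ← map_mul, ← map_mul, ← map_mul]
  congr 1
  ext
  · simp [add_comm]
  · simp only [mul_b, zet_b, zet_a, zero_mul, add_zero]
    rw [Tr_def, bar_mul, bar_bar p.hS.hq, p.hS.eq, p.hS.eq]
    have := CharTwo.add_self_eq_zero (y.a * bar n x.a)
    linear_combination -this

theorem wt_eq (l : Fˣ) : wt σ l = Cfsg.Agent.StdU3.PreDef.w n l := by
  unfold wt Cfsg.Agent.StdU3.PreDef.w
  rw [p.hS.eq]

theorem nm_eq (l : Fˣ) : nm σ l = N n (l : F) := by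
  unfold nm
  rw [p.hS.eq, N_def]

end ZZ

/-! ### normal forms -/

section NF

variable {p : Par K σ n} (t : TOut0 p)

include t

theorem Q_comm {r k : G} (hr : r ∈ t.Q) (hk : k ∈ K) : k * r = r * k :=
  mem_centralizer_iff.mp (t.sylQ.le hr) k hk

theorem Z_K {z : G} (hz : z ∈ p.Z) : z ∈ K := p.S_le (p.Z_le_S hz)

theorem Q_Q {r r' : G} (hr : r ∈ t.Q) (hr' : r' ∈ t.Q) : r * r' = r' * r := by
  have h1 := t.Q_sq _ (mul_mem hr hr')
  have h2 := t.Q_sq _ hr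
  have h3 := t.Q_sq _ hr'
  have e1 : r⁻¹ = r := inv_eq_of_mul_eq_one_left h2
  have e2 : r'⁻¹ = r' := inv_eq_of_mul_eq_one_left h3
  have e3 : (r * r')⁻¹ = r * r' := inv_eq_of_mul_eq_one_left h1
  rw [mul_inv_rev, e1, e2] at e3
  exact e3.symm

theorem Z_E {z e : G} (hz : z ∈ p.Z) (he : e ∈ t.E) : z * e = e * z := t.E_comm _ (t.Z_le hz) _ he

theorem Z_Q {z r : G} (hz : z ∈ p.Z) (hr : r ∈ t.Q) : z * r = r * z := Q_comm t hr (Z_K t hz)

theorem Z_inv {z : G} (hz : z ∈ p.Z) : z⁻¹ = z := inv_eq_of_mul_eq_one_left (p.Z_sq hz)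

theorem fix_cf {e r : G} (he : e ∈ t.E) (hr : r ∈ t.Q) : bar n (t.c e * t.f r) = t.c e * t.f r :=
  fixed_mul (t.c_fix e he) (t.f_fix r hr)

/-- `r e = e r z(c e f r)` -/
theorem swap {e r : G} (he : e ∈ t.E) (hr : r ∈ t.Q) : r * e = zz p (t.c e * t.f r) * (e * r) := by
  have h1 := t.conj e he r hr
  have hz := zz_mem p (t.c e * t.f r)
  have h2 : e * r = r * zz p (t.c e * t.f r) * e := by rw [← h1]; group
  have h3 : zz p (t.c e * t.f r) * (e * r) = (zz p (t.c e * t.f r) * r) * zz p (t.c e * t.f r) * e := by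
    rw [h2]; group
  rw [h3, Z_Q t hz hr, mul_assoc r, p.Z_sq hz, mul_one]

/-- products of normal forms -/
theorem nf_mul {y y' : Heis σ} {e e' r r' : G} (he : e ∈ t.E) (he' : e' ∈ t.E) (hr : r ∈ t.Q) :
    (p.u y * e * r) * (p.u y' * e' * r') =
      zz p (t.c e' * t.f r) * (p.u (y * y') * (e * e') * (r * r')) := by
  have hz := zz_mem p (t.c e' * t.f r)
  have h1 : r * p.u y' = p.u y' * r := (Q_comm t hr (p.u_mem_K y')).symm
  have h2 : e * p.u y' = p.u y' * e := t.E_S e he _ (p.u_mem y')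
  have h3 := swap t he' hr
  have h4 : zz p (t.c e' * t.f r) * p.u y = p.u y * zz p (t.c e' * t.f r) := p.Z_comm hz (p.u_mem y)
  have h4' : zz p (t.c e' * t.f r) * p.u y' = p.u y' * zz p (t.c e' * t.f r) := p.Z_comm hz (p.u_mem y')
  have h5 : zz p (t.c e' * t.f r) * e = e * zz p (t.c e' * t.f r) := Z_E t hz he
  calc (p.u y * e * r) * (p.u y' * e' * r') = p.u y * e * (r * p.u y') * e' * r' := by group
    _ = p.u y * (e * p.u y') * (r * e') * r' := by rw [h1]; group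
    _ = p.u y * p.u y' * (e * zz p (t.c e' * t.f r)) * (e' * r) * r' := by rw [h2, h3]; group
    _ = p.u y * (p.u y' * zz p (t.c e' * t.f r)) * e * (e' * r) * r' := by rw [← h5]; group
    _ = (p.u y * zz p (t.c e' * t.f r)) * p.u y' * e * (e' * r) * r' := by rw [← h4']; group
    _ = zz p (t.c e' * t.f r) * (p.u (y * y') * (e * e') * (r * r')) := by
      rw [← h4, map_mul]; group

/-- `E ∩ Q Z = Z` -/
theorem E_QZ {e r z : G} (he : e ∈ t.E) (hr : r ∈ t.Q) (hz : z ∈ p.Z) (h : e = r * z) : e ∈ p.Z := by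
  apply t.c_ker e he
  obtain ⟨r1, hr1, h1⟩ := t.f_one
  have h2 := t.conj e he r1 hr1
  rw [h1, mul_one] at h2
  have h3 : e * r1 * e⁻¹ = r1 := by
    rw [h]
    have h4 : z * r1 = r1 * z := Z_Q t hz hr1
    have h5 := Q_Q t hr hr1
    calc r * z * r1 * (r * z)⁻¹ = r * (z * r1) * z⁻¹ * r⁻¹ := by group
      _ = (r * r1) * r⁻¹ := by rw [h4]; group
      _ = r1 := by rw [h5]; group
  rw [h3] at h2
  exact zz_inj p (t.c_fix e he) (left_eq_mul.mp h2)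

/-- uniqueness of normal forms -/
theorem nf_inj (hcen : ∀ x ∈ K, x ∈ centralizer (K : Set G) → x = 1) {y y' : Heis σ} {e e' r r' : G}
    (he : e ∈ t.E) (he' : e' ∈ t.E) (hr : r ∈ t.Q) (hr' : r' ∈ t.Q)
    (h : p.u y * e * r = p.u y' * e' * r') : y.a = y'.a ∧ t.c e = t.c e' ∧ r = r' := by
  have hq : r' * r⁻¹ ∈ t.Q := mul_mem hr' (inv_mem hr)
  have h1 : p.u (y'⁻¹ * y) * (e'⁻¹ * e) = r' * r⁻¹ := by
    have e1 : e'⁻¹ * p.u (y'⁻¹ * y) = p.u (y'⁻¹ * y) * e'⁻¹ := t.E_S _ (inv_mem he') _ (p.u_mem _)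
    calc p.u (y'⁻¹ * y) * (e'⁻¹ * e) = (p.u (y'⁻¹ * y) * e'⁻¹) * e := by group
      _ = e'⁻¹ * p.u (y'⁻¹ * y) * e := by rw [e1]
      _ = e'⁻¹ * (p.u y')⁻¹ * (p.u y * e * r) * r⁻¹ := by rw [map_mul, map_inv]; group
      _ = r' * r⁻¹ := by rw [h]; group
  set s := p.u (y'⁻¹ * y) with hs
  set e2 := e'⁻¹ * e with he2
  have he2m : e2 ∈ t.E := mul_mem (inv_mem he') he
  -- `s` is in `Z`
  have h2 : s ∈ p.Z := by
    apply p.mem_Z_of_comm (p.u_mem _)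
    intro x hx
    have h3 : s = r' * r⁻¹ * e2⁻¹ := by rw [← h1]; group
    have h4 : e2⁻¹ * x = x * e2⁻¹ := t.E_S _ (inv_mem he2m) x hx
    have h5 : (r' * r⁻¹) * x = x * (r' * r⁻¹) := (Q_comm t hq (p.S_le hx)).symm
    calc s * x = (r' * r⁻¹) * (e2⁻¹ * x) := by rw [h3]; group
      _ = ((r' * r⁻¹) * x) * e2⁻¹ := by rw [h4]; group
      _ = x * s := by rw [h5, h3]; group
  have h3 : e2 ∈ p.Z := by
    apply E_QZ t he2m hq (inv_mem h2)
    have h5 := Q_comm t hq (Z_K t (inv_mem h2))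
    calc e2 = s⁻¹ * (s * e2) := by group
      _ = (r' * r⁻¹) * s⁻¹ := by rw [h1, h5]
  have h4 : r' * r⁻¹ = 1 := by
    apply hcen _ _ (t.sylQ.le hq)
    rw [← h1]
    exact mul_mem (Z_K t h2) (Z_K t h3)
  refine ⟨?_, ?_, (mul_inv_eq_one.mp h4).symm⟩
  · have h5 := p.u_mem_Z_iff.mp h2
    rw [mul_a, inv_a, CharTwo.add_eq_zero] at h5
    exact h5.symm
  · have h5 := t.c_Z _ h3
    rw [he2, t.c_mul _ (inv_mem he') _ he] at h5
    have h6 := t.c_mul _ (inv_mem he') _ he'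
    rw [inv_mul_cancel, t.c_Z 1 (one_mem _)] at h6
    have h7 : t.c e'⁻¹ = t.c e' := (CharTwo.add_eq_zero.mp h6.symm)
    rw [h7, CharTwo.add_eq_zero] at h5
    exact h5.symm

/-- `P = S E Q` -/
def PP : Subgroup G where
  carrier := {x | ∃ y : Heis σ, ∃ e ∈ t.E, ∃ r ∈ t.Q, x = p.u y * e * r}
  one_mem' := ⟨1, 1, one_mem _, 1, one_mem _, by rw [map_one, mul_one, mul_one]⟩
  mul_mem' := by
    rintro x x' ⟨y, e, he, r, hr, rfl⟩ ⟨y', e', he', r', hr', rfl⟩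
    rw [nf_mul t he he' hr]
    obtain ⟨z, hz0, hz⟩ := zz_mem p (t.c e' * t.f r)
    refine ⟨z * (y * y'), e * e', mul_mem he he', r * r', mul_mem hr hr', ?_⟩
    rw [hz, map_mul p.u z]; group
  inv_mem' := by
    rintro x ⟨y, e, he, r, hr, rfl⟩
    -- `(u e r)⁻¹ = r⁻¹ e⁻¹ u⁻¹ = z u⁻¹ e⁻¹ r⁻¹`
    obtain ⟨z, hz0, hz⟩ := zz_mem p (t.c e⁻¹ * t.f r⁻¹)
    refine ⟨z * y⁻¹, e⁻¹, inv_mem he, r⁻¹, inv_mem hr, ?_⟩
    have h1 := swap t (inv_mem he) (inv_mem hr)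
    have h2 : e⁻¹ * p.u y⁻¹ = p.u y⁻¹ * e⁻¹ := t.E_S _ (inv_mem he) _ (p.u_mem _)
    have h3 : r⁻¹ * p.u y⁻¹ = p.u y⁻¹ * r⁻¹ := (Q_comm t (inv_mem hr) (p.u_mem_K _)).symm
    calc (p.u y * e * r)⁻¹ = (r⁻¹ * e⁻¹) * p.u y⁻¹ := by rw [map_inv]; group
      _ = zz p (t.c e⁻¹ * t.f r⁻¹) * e⁻¹ * (r⁻¹ * p.u y⁻¹) := by rw [h1]; group
      _ = zz p (t.c e⁻¹ * t.f r⁻¹) * (e⁻¹ * p.u y⁻¹) * r⁻¹ := by rw [h3]; group
      _ = p.u (z * y⁻¹) * e⁻¹ * r⁻¹ := by rw [h2, hz, map_mul]; group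

theorem mem_PP {x : G} : x ∈ PP t ↔ ∃ y : Heis σ, ∃ e ∈ t.E, ∃ r ∈ t.Q, x = p.u y * e * r := Iff.rfl

theorem nf_mem (y : Heis σ) {e r : G} (he : e ∈ t.E) (hr : r ∈ t.Q) : p.u y * e * r ∈ PP t :=
  ⟨y, e, he, r, hr, rfl⟩

open Classical in
/-- the coordinate `a` -/
noncomputable def ca (x : G) : F :=
  if h : ∃ α : F, ∃ y : Heis σ, ∃ e ∈ t.E, ∃ r ∈ t.Q, x = p.u y * e * r ∧ y.a = α then h.choose else 0

open Classical in
/-- the coordinate `c` -/
noncomputable def cc (x : G) : F :=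
  if h : ∃ γ : F, ∃ y : Heis σ, ∃ e ∈ t.E, ∃ r ∈ t.Q, x = p.u y * e * r ∧ t.c e = γ then h.choose else 0

open Classical in
/-- the coordinate `f` -/
noncomputable def cf (x : G) : F :=
  if h : ∃ φ : F, ∃ y : Heis σ, ∃ e ∈ t.E, ∃ r ∈ t.Q, x = p.u y * e * r ∧ t.f r = φ then h.choose else 0

variable (hcen : ∀ x ∈ K, x ∈ centralizer (K : Set G) → x = 1)

include hcen

theorem ca_nf (y : Heis σ) {e r : G} (he : e ∈ t.E) (hr : r ∈ t.Q) : ca t (p.u y * e * r) = y.a := by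
  have h : ∃ α : F, ∃ y' : Heis σ, ∃ e' ∈ t.E, ∃ r' ∈ t.Q, p.u y * e * r = p.u y' * e' * r' ∧ y'.a = α :=
    ⟨y.a, y, e, he, r, hr, rfl, rfl⟩
  unfold ca
  rw [dif_pos h]
  obtain ⟨y', e', he', r', hr', h1, h2⟩ := h.choose_spec
  rw [← h2]
  exact (nf_inj t hcen he he' hr hr' h1).1.symm

theorem cc_nf (y : Heis σ) {e r : G} (he : e ∈ t.E) (hr : r ∈ t.Q) : cc t (p.u y * e * r) = t.c e := by
  have h : ∃ γ : F, ∃ y' : Heis σ, ∃ e' ∈ t.E, ∃ r' ∈ t.Q, p.u y * e * r = p.u y' * e' * r' ∧ t.c e' = γ :=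
    ⟨t.c e, y, e, he, r, hr, rfl, rfl⟩
  unfold cc
  rw [dif_pos h]
  obtain ⟨y', e', he', r', hr', h1, h2⟩ := h.choose_spec
  rw [← h2]
  exact (nf_inj t hcen he he' hr hr' h1).2.1.symm

theorem cf_nf (y : Heis σ) {e r : G} (he : e ∈ t.E) (hr : r ∈ t.Q) : cf t (p.u y * e * r) = t.f r := by
  have h : ∃ φ : F, ∃ y' : Heis σ, ∃ e' ∈ t.E, ∃ r' ∈ t.Q, p.u y * e * r = p.u y' * e' * r' ∧ t.f r' = φ :=
    ⟨t.f r, y, e, he, r, hr, rfl, rfl⟩
  unfold cf
  rw [dif_pos h]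
  obtain ⟨y', e', he', r', hr', h1, h2⟩ := h.choose_spec
  rw [← h2, (nf_inj t hcen he he' hr hr' h1).2.2]

omit hcen in
theorem f_zero : t.f 1 = 0 := by
  have h := t.f_mul 1 (one_mem _) 1 (one_mem _)
  rw [mul_one] at h
  exact left_eq_add.mp h

omit hcen in
theorem c_one : t.c 1 = 0 := t.c_Z 1 (one_mem _)

/-- coordinates of an element `u y` -/
theorem coord_u (y : Heis σ) : ca t (p.u y) = y.a ∧ cc t (p.u y) = 0 ∧ cf t (p.u y) = 0 := by
  have e : p.u y = p.u y * 1 * 1 := by group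
  rw [e]
  exact ⟨ca_nf t hcen y (one_mem _) (one_mem _), by rw [cc_nf t hcen y (one_mem _) (one_mem _), c_one t],
    by rw [cf_nf t hcen y (one_mem _) (one_mem _), f_zero t]⟩

theorem coord_e {e : G} (he : e ∈ t.E) : ca t e = 0 ∧ cc t e = t.c e ∧ cf t e = 0 := by
  have h : e = p.u 1 * e * 1 := by rw [map_one]; group
  have h1 := ca_nf t hcen 1 he (one_mem t.Q)
  have h2 := cc_nf t hcen 1 he (one_mem t.Q)
  have h3 := cf_nf t hcen 1 he (one_mem t.Q)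
  rw [← h] at h1 h2 h3
  exact ⟨h1, h2, by rw [h3, f_zero t]⟩

theorem coord_r {r : G} (hr : r ∈ t.Q) : ca t r = 0 ∧ cc t r = 0 ∧ cf t r = t.f r := by
  have h : r = p.u 1 * 1 * r := by rw [map_one]; group
  have h1 := ca_nf t hcen 1 (one_mem t.E) hr
  have h2 := cc_nf t hcen 1 (one_mem t.E) hr
  have h3 := cf_nf t hcen 1 (one_mem t.E) hr
  rw [← h] at h1 h2 h3
  exact ⟨h1, by rw [h2, c_one t], h3⟩

theorem coord_zz (b : F) : ca t (zz p b) = 0 ∧ cc t (zz p b) = 0 ∧ cf t (zz p b) = 0 := by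
  obtain ⟨y, hy, h⟩ := zz_mem p b
  rw [h]
  obtain ⟨h1, h2, h3⟩ := coord_u t hcen y
  exact ⟨by rw [h1, hy], h2, h3⟩

omit hcen in
/-- a central factor can be absorbed -/
theorem absorb (b : F) (y : Heis σ) (e r : G) :
    ∃ y' : Heis σ, y'.a = y.a ∧ zz p b * (p.u y * e * r) = p.u y' * e * r := by
  obtain ⟨z, hz, h⟩ := zz_mem p b
  refine ⟨z * y, by rw [mul_a, hz, zero_add], ?_⟩
  rw [h, map_mul]; group

theorem coord_mul {x x' : G} (hx : x ∈ PP t) (hx' : x' ∈ PP t) :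
    ca t (x * x') = ca t x + ca t x' ∧ cc t (x * x') = cc t x + cc t x' ∧ cf t (x * x') = cf t x + cf t x' := by
  obtain ⟨y, e, he, r, hr, rfl⟩ := hx
  obtain ⟨y', e', he', r', hr', rfl⟩ := hx'
  rw [nf_mul t he he' hr]
  obtain ⟨w, hw, h⟩ := absorb t (t.c e' * t.f r) (y * y') (e * e') (r * r')
  rw [h, ca_nf t hcen _ (mul_mem he he') (mul_mem hr hr'), cc_nf t hcen _ (mul_mem he he') (mul_mem hr hr'),
    cf_nf t hcen _ (mul_mem he he') (mul_mem hr hr'), ca_nf t hcen _ he hr, ca_nf t hcen _ he' hr',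
    cc_nf t hcen _ he hr, cc_nf t hcen _ he' hr', cf_nf t hcen _ he hr, cf_nf t hcen _ he' hr', hw, mul_a,
    t.c_mul e he e' he', t.f_mul r hr r' hr']
  exact ⟨rfl, rfl, rfl⟩

/-- the square of an element of `P` -/
theorem sq_P {x : G} (hx : x ∈ PP t) :
    x * x = zz p (N n (ca t x) + t.kap * cc t x + cc t x * cf t x) := by
  obtain ⟨y, e, he, r, hr, rfl⟩ := hx
  rw [nf_mul t he he hr, ca_nf t hcen _ he hr, cc_nf t hcen _ he hr, cf_nf t hcen _ he hr, map_mul, u_sq,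
    t.sq e he, t.Q_sq r hr, mul_one]
  have h1 : bar n (N n y.a) = N n y.a := fixed_N p.hS.hq _
  have h2 : bar n (t.kap * t.c e) = t.kap * t.c e := fixed_mul t.kap_fix (t.c_fix e he)
  have h3 := fix_cf t he hr
  rw [zz_add p (fixed_add h1 h2) h3, zz_add p h1 h2]
  have h4 := p.Z_comm (zz_mem p (t.c e * t.f r)) (p.Z_le_S (mul_mem (zz_mem p (N n y.a)) (zz_mem p (t.kap * t.c e))))
  exact h4

/-- commutators in `P` -/
theorem comm_P {x x' : G} (hx : x ∈ PP t) (hx' : x' ∈ PP t) :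
    x * x' = zz p (Tr n (ca t x * bar n (ca t x')) + (cc t x * cf t x' + cc t x' * cf t x)) * (x' * x) := by
  obtain ⟨y, e, he, r, hr, rfl⟩ := hx
  obtain ⟨y', e', he', r', hr', rfl⟩ := hx'
  rw [nf_mul t he he' hr, nf_mul t he' he hr', ca_nf t hcen _ he hr, cc_nf t hcen _ he hr,
    cf_nf t hcen _ he hr, ca_nf t hcen _ he' hr', cc_nf t hcen _ he' hr', cf_nf t hcen _ he' hr', map_mul,
    map_mul, u_comm p y y', t.E_comm e' he' e he, Q_Q t hr' hr]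
  have h1 : bar n (Tr n (y.a * bar n y'.a)) = Tr n (y.a * bar n y'.a) := fixed_Tr p.hS.hq _
  have h2 := fix_cf t he hr'
  have h3 := fix_cf t he' hr
  rw [zz_add p h1 (fixed_add h2 h3), zz_add p h2 h3]
  set A := zz p (Tr n (y.a * bar n y'.a)) with hA
  set B := zz p (t.c e * t.f r') with hB
  set D := zz p (t.c e' * t.f r) with hD
  have hA' : A ∈ p.Z := zz_mem p _
  have hB' : B ∈ p.Z := zz_mem p _
  have hD' : D ∈ p.Z := zz_mem p _
  have e1 : A * (B * D) * B = D * A := by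
    have q1 : D * A = A * D := p.Z_comm hD' (p.Z_le_S hA')
    have q2 : B * D = D * B := p.Z_comm hB' (p.Z_le_S hD')
    calc A * (B * D) * B = A * D * (B * B) := by rw [q2]; group
      _ = D * A := by rw [p.Z_sq hB', mul_one, q1]
  calc D * (A * (p.u y' * p.u y) * (e * e') * (r * r'))
      = (D * A) * (p.u y' * p.u y * (e * e') * (r * r')) := by group
    _ = A * (B * D) * B * (p.u y' * p.u y * (e * e') * (r * r')) := by rw [e1]
    _ = _ := by group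

theorem ker_P {x : G} (hx : x ∈ PP t) (h1 : ca t x = 0) (h2 : cc t x = 0) (h3 : cf t x = 0) : x ∈ p.Z := by
  obtain ⟨y, e, he, r, hr, rfl⟩ := hx
  rw [ca_nf t hcen _ he hr] at h1
  rw [cc_nf t hcen _ he hr] at h2
  rw [cf_nf t hcen _ he hr] at h3
  rw [t.f_inj r hr h3, mul_one]
  exact mul_mem (p.u_mem_Z h1) (t.c_ker e he h2)

omit hcen in
theorem two_P : IsPGroup 2 ↥(PP t) := by
  rintro ⟨x, y, e, he, r, hr, rfl⟩
  refine ⟨2, ?_⟩
  apply Subtype.ext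
  show (p.u y * e * r) ^ 2 ^ 2 = 1
  have h1 : (p.u y * e * r) * (p.u y * e * r) ∈ p.Z := by
    rw [nf_mul t he he hr, map_mul, u_sq, t.sq e he, t.Q_sq r hr, mul_one]
    exact mul_mem (zz_mem p _) (mul_mem (zz_mem p _) (zz_mem p _))
  have h2 := p.Z_sq h1
  calc (p.u y * e * r) ^ 2 ^ 2
      = ((p.u y * e * r) * (p.u y * e * r)) * ((p.u y * e * r) * (p.u y * e * r)) := by
        rw [show (2 : ℕ) ^ 2 = 4 by norm_num]; simp only [pow_succ, pow_zero, one_mul, mul_assoc]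
    _ = 1 := h2

end NF

end Cfsg.Agent.OddHalf.D4.U3.Mk

end

-- merged: Cfsg.Agent.OddHalf.D4.U3.TOut
section

/-!
# ODD, D4, row `K = U₃(q)`: PIECE T, the output
-/

set_option autoImplicit false
set_option linter.dupNamespace false
set_option linter.unusedSectionVars false

namespace Cfsg.Agent.OddHalf.D4.U3.TOut

open Subgroup Cfsg.Agent.LieRecognition Cfsg.Agent.LieRecognition.HermHeis Cfsg.Agent.StdU3.URel
  Cfsg.Agent.StdU3.Semi Cfsg.Agent.OddHalf.D4.CommConj Cfsg.Agent.OddHalf.D4.Basic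
  Cfsg.Agent.OddHalf.D4.U3.TBase Cfsg.Agent.OddHalf.D4.U3.TLam

universe u v

variable {G : Type u} [Group G] {F : Type v} [Field F] [Fintype F] [CharP F 2] {σ : F →+* F}
  [hσ : Fact (∀ x, σ (σ x) = x)] {n : ℕ}

/-- The output of PIECE T.  `V = Q Z`, `T₁ = E₁ Q`, `t r t⁻¹ = r z(ch t · f r)`. -/
structure TOut (u : Heis σ →* G) (d : Fˣ →* G) (Q V T₁ E₁ : Subgroup G) (f ch : G → F) (kap : F) : Prop where
  memV : ∀ w, w ∈ V ↔ ∃ r ∈ Q, ∃ b, σ b = b ∧ w = r * zz u b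
  f_fix : ∀ r ∈ Q, σ (f r) = f r
  f_mul : ∀ r ∈ Q, ∀ s ∈ Q, f (r * s) = f r + f s
  f_ne : ∀ r ∈ Q, r ≠ 1 → f r ≠ 0
  T_two : IsPGroup 2 T₁
  T_u : ∀ t ∈ T₁, ∀ s, t * u s = u s * t
  V_T : V ≤ T₁
  Z_E : ∀ b, σ b = b → zz u b ∈ E₁
  E_T : E₁ ≤ T₁
  T_dec : ∀ t ∈ T₁, ∃ e ∈ E₁, ∃ r ∈ Q, t = e * r
  ch_fix : ∀ t ∈ T₁, σ (ch t) = ch t
  ch_mul : ∀ t ∈ T₁, ∀ t' ∈ T₁, ch (t * t') = ch t + ch t'
  ch_V : ∀ w ∈ V, ch w = 0
  ch_surj : ∀ c, σ c = c → ∃ e ∈ E₁, ch e = c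
  ch_ker : ∀ e ∈ E₁, ch e = 0 → ∃ b, σ b = b ∧ e = zz u b
  act : ∀ t ∈ T₁, ∀ r ∈ Q, t * r * t⁻¹ = r * zz u (ch t * f r)
  kap_fix : σ kap = kap
  sq : ∀ e ∈ E₁, e * e = zz u (kap * ch e)
  E_comm : ∀ e ∈ E₁, ∀ e' ∈ E₁, e * e' = e' * e
  d_E : ∀ l, ∀ e ∈ E₁, d l * e * (d l)⁻¹ ∈ E₁ ∧ ch (d l * e * (d l)⁻¹) = nm σ l * ch e
  H₀ : ∀ l, nm σ l = 1 → ∀ t ∈ T₁, d l * t = t * d l
  memb : ∀ x, cj x Q ≤ V → ∃ c, σ c = c ∧ ∀ r ∈ Q, r * zz u (c * f r) ∈ cj x Q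
  norV : ∀ x, cj x V = V → cj x T₁ = T₁ ∧ cj x E₁ = E₁ ∧ cj x u.range = u.range
  kerV : ∀ x, cj x V = V → (∃ k : ℕ, x ^ 2 ^ k = 1) →
    (∀ s, ∃ s' : Heis σ, s'.a = s.a ∧ x * u s * x⁻¹ = u s') → ∃ s, ∃ t ∈ T₁, x = u s * t

end Cfsg.Agent.OddHalf.D4.U3.TOut

end

-- merged: Cfsg.Agent.OddHalf.D4.U3.Mk
section

/-!
# ODD, D4, row `K = U₃(q)`: `Dat` from the output of piece T (piece U)

`exists_dat`: from helper136's `TBase.TD` and `TOut.TOut`.
-/

set_option autoImplicit false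
set_option linter.dupNamespace false
set_option linter.unusedSectionVars false

namespace Cfsg.Agent.OddHalf.D4.U3.Mk

open Subgroup Cfsg.Agent.LieRecognition Cfsg.Agent.LieRecognition.HermHeis Cfsg.Agent.StdU3.URel
  Cfsg.Agent.StdU3.Field Cfsg.Agent.StdU3.Semi Cfsg.Agent.OddHalf.D4.CommConj Cfsg.Agent.OddHalf.D4.Basic
  Cfsg.Agent.OddHalf.D4.U3.ParDefs Cfsg.Agent.OddHalf.D4.U3.MkDefs Cfsg.Agent.OddHalf.D4.U3.Defs
  Cfsg.Agent.OddHalf.D4.U3.Fr Cfsg.Agent.OddHalf.D4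

universe u v

variable {G : Type u} [Group G] {F : Type v} [Field F] [Fintype F] [CharP F 2] {σ : F →+* F}
  [hσ : Fact (∀ x, σ (σ x) = x)] {n : ℕ} {K : Subgroup G}

/-! ### general -/

theorem cj_eq_of_le [Finite G] {g : G} {X : Subgroup G} (h : cj g X ≤ X) : cj g X = X :=
  eq_of_le_of_card_ge h (by rw [card_cj])

theorem cj_le_of {g : G} {X Y : Subgroup G} (h : ∀ x ∈ X, g * x * g⁻¹ ∈ Y) : cj g X ≤ Y := by
  intro y hy
  have h1 := h _ (mem_cj.mp hy)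
  have e : g * (g⁻¹ * y * g) * g⁻¹ = y := by group
  rwa [e] at h1

theorem of_cj_eq {g x : G} {X : Subgroup G} (h : cj g X = X) (hx : x ∈ X) : g * x * g⁻¹ ∈ X := by
  have h1 := mem_cj_mul (g := g) hx
  rwa [h] at h1

theorem of_cj_eq' {g x : G} {X : Subgroup G} (h : cj g X = X) (hx : x ∈ X) : g⁻¹ * x * g ∈ X := by
  rw [← h, mem_cj] at hx
  exact hx

theorem cj_inv_eq {g : G} {X : Subgroup G} (h : cj g X = X) : cj g⁻¹ X = X := by
  conv_lhs => rw [← h]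
  exact cj_inv_cj g X

theorem cj_mul_eq {g h : G} {X : Subgroup G} (h1 : cj g X = X) (h2 : cj h X = X) : cj (g * h) X = X := by
  rw [cj_mul, h2, h1]

/-- a 2-element of `M` normalising the Sylow 2-subgroup `Q` of `M` lies in `Q` -/
theorem mem_of_norm {Q M : Subgroup G} (hQ : IsSyl Q M) {c : G} (hc : c ∈ M)
    (h2 : ∃ k : ℕ, c ^ 2 ^ k = 1) (h : cj c Q = Q) : c ∈ Q := by
  have h1 : IsPGroup 2 ↥(zpowers c ⊔ Q : Subgroup G) := by
    apply IsPGroup.to_sup_of_normal_right' (StepA.isPGroup_zpowers h2) hQ.two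
    rw [zpowers_le]
    exact mem_normalizer_of_cj_eq h
  exact hQ.max _ h1 le_sup_right (sup_le (by rwa [zpowers_le]) hQ.le)
    ((le_sup_left : zpowers c ≤ _) (mem_zpowers c))

/-- powers of `a c b`, `a, b ∈ P`, `c` normalises `P` -/
theorem pow_mod {P : Subgroup G} {a b c : G} (ha : a ∈ P) (hb : b ∈ P) (h : cj c P = P) (j : ℕ) :
    ∃ x ∈ P, (a * c * b) ^ j = x * c ^ j := by
  have hc : ∀ j : ℕ, cj (c ^ j) P = P := by
    intro j
    induction j with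
    | zero => rw [pow_zero]; ext x; rw [mem_cj]; simp
    | succ j ih => rw [pow_succ]; exact cj_mul_eq ih h
  induction j with
  | zero => exact ⟨1, one_mem _, by simp⟩
  | succ j ih =>
    obtain ⟨x, hx, h1⟩ := ih
    refine ⟨x * (c ^ j * a * (c ^ j)⁻¹) * (c ^ (j + 1) * b * (c ^ (j + 1))⁻¹),
      mul_mem (mul_mem hx (of_cj_eq (hc j) ha)) (of_cj_eq (hc (j + 1)) hb), ?_⟩
    rw [pow_succ, h1, pow_succ c]
    group

/-- a 2-group with two different involutions has at least four elements -/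
theorem four_le_card [Finite G] {Q : Subgroup G} (h2 : IsPGroup 2 ↥Q) {r s : G} (hr : r ∈ Q) (hs : s ∈ Q)
    (hr2 : orderOf r = 2) (hs2 : orderOf s = 2) (hne : r ≠ s) : 4 ≤ Nat.card Q := by
  have hfact : Fact (Nat.Prime 2) := ⟨Nat.prime_two⟩
  obtain ⟨k, hk⟩ := IsPGroup.iff_card.mp h2
  have h1 : zpowers r < Q := by
    refine lt_of_le_of_ne (by rwa [zpowers_le]) ?_
    intro h
    rw [← h] at hs
    obtain ⟨m, hm⟩ := hs
    have hrr : r * r = 1 := StepA.sq_of_order hr2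
    have hs1 : s ≠ 1 := StepA.ne_one_of_order hs2
    rcases Int.even_or_odd m with ⟨j, hj⟩ | ⟨j, hj⟩
    · apply hs1
      rw [← hm, hj]
      show r ^ (j + j) = 1
      rw [← two_mul, zpow_mul, zpow_ofNat, pow_two, hrr, one_zpow]
    · apply hne
      rw [← hm, hj]
      show r = r ^ (2 * j + 1)
      rw [zpow_add, zpow_one, zpow_mul, zpow_ofNat, pow_two, hrr, one_zpow, one_mul]
  have h3 : Nat.card (zpowers r) < Nat.card Q := by
    apply Nat.lt_of_le_of_ne (Subgroup.card_le_of_le h1.le)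
    intro h
    exact h1.ne (eq_of_le_of_card_ge h1.le h.ge)
  rw [Nat.card_zpowers, hr2, hk] at h3
  rw [hk]
  have h4 : 1 < k := by
    by_contra hcon
    push Not at hcon
    have := Nat.pow_le_pow_right (show 0 < 2 by norm_num) hcon
    omega
  calc 4 = 2 ^ 2 := by norm_num
    _ ≤ 2 ^ k := Nat.pow_le_pow_right (by norm_num) h4

/-! ### the chart -/

section ChartOf

variable {p : Par K σ n} (t : TOut0 p)

/-- the values of `f` -/
def Phi : AddSubgroup F where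
  carrier := {x | ∃ r ∈ t.Q, t.f r = x}
  zero_mem' := ⟨1, one_mem _, f_zero t⟩
  add_mem' := by
    rintro x y ⟨r, hr, rfl⟩ ⟨r', hr', rfl⟩
    exact ⟨r * r', mul_mem hr hr', t.f_mul r hr r' hr'⟩
  neg_mem' := by
    rintro x ⟨r, hr, rfl⟩
    exact ⟨r, hr, by rw [CharTwo.neg_eq]⟩

theorem mem_Phi {x : F} : x ∈ Phi t ↔ ∃ r ∈ t.Q, t.f r = x := Iff.rfl

theorem f_injOn {r r' : G} (hr : r ∈ t.Q) (hr' : r' ∈ t.Q) (h : t.f r = t.f r') : r = r' := by
  have h1 := t.f_mul r hr r' hr'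
  rw [h, CharTwo.add_self_eq_zero] at h1
  have h2 := t.f_inj _ (mul_mem hr hr') h1
  have h3 := t.Q_sq r' hr'
  have h4 : r * r' = r' * r' := by rw [h2, h3]
  exact mul_right_cancel h4

theorem card_Phi : Nat.card (Phi t) = Nat.card t.Q := by
  refine (Nat.card_congr (Equiv.ofBijective
    (fun r : t.Q => (⟨t.f r, r, r.2, rfl⟩ : Phi t)) ⟨?_, ?_⟩)).symm
  · intro r r' h
    exact Subtype.ext (f_injOn t r.2 r'.2 (congrArg Subtype.val h))
  · rintro ⟨x, r, hr, rfl⟩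
    exact ⟨⟨r, hr⟩, rfl⟩

variable (hcen : ∀ x ∈ K, x ∈ centralizer (K : Set G) → x = 1) (h4 : 4 ≤ Nat.card t.Q)

/-- the chart of `P = S E Q` -/
noncomputable def chart : Chart G F n where
  hq := p.hS.hq
  P := PP t
  two := two_P t
  a := ca t
  c := cc t
  f := cf t
  z := zz p
  kap := t.kap
  Phi := Phi t
  one_mem := t.f_one
  four := by rw [card_Phi]; exact h4
  fix_Phi := by
    rintro x ⟨r, hr, rfl⟩
    exact t.f_fix r hr
  fix_kap := t.kap_fix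
  a_mul := fun x hx y hy => (coord_mul t hcen hx hy).1
  c_mul := fun x hx y hy => (coord_mul t hcen hx hy).2.1
  f_mul := fun x hx y hy => (coord_mul t hcen hx hy).2.2
  fix_c := by
    rintro x ⟨y, e, he, r, hr, rfl⟩
    rw [cc_nf t hcen y he hr]
    exact t.c_fix e he
  f_mem := by
    rintro x ⟨y, e, he, r, hr, rfl⟩
    rw [cf_nf t hcen y he hr]
    exact ⟨r, hr, rfl⟩
  surj := by
    rintro α γ φ hγ ⟨r, hr, rfl⟩
    obtain ⟨y, rfl⟩ := exists_a p.hS α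
    obtain ⟨e, he, rfl⟩ := t.c_surj γ hγ
    exact ⟨p.u y * e * r, nf_mem t y he hr, ca_nf t hcen y he hr, cc_nf t hcen y he hr, cf_nf t hcen y he hr⟩
  z_mem := by
    intro b _
    obtain ⟨y, hy, h⟩ := zz_mem p b
    exact ⟨y, 1, one_mem _, 1, one_mem _, by rw [h]; group⟩
  z_add := fun b b' hb hb' => zz_add p hb hb'
  z_inj := fun b hb h => zz_inj p hb h
  a_z := fun b _ => (coord_zz t hcen b).1
  c_z := fun b _ => (coord_zz t hcen b).2.1
  f_z := fun b _ => (coord_zz t hcen b).2.2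
  ker := fun x hx h1 h2 h3 => exists_zz p (ker_P t hcen hx h1 h2 h3)
  sq := fun x hx => sq_P t hcen hx
  comm := fun x hx y hy => comm_P t hcen hx hy

theorem chart_V {x : G} : x ∈ (chart t hcen h4).V ↔ ∃ r ∈ t.Q, ∃ b, bar n b = b ∧ x = r * zz p b := by
  constructor
  · rintro ⟨⟨y, e, he, r, hr, rfl⟩, h1, h2⟩
    replace h1 : ca t (p.u y * e * r) = 0 := h1
    replace h2 : cc t (p.u y * e * r) = 0 := h2
    rw [ca_nf t hcen _ he hr] at h1
    rw [cc_nf t hcen _ he hr] at h2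
    have h3 : p.u y * e ∈ p.Z := mul_mem (p.u_mem_Z h1) (t.c_ker e he h2)
    obtain ⟨b, hb, h5⟩ := exists_zz p h3
    refine ⟨r, hr, b, hb, ?_⟩
    rw [h5, Z_Q t (zz_mem p b) hr]
  · rintro ⟨r, hr, b, hb, rfl⟩
    obtain ⟨y, hy, h⟩ := zz_mem p b
    have e1 : r * zz p b = p.u y * 1 * r := by
      rw [← Z_Q t (zz_mem p b) hr, h, mul_one]
    rw [e1]
    refine ⟨nf_mem t y (one_mem _) hr, ?_, ?_⟩
    · show ca t (p.u y * 1 * r) = 0
      rw [ca_nf t hcen _ (one_mem _) hr, hy]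
    · show cc t (p.u y * 1 * r) = 0
      rw [cc_nf t hcen _ (one_mem _) hr, c_one t]

theorem chart_S {x : G} : x ∈ (chart t hcen h4).S ↔ x ∈ p.S := by
  constructor
  · rintro ⟨⟨y, e, he, r, hr, rfl⟩, h1, h2⟩
    replace h1 : cc t (p.u y * e * r) = 0 := h1
    replace h2 : cf t (p.u y * e * r) = 0 := h2
    rw [cc_nf t hcen _ he hr] at h1
    rw [cf_nf t hcen _ he hr] at h2
    rw [t.f_inj r hr h2, mul_one]
    exact mul_mem (p.u_mem y) (p.Z_le_S (t.c_ker e he h1))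
  · rintro ⟨y, rfl⟩
    obtain ⟨h1, h2, h3⟩ := coord_u t hcen y
    exact ⟨⟨y, 1, one_mem _, 1, one_mem _, by group⟩, h2, h3⟩

theorem chart_E {x : G} : x ∈ (chart t hcen h4).E ↔ x ∈ t.E := by
  constructor
  · rintro ⟨⟨y, e, he, r, hr, rfl⟩, h1, h2⟩
    replace h1 : ca t (p.u y * e * r) = 0 := h1
    replace h2 : cf t (p.u y * e * r) = 0 := h2
    rw [ca_nf t hcen _ he hr] at h1
    rw [cf_nf t hcen _ he hr] at h2
    rw [t.f_inj r hr h2, mul_one]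
    exact mul_mem (t.Z_le (p.u_mem_Z h1)) he
  · intro hx
    obtain ⟨h1, h2, h3⟩ := coord_e t hcen hx
    exact ⟨⟨1, x, hx, 1, one_mem _, by rw [map_one]; group⟩, h1, h3⟩

theorem chart_T1 {x : G} : x ∈ (chart t hcen h4).T1 ↔ ∃ e ∈ t.E, ∃ r ∈ t.Q, x = e * r := by
  constructor
  · rintro ⟨⟨y, e, he, r, hr, rfl⟩, h1⟩
    replace h1 : ca t (p.u y * e * r) = 0 := h1
    rw [ca_nf t hcen _ he hr] at h1
    exact ⟨p.u y * e, mul_mem (t.Z_le (p.u_mem_Z h1)) he, r, hr, rfl⟩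
  · rintro ⟨e, he, r, hr, rfl⟩
    have e1 : e * r = p.u 1 * e * r := by rw [map_one]; group
    rw [e1]
    refine ⟨nf_mem t 1 he hr, ?_⟩
    show ca t (p.u 1 * e * r) = 0
    rw [ca_nf t hcen _ he hr]
    rfl

/-- conjugation by the torus -/
theorem d_nf (l : Fˣ) (y : Heis σ) {e r : G} (hr : r ∈ t.Q) :
    p.d l * (p.u y * e * r) * (p.d l)⁻¹ = p.u (act l y) * (p.d l * e * (p.d l)⁻¹) * r := by
  have h1 : p.d l * r * (p.d l)⁻¹ = r := by
    rw [Q_comm t hr (p.d_mem l)]; group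
  calc p.d l * (p.u y * e * r) * (p.d l)⁻¹
      = (p.d l * p.u y * (p.d l)⁻¹) * (p.d l * e * (p.d l)⁻¹) * (p.d l * r * (p.d l)⁻¹) := by group
    _ = _ := by rw [p.d_u, h1]

include hcen in
theorem coord_d (l : Fˣ) {x : G} (hx : x ∈ PP t) :
    p.d l * x * (p.d l)⁻¹ ∈ PP t ∧ ca t (p.d l * x * (p.d l)⁻¹) = Cfsg.Agent.StdU3.PreDef.w n l * ca t x ∧
      cc t (p.d l * x * (p.d l)⁻¹) = N n (l : F) * cc t x ∧ cf t (p.d l * x * (p.d l)⁻¹) = cf t x := by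
  obtain ⟨y, e, he, r, hr, rfl⟩ := hx
  obtain ⟨h1, h2⟩ := t.d_E l e he
  rw [d_nf t l y hr]
  refine ⟨nf_mem t _ h1 hr, ?_, ?_, ?_⟩
  · rw [ca_nf t hcen _ h1 hr, ca_nf t hcen _ he hr, act_a, wt_eq p]
  · rw [cc_nf t hcen _ h1 hr, cc_nf t hcen _ he hr, h2]
  · rw [cf_nf t hcen _ h1 hr, cf_nf t hcen _ he hr]

/-- an element normalising `S` is semilinear on it -/
theorem exists_sl (p : Par K σ n) {x : G} (h : cj x p.S = p.S) : ∃ c₀ : F, c₀ ≠ 0 ∧ ∃ τ : F ≃+* F,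
    (∀ y : Heis σ, ∃ y' : Heis σ, x * p.u y * x⁻¹ = p.u y' ∧ y'.a = c₀ * τ y.a) ∧
    ∀ b, bar n b = b → x * zz p b * x⁻¹ = zz p (N n c₀ * τ b) := by
  have hW : PW p.u (⊥ : Subgroup G) :=
    ⟨p.u_inj, fun r hr y => by rw [mem_bot.mp hr, one_mul, mul_one],
      fun r hr => by rw [mem_bot.mp hr, one_mul], fun y hy => p.u_eq_one (mem_bot.mp hy)⟩
  have hN : Nm p.u (⊥ : Subgroup G) x := by
    intro y
    obtain ⟨y', hy'⟩ := of_cj_eq h (p.u_mem y)
    exact ⟨y', 1, one_mem _, by rw [one_mul, hy']⟩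
  obtain ⟨c₀, hc, τ, h1, h2⟩ := Nm.exists_SL p.hS hW hN
  refine ⟨c₀, hc, τ, ?_, ?_⟩
  · intro y
    obtain ⟨y', r, hr, h3, h5⟩ := h1 y
    rw [mem_bot.mp hr, one_mul] at h3
    exact ⟨y', h3, h5⟩
  · intro b hb
    obtain ⟨z', hz, h3, h5⟩ := h2 (zet b (sig_of_bar p hb)) rfl
    rw [zz_eq p (sig_of_bar p hb), h5, u_eq_zz p hz, h3, p.hS.eq, N_def, zet_b]

end ChartOf

/-! ### the data -/

section DatOf

variable [Finite G] {p : Par K σ n} (t : TOut0 p)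
  (hcen : ∀ x ∈ K, x ∈ centralizer (K : Set G) → x = 1) (h4 : 4 ≤ Nat.card t.Q)

/-- what else is needed about `N(V)` -/
structure NorV : Prop where
  nor : ∀ x, cj x (chart t hcen h4).V = (chart t hcen h4).V →
    cj x (chart t hcen h4).T1 = (chart t hcen h4).T1 ∧ cj x t.E = t.E ∧ cj x p.S = p.S
  ker : ∀ x, cj x (chart t hcen h4).V = (chart t hcen h4).V → (∃ k : ℕ, x ^ 2 ^ k = 1) →
    (∀ s, ∃ s' : Heis σ, s'.a = s.a ∧ x * p.u s * x⁻¹ = p.u s') →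
      ∃ s, ∃ w ∈ (chart t hcen h4).T1, x = p.u s * w

/-- **`Dat`** -/
noncomputable def mkDat (N : NorV t hcen h4) : Dat G F n where
  toChart := chart t hcen h4
  Q := t.Q
  Q_le := by
    intro r hr
    rw [chart_V]
    exact ⟨r, hr, 0, bar_zero n, by rw [zz_zero, mul_one]⟩
  Q_sup := by
    intro v hv
    rw [chart_V] at hv
    exact hv
  Q_z := by
    intro b hb h
    apply zz_inj p hb
    exact hcen _ (Z_K t (zz_mem p b)) (t.sylQ.le h)
  h := p.d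
  h_P := by
    intro l
    apply cj_eq_of_le
    apply cj_le_of
    intro x hx
    exact (coord_d t hcen l hx).1
  h_a := fun l x hx => (coord_d t hcen l hx).2.1
  h_c := fun l x hx => (coord_d t hcen l hx).2.2.1
  h_f := fun l x hx => (coord_d t hcen l hx).2.2.2
  h_z := fun l b hb => zz_act p l hb
  h_Q := fun l r hr => Q_comm t hr (p.d_mem l)
  h_T := by
    intro l hl x hx
    rw [chart_T1] at hx
    obtain ⟨e, he, r, hr, rfl⟩ := hx
    have h1 := t.d_comm l hl e he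
    have h2 := Q_comm t hr (p.d_mem l)
    calc p.d l * (e * r) = (p.d l * e) * r := by group
      _ = e * (p.d l * r) := by rw [h1]; group
      _ = e * r * p.d l := by rw [h2]; group
  memb := by
    intro g hg
    obtain ⟨c₀, hc, h⟩ := t.memb g (by
      intro r hr
      have h1 := hg (mem_cj_mul hr)
      rw [chart_V] at h1
      obtain ⟨r', hr', b, hb, h2⟩ := h1
      exact ⟨r', hr', _, zz_mem p b, h2⟩)
    refine ⟨c₀, hc, ?_⟩
    intro r hr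
    show r * zz p (c₀ * cf t r) ∈ cj g t.Q
    rw [(coord_r t hcen hr).2.2]
    exact h r hr
  V_P := by
    intro x hx
    obtain ⟨h1, -, h3⟩ := N.nor x hx
    apply cj_eq_of_le
    apply cj_le_of
    rintro _ ⟨y, e, he, r, hr, rfl⟩
    have h5 : x * (e * r) * x⁻¹ ∈ (chart t hcen h4).T1 := of_cj_eq h1 ((chart_T1 t hcen h4).mpr ⟨e, he, r, hr, rfl⟩)
    have h6 := of_cj_eq h3 (p.u_mem y)
    have e1 : x * (p.u y * e * r) * x⁻¹ = (x * p.u y * x⁻¹) * (x * (e * r) * x⁻¹) := by group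
    rw [e1]
    refine mul_mem ?_ h5.1
    obtain ⟨y', hy'⟩ := h6
    rw [← hy']
    exact ⟨y', 1, one_mem _, 1, one_mem _, by group⟩
  V_S := by
    intro x hx
    have h3 := (N.nor x hx).2.2
    have e1 : (chart t hcen h4).S = p.S := by
      ext y
      exact chart_S t hcen h4
    rw [e1, h3]
  V_E := by
    intro x hx
    have h3 := (N.nor x hx).2.1
    have e1 : (chart t hcen h4).E = t.E := by
      ext y
      exact chart_E t hcen h4
    rw [e1, h3]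
  ker_V := by
    intro x hx h2 h
    have h3 := (N.nor x hx).2.2
    obtain ⟨s, w, hw, rfl⟩ := N.ker x hx h2 (by
      intro s
      obtain ⟨s', hs'⟩ := of_cj_eq h3 (p.u_mem s)
      refine ⟨s', ?_, hs'.symm⟩
      have h5 := h (p.u s) ((chart_S t hcen h4).mpr (p.u_mem s))
      rw [← hs'] at h5
      replace h5 : ca t (p.u s') = ca t (p.u s) := h5
      rw [(coord_u t hcen s').1, (coord_u t hcen s).1] at h5
      exact h5)
    refine mul_mem ?_ hw.1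
    exact ⟨s, 1, one_mem _, 1, one_mem _, by group⟩
  sl := by
    intro x hx
    have e1 : (chart t hcen h4).S = p.S := by
      ext y
      exact chart_S t hcen h4
    rw [e1] at hx
    obtain ⟨c₀, hc, τ, h1, h2⟩ := exists_sl p hx
    refine ⟨c₀, hc, τ, ?_, h2⟩
    intro s hs
    rw [chart_S] at hs
    obtain ⟨y, rfl⟩ := hs
    obtain ⟨y', h3, h5⟩ := h1 y
    rw [h3]
    show ca t (p.u y') = c₀ * τ (ca t (p.u y))
    rw [(coord_u t hcen y').1, (coord_u t hcen y).1, h5]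

end DatOf

/-! ### from piece T -/

section FromT

variable {p : Par K σ n} {Q V T₁ E₁ : Subgroup G} {f ch : G → F} {kap : F}

theorem zz_eq_zz (b : F) : TBase.zz p.u b = zz p b := rfl

/-- the normalised output of piece T -/
theorem exists_tout (T : TBase.TD p.u p.d K (centralizer (K : Set G)) (normalizer (K : Set G)) Q n)
    (O : TOut.TOut p.u p.d Q V T₁ E₁ f ch kap) : ∃ t : TOut0 p, t.Q = Q ∧ t.E = E₁ := by
  obtain ⟨r0, hr0, hne⟩ := T.ne
  have hφ : f r0 ≠ 0 := O.f_ne r0 hr0 hne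
  have hφσ : σ (f r0) = f r0 := O.f_fix r0 hr0
  have hbar : ∀ {b : F}, bar n b = b → σ b = b := fun hb => sig_of_bar p hb
  have hsig : ∀ {b : F}, σ b = b → bar n b = b := fun hb => bar_of_sig p hb
  have hinv : σ (f r0)⁻¹ = (f r0)⁻¹ := by rw [map_inv₀, hφσ]
  have hZT : ∀ z ∈ p.Z, z ∈ V := by
    rintro _ ⟨y, hy, rfl⟩
    rw [O.memV]
    exact ⟨1, one_mem _, y.b, b_fixed_of_a_eq_zero hy, by rw [one_mul, TBase.u_of_a hy]⟩
  refine ⟨{ Q := Q, E := E₁, c := fun x => ch x * f r0, f := fun x => f x * (f r0)⁻¹, kap := kap * (f r0)⁻¹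
            sylQ := T.syl, Q_sq := T.sq, Z_le := ?_, E_S := ?_, E_comm := O.E_comm, c_mul := ?_, c_fix := ?_
            c_surj := ?_, c_ker := ?_, c_Z := ?_, f_mul := ?_, f_fix := ?_, f_inj := ?_, f_one := ?_
            kap_fix := ?_, conj := ?_, sq := ?_, d_E := ?_, d_comm := ?_, memb := ?_ }, rfl, rfl⟩
  · rintro _ ⟨y, hy, rfl⟩
    rw [TBase.u_of_a hy]
    exact O.Z_E _ (b_fixed_of_a_eq_zero hy)
  · rintro e he _ ⟨y, rfl⟩
    exact O.T_u e (O.E_T he) y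
  · intro e he e' he'
    show ch (e * e') * f r0 = ch e * f r0 + ch e' * f r0
    rw [O.ch_mul e (O.E_T he) e' (O.E_T he')]; ring
  · intro e he
    apply hsig
    show σ (ch e * f r0) = ch e * f r0
    rw [map_mul, hφσ, O.ch_fix e (O.E_T he)]
  · intro b hb
    obtain ⟨e, he, h⟩ := O.ch_surj (b * (f r0)⁻¹) (by rw [map_mul, hinv, hbar hb])
    refine ⟨e, he, ?_⟩
    show ch e * f r0 = b
    rw [h, inv_mul_cancel_right₀ hφ]
  · intro e he h
    have h1 : ch e * f r0 = 0 := h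
    obtain ⟨b, hb, h2⟩ := O.ch_ker e he ((mul_eq_zero.mp h1).resolve_right hφ)
    rw [h2]
    exact zz_mem p b
  · intro z hz
    show ch z * f r0 = 0
    rw [O.ch_V z (hZT z hz), zero_mul]
  · intro r hr r' hr'
    show f (r * r') * (f r0)⁻¹ = f r * (f r0)⁻¹ + f r' * (f r0)⁻¹
    rw [O.f_mul r hr r' hr']; ring
  · intro r hr
    apply hsig
    show σ (f r * (f r0)⁻¹) = f r * (f r0)⁻¹
    rw [map_mul, hinv, O.f_fix r hr]
  · intro r hr h
    have h1 : f r * (f r0)⁻¹ = 0 := h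
    by_contra hne'
    exact O.f_ne r hr hne' ((mul_eq_zero.mp h1).resolve_right (inv_ne_zero hφ))
  · exact ⟨r0, hr0, mul_inv_cancel₀ hφ⟩
  · apply hsig
    rw [map_mul, hinv, O.kap_fix]
  · intro e he r hr
    show e * r * e⁻¹ = r * zz p (ch e * f r0 * (f r * (f r0)⁻¹))
    have e1 : ch e * f r0 * (f r * (f r0)⁻¹) = ch e * f r := by
      field_simp
    rw [e1]
    exact O.act e (O.E_T he) r hr
  · intro e he
    show e * e = zz p (kap * (f r0)⁻¹ * (ch e * f r0))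
    have e1 : kap * (f r0)⁻¹ * (ch e * f r0) = kap * ch e := by
      field_simp
    rw [e1]
    exact O.sq e he
  · intro l e he
    obtain ⟨h1, h2⟩ := O.d_E l e he
    refine ⟨h1, ?_⟩
    show ch (p.d l * e * (p.d l)⁻¹) * f r0 = N n (l : F) * (ch e * f r0)
    rw [h2, nm_eq p]; ring
  · intro l hl e he
    exact O.H₀ l (by rw [nm_eq p, hl]) e (O.E_T he)
  · intro g hg
    obtain ⟨c, hc, h⟩ := O.memb g (by
      apply cj_le_of
      intro r hr
      obtain ⟨r', hr', z, hz, h1⟩ := hg r hr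
      obtain ⟨b, hb, h2⟩ := exists_zz p hz
      rw [O.memV]
      exact ⟨r', hr', b, hbar hb, by rw [h1, h2]; rfl⟩)
    refine ⟨c * f r0, ?_, ?_⟩
    · apply hsig
      rw [map_mul, hc, hφσ]
    · intro r hr
      have e1 : c * f r0 * (f r * (f r0)⁻¹) = c * f r := by
        field_simp
      show r * zz p (c * f r0 * (f r * (f r0)⁻¹)) ∈ cj g Q
      rw [e1]
      exact h r hr

/-- **piece U**: `Dat` from the output of piece T -/
theorem exists_dat [Finite G]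
    (T : TBase.TD p.u p.d K (centralizer (K : Set G)) (normalizer (K : Set G)) Q n)
    (O : TOut.TOut p.u p.d Q V T₁ E₁ f ch kap) (h4 : 4 ≤ Nat.card Q) : Nonempty (Dat G F n) := by
  obtain ⟨t, hQ, hE⟩ := exists_tout T O
  subst hQ hE
  have hV : (chart t T.KC h4).V = V := by
    ext x
    rw [chart_V, O.memV]
    constructor
    · rintro ⟨r, hr, b, hb, h⟩
      exact ⟨r, hr, b, sig_of_bar p hb, h⟩
    · rintro ⟨r, hr, b, hb, h⟩
      exact ⟨r, hr, b, bar_of_sig p hb, h⟩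
  have hQV : ∀ r ∈ t.Q, r ∈ V := by
    intro r hr
    rw [O.memV]
    exact ⟨r, hr, 0, map_zero σ, by rw [TBase.zz_zero, mul_one]⟩
  have hT : (chart t T.KC h4).T1 = T₁ := by
    ext x
    rw [chart_T1]
    constructor
    · rintro ⟨e, he, r, hr, rfl⟩
      exact mul_mem (O.E_T he) (O.V_T (hQV r hr))
    · intro hx
      exact O.T_dec x hx
  refine ⟨mkDat t T.KC h4 ⟨?_, ?_⟩⟩
  · intro x hx
    rw [hV] at hx
    rw [hT]
    exact O.norV x hx
  · intro x hx h2 h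
    rw [hV] at hx
    rw [hT]
    exact O.kerV x hx h2 h

/-- `|Q| ≥ 4` -/
theorem four_le_Q [Finite G] (X : Uni K σ n) {Q : Subgroup G} (hQ : IsSyl Q (centralizer (K : Set G))) :
    4 ≤ Nat.card Q := by
  obtain ⟨r, hr, s, hs, hr2, hs2, hne, hcomm⟩ := X.four
  have h1 := StepA.two_pair (r := r) (s := s) ⟨1, by rw [pow_one, ← hr2, pow_orderOf_eq_one]⟩
    ⟨1, by rw [pow_one, ← hs2, pow_orderOf_eq_one]⟩ hcomm
  obtain ⟨m, -, hm⟩ := hQ.conj_into h1 (sup_le (by rwa [zpowers_le]) (by rwa [zpowers_le]))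
  refine four_le_card hQ.two (hm r ((le_sup_left : zpowers r ≤ _) (mem_zpowers r)))
    (hm s ((le_sup_right : zpowers s ≤ _) (mem_zpowers s))) ?_ ?_ ?_
  · rw [Basic.orderOf_conj]; exact hr2
  · rw [Basic.orderOf_conj]; exact hs2
  · intro h
    exact hne (mul_left_cancel (mul_right_cancel h))

end FromT

end Cfsg.Agent.OddHalf.D4.U3.Mk

end

-- merged: Cfsg.Agent.OddHalf.D4.U3.MkNor
section

/-!
# ODD, D4, row `K = U₃(q)`: the normalizer of `V = Q Z`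

`norV`: from `TBase.TD` and `MkDefs.TOut` (with `mem`). `exists_dat_of`: the resulting `Dat`.
-/

set_option autoImplicit false
set_option linter.dupNamespace false
set_option linter.unusedSectionVars false

namespace Cfsg.Agent.OddHalf.D4.U3.Mk

open Subgroup Cfsg.Agent.LieRecognition Cfsg.Agent.LieRecognition.HermHeis Cfsg.Agent.StdU3.URel
  Cfsg.Agent.StdU3.Field Cfsg.Agent.StdU3.Semi Cfsg.Agent.OddHalf.D4.CommConj Cfsg.Agent.OddHalf.D4.Basic
  Cfsg.Agent.OddHalf.D4.U3.ParDefs Cfsg.Agent.OddHalf.D4.U3.MkDefs Cfsg.Agent.OddHalf.D4.U3.Defs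
  Cfsg.Agent.OddHalf.D4

universe u v

variable {G : Type u} [Group G] {F : Type v} [Field F] [Fintype F] [CharP F 2] {σ : F →+* F}
  [hσ : Fact (∀ x, σ (σ x) = x)] {n : ℕ} {K : Subgroup G}

section Nor

variable [Finite G] {p : Par K σ n} (t : TOut p)
  (T : TBase.TD p.u p.d K (centralizer (K : Set G)) (normalizer (K : Set G)) t.Q n)
  (h4 : 4 ≤ Nat.card t.Q)

include T

/-! ### elements of `E` -/

theorem cj_e_V {e : G} (he : e ∈ t.E) :
    cj e (chart t.toTOut0 T.KC h4).V = (chart t.toTOut0 T.KC h4).V := by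
  apply cj_eq_of_le
  apply cj_le_of
  intro x hx
  rw [chart_V] at hx ⊢
  obtain ⟨r, hr, b, hb, rfl⟩ := hx
  refine ⟨r, hr, t.c e * t.f r + b, fixed_add (fix_cf t.toTOut0 he hr) hb, ?_⟩
  have h1 := t.conj e he r hr
  have h2 : zz p b * e = e * zz p b := Z_E t.toTOut0 (zz_mem p b) he
  rw [zz_add p (fix_cf t.toTOut0 he hr) hb]
  calc e * (r * zz p b) * e⁻¹ = e * r * (zz p b * e⁻¹) := by group
    _ = e * r * (e⁻¹ * (e * zz p b) * e⁻¹) := by group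
    _ = (e * r * e⁻¹) * zz p b := by rw [← h2]; group
    _ = _ := by rw [h1, mul_assoc]

theorem cj_e_T1 {e : G} (he : e ∈ t.E) :
    cj e (chart t.toTOut0 T.KC h4).T1 = (chart t.toTOut0 T.KC h4).T1 := by
  have h1 : e ∈ (chart t.toTOut0 T.KC h4).T1 := by
    rw [chart_T1]
    exact ⟨e, he, 1, one_mem _, (mul_one e).symm⟩
  exact cj_eq_of_mem_normalizer (le_normalizer h1)

theorem cj_e_E {e : G} (he : e ∈ t.E) : cj e t.E = t.E := by
  exact cj_eq_of_mem_normalizer (le_normalizer he)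

theorem cj_e_S {e : G} (he : e ∈ t.E) : cj e p.S = p.S := by
  apply cj_eq_of_le
  apply cj_le_of
  intro s hs
  rw [t.E_S e he s hs]
  have e1 : s * e * e⁻¹ = s := by group
  rwa [e1]

/-! ### elements of `N(K)` -/

variable {m : G} (hm : m ∈ normalizer (K : Set G))

include hm

theorem nor_Z (hV : cj m (chart t.toTOut0 T.KC h4).V = (chart t.toTOut0 T.KC h4).V) {z : G}
    (hz : z ∈ p.Z) : m * z * m⁻¹ ∈ p.Z := by
  obtain ⟨b, hb, rfl⟩ := exists_zz p hz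
  have h1 : m * zz p b * m⁻¹ ∈ (chart t.toTOut0 T.KC h4).V := by
    apply of_cj_eq hV
    rw [chart_V]
    exact ⟨1, one_mem _, b, hb, (one_mul _).symm⟩
  rw [chart_V] at h1
  obtain ⟨r, hr, b', hb', h2⟩ := h1
  have h3 : m * zz p b * m⁻¹ ∈ K := T.K_nor m hm _ (Z_K t.toTOut0 hz)
  have h4 : r ∈ K := by
    have e1 : r = m * zz p b * m⁻¹ * (zz p b')⁻¹ := by rw [h2]; group
    rw [e1]
    exact mul_mem h3 (inv_mem (Z_K t.toTOut0 (zz_mem p b')))
  rw [h2, T.KC r h4 (t.sylQ.le hr), one_mul]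
  exact zz_mem p b'

theorem nor_S (hV : cj m (chart t.toTOut0 T.KC h4).V = (chart t.toTOut0 T.KC h4).V) : cj m p.S = p.S := by
  obtain ⟨z, hz, hz1⟩ := p.exists_Z_ne
  have h1 := nor_Z t T h4 hm hV hz
  obtain ⟨y, hy, rfl⟩ := hz
  obtain ⟨y', hy', h2⟩ := h1
  exact T.ti m hm y y' (fun h => hz1 (by rw [h, map_one])) h2

theorem nor_Q (hV : cj m (chart t.toTOut0 T.KC h4).V = (chart t.toTOut0 T.KC h4).V) {r : G}
    (hr : r ∈ t.Q) : m * r * m⁻¹ ∈ t.Q := by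
  have h1 : m * r * m⁻¹ ∈ (chart t.toTOut0 T.KC h4).V := by
    apply of_cj_eq hV
    rw [chart_V]
    exact ⟨r, hr, 0, bar_zero n, by rw [zz_zero, mul_one]⟩
  rw [chart_V] at h1
  obtain ⟨r', hr', b', hb', h2⟩ := h1
  have h3 : m * r * m⁻¹ ∈ centralizer (K : Set G) := T.C_nor m hm _ (t.sylQ.le hr)
  have h5 : zz p b' ∈ centralizer (K : Set G) := by
    have e1 : zz p b' = r'⁻¹ * (m * r * m⁻¹) := by rw [h2]; group
    rw [e1]
    exact mul_mem (inv_mem (t.sylQ.le hr')) h3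
  rw [h2, T.KC _ (Z_K t.toTOut0 (zz_mem p b')) h5, mul_one]
  exact hr'

theorem nor_T1 (hV : cj m (chart t.toTOut0 T.KC h4).V = (chart t.toTOut0 T.KC h4).V) {w : G}
    (hw : w ∈ (chart t.toTOut0 T.KC h4).T1) : m * w * m⁻¹ ∈ (chart t.toTOut0 T.KC h4).T1 := by
  have hm' : m⁻¹ ∈ normalizer (K : Set G) := inv_mem hm
  have hV' := cj_inv_eq hV
  have hw0 := hw
  rw [chart_T1] at hw ⊢
  obtain ⟨e, he, r, hr, rfl⟩ := hw
  apply t.mem
  · obtain ⟨k, hk⟩ := (chart t.toTOut0 T.KC h4).two ⟨e * r, hw0.1⟩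
    refine ⟨k, ?_⟩
    have h1 : (e * r) ^ 2 ^ k = 1 := congrArg Subtype.val hk
    rw [conj_pow, h1]; group
  · intro s hs
    have h1 := of_cj_eq (nor_S t T h4 hm' hV') hs
    rw [inv_inv] at h1
    have h2 : (e * r) * (m⁻¹ * s * m) = (m⁻¹ * s * m) * (e * r) := by
      have q1 := t.E_S e he _ h1
      have q2 := Q_comm t.toTOut0 hr (p.S_le h1)
      calc (e * r) * (m⁻¹ * s * m) = e * (r * (m⁻¹ * s * m)) := by group
        _ = (e * (m⁻¹ * s * m)) * r := by rw [← q2]; group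
        _ = (m⁻¹ * s * m) * (e * r) := by rw [q1]; group
    calc m * (e * r) * m⁻¹ * s = m * ((e * r) * (m⁻¹ * s * m)) * m⁻¹ := by group
      _ = m * ((m⁻¹ * s * m) * (e * r)) * m⁻¹ := by rw [h2]
      _ = s * (m * (e * r) * m⁻¹) := by group
  · intro r1 hr1
    have h1 := nor_Q t T h4 hm' hV' hr1
    rw [inv_inv] at h1
    -- `(e r) r'' (e r)⁻¹ = r'' z`
    have h2 : (e * r) * (m⁻¹ * r1 * m) * (e * r)⁻¹ =
        (m⁻¹ * r1 * m) * zz p (t.c e * t.f (m⁻¹ * r1 * m)) := by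
      rw [← t.conj e he _ h1]
      have q := Q_Q t.toTOut0 hr h1
      calc (e * r) * (m⁻¹ * r1 * m) * (e * r)⁻¹ = e * (r * (m⁻¹ * r1 * m)) * r⁻¹ * e⁻¹ := by group
        _ = _ := by rw [q]; group
    refine ⟨m * zz p (t.c e * t.f (m⁻¹ * r1 * m)) * m⁻¹, nor_Z t T h4 hm hV (zz_mem p _), ?_⟩
    calc m * (e * r) * m⁻¹ * r1 * (m * (e * r) * m⁻¹)⁻¹
        = m * ((e * r) * (m⁻¹ * r1 * m) * (e * r)⁻¹) * m⁻¹ := by group
      _ = m * ((m⁻¹ * r1 * m) * zz p (t.c e * t.f (m⁻¹ * r1 * m))) * m⁻¹ := by rw [h2]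
      _ = _ := by group

theorem nor_E (hV : cj m (chart t.toTOut0 T.KC h4).V = (chart t.toTOut0 T.KC h4).V) {e : G}
    (he : e ∈ t.E) : m * e * m⁻¹ ∈ t.E := by
  have hS := nor_S t T h4 hm hV
  obtain ⟨l, hl, hl1⟩ := exists_fixed_ne p.hS.hq
  have hN : N n (l : F) + 1 ≠ 0 := by
    rw [N_of_fixed hl]
    intro h
    rw [CharTwo.add_eq_zero] at h
    apply hl1
    have h2 : ((l : F) + 1) ^ 2 = 0 := by
      rw [CharTwo.add_sq, h, one_pow, CharTwo.add_self_eq_zero]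
    exact CharTwo.add_eq_zero.mp (pow_eq_zero_iff (two_ne_zero)|>.mp h2)
  have hNf : bar n (N n (l : F) + 1) = N n (l : F) + 1 := fixed_add (fixed_N p.hS.hq _) (bar_one n)
  -- `e = [d, e0] z`
  obtain ⟨e0, he0, hc0⟩ := t.c_surj (t.c e * (N n (l : F) + 1)⁻¹) (fixed_mul (t.c_fix e he) (fixed_inv hNf))
  obtain ⟨h1, h2⟩ := t.d_E l e0 he0
  set g := p.d l * e0 * (p.d l)⁻¹ * e0⁻¹ with hg
  have hgE : g ∈ t.E := mul_mem h1 (inv_mem he0)
  have hcinv : ∀ x ∈ t.E, t.c x⁻¹ = t.c x := by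
    intro x hx
    have h5 := t.c_mul x hx x⁻¹ (inv_mem hx)
    rw [mul_inv_cancel, c_one t.toTOut0] at h5
    exact (CharTwo.add_eq_zero.mp h5.symm).symm
  have hcg : t.c g = t.c e := by
    rw [hg, t.c_mul _ h1 _ (inv_mem he0), hcinv e0 he0, h2, hc0]
    have e1 : N n (l : F) * (t.c e * (N n (l : F) + 1)⁻¹) + t.c e * (N n (l : F) + 1)⁻¹ =
        t.c e * ((N n (l : F) + 1) * (N n (l : F) + 1)⁻¹) := by ring
    rw [e1, mul_inv_cancel₀ hN, mul_one]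
  have hz : g⁻¹ * e ∈ p.Z := by
    apply t.c_ker _ (mul_mem (inv_mem hgE) he)
    rw [t.c_mul _ (inv_mem hgE) _ he, hcinv g hgE, hcg, CharTwo.add_self_eq_zero]
  -- the conjugate of `g`
  obtain ⟨y, l', hd⟩ := T.norB m hm hS l
  have hT1 : e0 ∈ (chart t.toTOut0 T.KC h4).T1 := by
    rw [chart_T1]
    exact ⟨e0, he0, 1, one_mem _, (mul_one _).symm⟩
  have h5 := nor_T1 t T h4 hm hV hT1
  rw [chart_T1] at h5
  obtain ⟨e', he', r', hr', h6⟩ := h5
  have hde := (t.d_E l' e' he').1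
  have h7 : m * g * m⁻¹ = p.d l' * e' * (p.d l')⁻¹ * e'⁻¹ := by
    have q1 : p.d l' * r' = r' * p.d l' := Q_comm t.toTOut0 hr' (p.d_mem l')
    have q2 : p.u y * (p.d l' * e' * (p.d l')⁻¹) = (p.d l' * e' * (p.d l')⁻¹) * p.u y :=
      (t.E_S _ hde _ (p.u_mem y)).symm
    have q3 : p.u y * r' = r' * p.u y := Q_comm t.toTOut0 hr' (p.u_mem_K y)
    calc m * g * m⁻¹ = (m * p.d l * m⁻¹) * (m * e0 * m⁻¹) * (m * p.d l * m⁻¹)⁻¹ * (m * e0 * m⁻¹)⁻¹ := by
          rw [hg]; group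
      _ = (p.u y * p.d l') * (e' * r') * (p.u y * p.d l')⁻¹ * (e' * r')⁻¹ := by rw [hd, h6]
      _ = p.u y * (p.d l' * e' * (p.d l')⁻¹) * (p.d l' * r') * (p.d l')⁻¹ * (p.u y)⁻¹ * r'⁻¹ * e'⁻¹ := by
          group
      _ = p.u y * (p.d l' * e' * (p.d l')⁻¹) * r' * (p.u y)⁻¹ * r'⁻¹ * e'⁻¹ := by rw [q1]; group
      _ = (p.d l' * e' * (p.d l')⁻¹) * (p.u y * r') * (p.u y)⁻¹ * r'⁻¹ * e'⁻¹ := by rw [q2]; group
      _ = _ := by rw [q3]; group
  have h8 : m * e * m⁻¹ = (m * g * m⁻¹) * (m * (g⁻¹ * e) * m⁻¹) := by group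
  rw [h8, h7]
  exact mul_mem (mul_mem hde (inv_mem he')) (t.Z_le (nor_Z t T h4 hm hV hz))

omit hm

/-! ### `N(V)` -/

theorem exists_e {x : G} (hx : cj x (chart t.toTOut0 T.KC h4).V = (chart t.toTOut0 T.KC h4).V) :
    ∃ e ∈ t.E, e⁻¹ * x ∈ normalizer (K : Set G) ∧
      cj (e⁻¹ * x) (chart t.toTOut0 T.KC h4).V = (chart t.toTOut0 T.KC h4).V := by
  obtain ⟨c₀, hc, h⟩ := t.memb x (by
    intro r hr
    have h1 : x * r * x⁻¹ ∈ (chart t.toTOut0 T.KC h4).V := by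
      apply of_cj_eq hx
      rw [chart_V]
      exact ⟨r, hr, 0, bar_zero n, by rw [zz_zero, mul_one]⟩
    rw [chart_V] at h1
    obtain ⟨r', hr', b, hb, h2⟩ := h1
    exact ⟨r', hr', _, zz_mem p b, h2⟩)
  obtain ⟨e, he, hce⟩ := t.c_surj c₀ hc
  refine ⟨e, he, ?_, cj_mul_eq (cj_inv_eq (cj_e_V t T h4 he)) hx⟩
  obtain ⟨r1, hr1, hf1⟩ := t.f_one
  have hne : r1 ≠ 1 := by
    rintro rfl
    rw [f_zero t.toTOut0] at hf1
    exact zero_ne_one hf1
  have h1 := h r1 hr1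
  rw [← hce, ← t.conj e he r1 hr1, mem_cj] at h1
  have h2 : x⁻¹ * e ∈ normalizer (K : Set G) := by
    have h3 : (x⁻¹ * e)⁻¹ ∈ normalizer (K : Set G) := by
      apply T.tight _ r1 (t.sylQ.le hr1) hne (t.Q_sq r1 hr1)
      rw [inv_inv]
      have e1 : (x⁻¹ * e) * r1 * (x⁻¹ * e)⁻¹ = x⁻¹ * (e * r1 * e⁻¹) * x := by group
      rw [e1]
      exact t.sylQ.le h1
    have h4 := inv_mem h3
    rwa [inv_inv] at h4
  have h3 := inv_mem h2
  rwa [mul_inv_rev, inv_inv] at h3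

/-- **the normalizer of `V`** -/
theorem norV : NorV t.toTOut0 T.KC h4 where
  nor := by
    intro x hx
    obtain ⟨e, he, hm, hV⟩ := exists_e t T h4 hx
    have e1 : x = e * (e⁻¹ * x) := by group
    refine ⟨?_, ?_, ?_⟩
    · rw [e1]
      exact cj_mul_eq (cj_e_T1 t T h4 he) (cj_eq_of_le (cj_le_of fun w hw => nor_T1 t T h4 hm hV hw))
    · rw [e1]
      exact cj_mul_eq (cj_e_E t T he) (cj_eq_of_le (cj_le_of fun w hw => nor_E t T h4 hm hV hw))
    · rw [e1]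
      exact cj_mul_eq (cj_e_S t T he) (nor_S t T h4 hm hV)
  ker := by
    intro x hx h2 h
    obtain ⟨e, he, hm, hV⟩ := exists_e t T h4 hx
    set m := e⁻¹ * x with hmdef
    have hxm : x = e * m := by rw [hmdef]; group
    have hmS := nor_S t T h4 hm hV
    -- `m` is trivial on `S / Z`
    obtain ⟨c, hc, s, hcs⟩ := T.trivS m hm (by
      intro y
      obtain ⟨y', hy', h3⟩ := h y
      refine ⟨y', hy', ?_⟩
      obtain ⟨y'', hy''⟩ := of_cj_eq hmS (p.u_mem y)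
      have h5 := t.E_S e he _ (p.u_mem y'')
      rw [← hy'', ← h3, hxm]
      calc p.u y'' = (p.u y'' * e) * e⁻¹ := by group
        _ = e * (m * p.u y * m⁻¹) * e⁻¹ := by rw [← h5, hy'']
        _ = e * m * p.u y * (e * m)⁻¹ := by group)
    have hSV : cj (p.u s)⁻¹ (chart t.toTOut0 T.KC h4).V = (chart t.toTOut0 T.KC h4).V := by
      apply cj_eq_of_le
      apply cj_le_of
      intro v hv
      have h5 : (p.u s)⁻¹ * v = v * (p.u s)⁻¹ := by
        rw [chart_V] at hv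
        obtain ⟨r, hr, b, hb, rfl⟩ := hv
        have q1 : (p.u s)⁻¹ * r = r * (p.u s)⁻¹ := Q_comm t.toTOut0 hr (inv_mem (p.u_mem_K s))
        have q2 : zz p b * (p.u s)⁻¹ = (p.u s)⁻¹ * zz p b := p.Z_comm (zz_mem p b) (inv_mem (p.u_mem s))
        calc (p.u s)⁻¹ * (r * zz p b) = ((p.u s)⁻¹ * r) * zz p b := by group
          _ = r * ((p.u s)⁻¹ * zz p b) := by rw [q1]; group
          _ = r * zz p b * (p.u s)⁻¹ := by rw [← q2]; group
      rw [h5]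
      have e2 : v * (p.u s)⁻¹ * (p.u s)⁻¹⁻¹ = v := by group
      rwa [e2]
    have hcm : c = m * (p.u s)⁻¹ := by rw [hcs]; group
    have hcV : cj c (chart t.toTOut0 T.KC h4).V = (chart t.toTOut0 T.KC h4).V := by
      rw [hcm]
      exact cj_mul_eq hV hSV
    have hcM : c ∈ normalizer (K : Set G) := T.C_le hc
    have hcQ : cj c t.Q = t.Q := cj_eq_of_le (cj_le_of fun r hr => nor_Q t T h4 hcM hcV hr)
    -- `c` normalises `P`
    have hcP : cj c (PP t.toTOut0) = PP t.toTOut0 := by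
      apply cj_eq_of_le
      apply cj_le_of
      rintro _ ⟨y, e1, he1, r1, hr1, rfl⟩
      obtain ⟨y', hy'⟩ := of_cj_eq (nor_S t T h4 hcM hcV) (p.u_mem y)
      have h5 := nor_E t T h4 hcM hcV he1
      have h6 := nor_Q t T h4 hcM hcV hr1
      refine ⟨y', _, h5, _, h6, ?_⟩
      rw [hy']; group
    have hPe : e ∈ PP t.toTOut0 := ⟨1, e, he, 1, one_mem _, by rw [map_one]; group⟩
    have hPs : p.u s ∈ PP t.toTOut0 := ⟨s, 1, one_mem _, 1, one_mem _, by group⟩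
    -- `c` is a 2-element
    have hc2 : ∃ k : ℕ, c ^ 2 ^ k = 1 := by
      obtain ⟨k, hk⟩ := h2
      obtain ⟨w, hw, h5⟩ := pow_mod hPe hPs hcP (2 ^ k)
      have e2 : e * c * p.u s = x := by rw [hxm, hcs]; group
      rw [e2, hk] at h5
      have h6 : c ^ 2 ^ k ∈ PP t.toTOut0 := by
        have e3 : c ^ 2 ^ k = w⁻¹ := by
          have e4 : c ^ 2 ^ k = w⁻¹ * (w * c ^ 2 ^ k) := by group
          rw [e4, ← h5, mul_one]
        rw [e3]
        exact inv_mem hw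
      obtain ⟨j, hj⟩ := (two_P t.toTOut0) ⟨_, h6⟩
      refine ⟨k + j, ?_⟩
      have h7 : (c ^ 2 ^ k) ^ 2 ^ j = 1 := congrArg Subtype.val hj
      rw [pow_add, pow_mul, h7]
    have hcQ' : c ∈ t.Q := mem_of_norm t.sylQ hc hc2 hcQ
    refine ⟨s, e * c, ?_, ?_⟩
    · rw [chart_T1]
      exact ⟨e, he, c, hcQ', rfl⟩
    · have q1 : c * p.u s = p.u s * c := (Q_comm t.toTOut0 hcQ' (p.u_mem_K s)).symm
      have q2 := t.E_S e he _ (p.u_mem s)
      calc x = e * (c * p.u s) := by rw [hxm, hcs]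
        _ = (e * p.u s) * c := by rw [q1]; group
        _ = p.u s * (e * c) := by rw [q2]; group

include h4 in
/-- **piece U** from `MkDefs.TOut` -/
theorem exists_dat_of : Nonempty (Dat G F n) := ⟨mkDat t.toTOut0 T.KC h4 (norV t T h4)⟩

end Nor

end Cfsg.Agent.OddHalf.D4.U3.Mk

end
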