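import Cfsg.Agent.OddHalf.D4.U3.StepA
import Cfsg.Agent.OddHalf.D4.U3.StepB
import Cfsg.Agent.OddHalf.D4.U3.FrInst
import Cfsg.Agent.OddHalf.D4.U3.TBase

-- merged: Cfsg.Agent.OddHalf.D4.U3.Common
section

/-!
# ODD, D4, row `K = U₃(q)`: piece S (helper875)

`common_of` : a full pair is conjugate to one with a common Sylow 2-subgroup of `K` and `L`.
-/

set_option autoImplicit false
set_option linter.dupNamespace false

namespace Cfsg.Agent.OddHalf.D4.U3.Common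

open Subgroup Cfsg.Agent.OddHalf.D4 Cfsg.Agent.OddHalf.D4.Basic Cfsg.Agent.OddHalf.D4.U3.Fr
  Cfsg.Agent.OddHalf.D4.U3.StepA Cfsg.Agent.OddHalf.D4.U3.StepB
open Cfsg.Agent.OddHalf.D4.CommConj (Tight cj mem_cj cj_mul card_cj cj_eq_of_mem_normalizer
  mem_normalizer_of_cj_eq mem_cj_mul)

variable {G : Type*} [Group G]

/-- elements of `N(K)` fix `K` -/
theorem cj_eq {K : Subgroup G} {k : G} (hk : k ∈ K) : cj k K = K := cj_eq_of_mem_normalizer (le_normalizer hk)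

/-- a 2-subgroup of `L` of the order of a Sylow subgroup is conjugate to it -/
theorem exists_cj_eq [Finite G] {S T L : Subgroup G} (hT : IsSyl T L) (hS : IsPGroup 2 ↥S) (hSL : S ≤ L)
    (hc : Nat.card ↥T ≤ Nat.card ↥S) : ∃ l ∈ L, cj l T = S := by
  obtain ⟨m, hm, h1⟩ := hT.conj_into hS hSL
  refine ⟨m⁻¹, inv_mem hm, ?_⟩
  have h2 : S ≤ cj m⁻¹ T := fun s hs => by
    rw [mem_cj, inv_inv]; exact h1 s hs
  exact (eq_of_le_of_card_ge h2 (by rw [card_cj]; exact hc)).symm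

/-- two Sylow subgroups have the same order -/
theorem card_le_of_syl [Finite G] {S T L : Subgroup G} (hT : IsSyl T L) (hS : IsPGroup 2 ↥S) (hSL : S ≤ L) :
    Nat.card ↥S ≤ Nat.card ↥T := by
  obtain ⟨m, hm, h1⟩ := hT.conj_into hS hSL
  have h2 : cj m S ≤ T := fun s hs => by
    rw [mem_cj] at hs
    have := h1 _ hs
    have e : m * (m⁻¹ * s * m) * m⁻¹ = s := by group
    rwa [e] at this
  have h3 := Subgroup.card_le_of_le h2
  rwa [card_cj] at h3

/-- `C(L) ≤ N(L)` -/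
theorem cent_le_norm (L : Subgroup G) : centralizer (L : Set G) ≤ normalizer (L : Set G) := by
  intro y hy
  apply mem_normalizer_of_cj_eq
  ext u
  rw [mem_cj]
  constructor
  · intro hu
    have h1 : (y⁻¹ * u * y) * y = y * (y⁻¹ * u * y) := mem_centralizer_iff.1 hy _ hu
    have h2 : y⁻¹ * u * y = u := by
      have h3 : (y⁻¹ * u * y) * y = u * y := by rw [h1]; group
      exact mul_right_cancel h3
    rwa [h2] at hu
  · intro hu
    have h1 : u * y = y * u := mem_centralizer_iff.1 hy _ hu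
    have h2 : y⁻¹ * u * y = u := by rw [mul_assoc, h1, inv_mul_cancel_left]
    rwa [h2]

/-- `k ∈ K` fixes the subgroups of `C(K)` -/
theorem cj_cent {K Q : Subgroup G} (hQ : Q ≤ centralizer (K : Set G)) {k : G} (hk : k ∈ K) : cj k Q = Q := by
  apply cj_eq_of_mem_normalizer
  apply cent_le_norm
  rw [mem_centralizer_iff]
  intro q hq
  exact (mem_centralizer_iff.1 (hQ hq) k hk).symm

/-- **Piece S**, abstract form. -/
theorem common_of [Finite G] {K S Z B H Q : Subgroup G} {x : G}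
    (hf : ∀ g : G, Fr (cj g K) (cj g S) (cj g Z) (cj g B) (cj g H))
    (hhalf : ∀ {K L Q U S Z B H S' Z' B' H' : Subgroup G}, Fr K S Z B H → Fr L S' Z' B' H' → FullPair K L Q U →
      S ≤ normalizer (L : Set G) → H ≤ normalizer (L : Set G) → K ⊓ normalizer (L : Set G) ≤ B →
      K ⊓ centralizer (L : Set G) ≠ ⊥ → L ⊓ centralizer (K : Set G) ≠ ⊥ → S ≤ centralizer (L : Set G))
    (hdig : ∀ k ∈ K, ∀ g, g ∉ normalizer (K : Set G) → cj k S ≤ centralizer ((cj g K : Subgroup G) : Set G) →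
      cj g (cj k S) ≤ centralizer (K : Set G) → False)
    (hQ : IsSyl Q (centralizer (K : Set G))) (hx : x ∉ normalizer (K : Set G))
    (hc : ∀ r ∈ Q, ∀ u ∈ cj x Q, r * u = u * r) :
    ∃ k ∈ K, ∃ y, y ∉ normalizer (K : Set G) ∧ cj y K = cj x K ∧ cj y (cj k S) = cj k S ∧
      cj y Q = cj x Q ∧ (∀ u ∈ cj x Q, ∃ r ∈ Q, ∃ z ∈ cj k Z, u = r * z) ∧
      (∀ r ∈ Q, ∃ z ∈ cj k Z, r * z ∈ cj x Q) ∧ ∀ r ∈ Q, r * r = 1 := by
  -- the full pair
  have hU : IsSyl (cj x Q) (centralizer ((cj x K : Subgroup G) : Set G)) := by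
    rw [centralizer_cj]
    exact hQ.cj x
  have hF : FullPair K (cj x K) Q (cj x Q) := ⟨⟨x, hx, rfl⟩, hQ, hU, hc⟩
  have hxK : cj x K ≠ K := fun h => hx (mem_normalizer_of_cj_eq h)
  have hone : ∀ Y : Subgroup G, cj 1 Y = Y := fun Y => cj_eq_of_mem_normalizer (one_mem _)
  -- frames of `K`
  have f0 : Fr K S Z B H := by
    have := hf 1
    rwa [hone, hone, hone, hone, hone] at this
  have fK : ∀ k ∈ K, Fr K (cj k S) (cj k Z) (cj k B) (cj k H) := fun k hk => by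
    have := hf k
    rwa [cj_eq hk] at this
  have fL : ∀ l ∈ cj x K, Fr (cj x K) (cj (l * x) S) (cj (l * x) Z) (cj (l * x) B) (cj (l * x) H) := fun l hl => by
    have := hf (l * x)
    rwa [cj_mul l x K, cj_eq hl] at this
  obtain ⟨k, hk, hS1, hH1, hD1⟩ := stepA f0 hF
  by_cases hN : K ⊓ centralizer ((cj x K : Subgroup G) : Set G) = ⊥
  · -- the common Sylow subgroup
    obtain ⟨h1, h2, h3, h4⟩ := stepB (fK k hk) (hf x) hF hS1 hH1 hN
    obtain ⟨l, hl, hlS⟩ := exists_cj_eq (hf x).syl (fK k hk).syl.two h1 (by rw [card_cj, card_cj])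
    have hyK : cj (l * x * k⁻¹) K = cj x K := by
      rw [cj_mul, cj_eq (inv_mem hk), cj_mul, cj_eq hl]
    refine ⟨k, hk, l * x * k⁻¹, fun hy => ?_, hyK, ?_, ?_, h2, h3, h4⟩
    · rw [cj_eq_of_mem_normalizer hy] at hyK
      exact hxK hyK.symm
    · rw [cj_mul, cj_inv_cj, cj_mul]
      exact hlS
    · rw [cj_mul, cj_cent hQ.le (inv_mem hk), cj_mul]
      exact cj_cent hU.le hl
  · exfalso
    have fx := hf x
    have hF' : FullPair (cj x K) K (cj x Q) Q := hF.symm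
    obtain ⟨l, hl, hS2, hH2, hD2⟩ := stepA fx hF'
    rw [← cj_mul] at hS2 hH2 hD2
    have f1 := fK k hk
    have f2 := fL l hl
    have hsyl2 := f2.syl
    by_cases hN' : cj x K ⊓ centralizer (K : Set G) = ⊥
    · -- the Sylow subgroup of `L` is the one of `K`
      obtain ⟨h1, -, -, -⟩ := stepB f2 f1 hF' hS2 hH2 hN'
      have h3 : cj (l * x) S ≤ cj k S := fun s hs => by
        refine f1.twoB s (hD1 ⟨h1 hs, le_normalizer (hsyl2.le hs)⟩) ?_
        exact el_of_mem hsyl2.two hs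
      have h4 : cj (l * x) S = cj k S := eq_of_le_of_card_ge h3 (by rw [card_cj, card_cj])
      -- an involution of `S` centralising `L`
      have h5 : ∃ y ∈ cj k S, y ≠ 1 ∧ y ∈ centralizer ((cj x K : Subgroup G) : Set G) := by
        by_contra hcon
        push Not at hcon
        apply hN
        rw [eq_bot_iff]
        rintro y ⟨hyK, hyC⟩
        rw [mem_bot]
        have hyB : y ∈ cj k B := hD1 ⟨hyK, cent_le_norm _ hyC⟩
        have h6 : ∀ s ∈ cj k S, y * s = s * y := by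
          intro s hs
          have h7 : y * s * y⁻¹ * s⁻¹ ∈ cj k S := mul_mem (f1.norm y hyB s hs) (inv_mem hs)
          have h8 : y * s * y⁻¹ * s⁻¹ ∈ centralizer ((cj x K : Subgroup G) : Set G) := by
            have h9 : s ∈ normalizer ((cj x K : Subgroup G) : Set G) := hS1 hs
            have h10 : s * y⁻¹ * s⁻¹ ∈ centralizer ((cj x K : Subgroup G) : Set G) := by
              rw [mem_centralizer_iff]
              intro u hu
              have h11 : s⁻¹ * u * s ∈ cj x K := (mem_normalizer_iff''.mp h9 u).mp hu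
              have h12 := mem_centralizer_iff.1 (inv_mem hyC) _ h11
              calc u * (s * y⁻¹ * s⁻¹) = s * ((s⁻¹ * u * s) * y⁻¹) * s⁻¹ := by group
                _ = s * (y⁻¹ * (s⁻¹ * u * s)) * s⁻¹ := by rw [h12]
                _ = s * y⁻¹ * s⁻¹ * u := by group
            have e : y * s * y⁻¹ * s⁻¹ = y * (s * y⁻¹ * s⁻¹) := by group
            rw [e]; exact mul_mem hyC h10
          by_contra hne
          have h9 : y * s * y⁻¹ * s⁻¹ ≠ 1 := fun e => hne (by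
            rw [mul_inv_eq_one, mul_inv_eq_iff_eq_mul] at e
            exact e)
          exact hcon _ h7 h9 h8
        by_contra hy1
        exact hcon y (f1.Z_le (f1.centB y hyB h6)) hy1 hyC
      obtain ⟨y, hy, hy1, hyC⟩ := h5
      rw [← h4] at hy
      exact hy1 (f2.cen y (hsyl2.le hy) hyC)
    · -- the digon
      have h1 := hhalf f1 f2 hF hS1 hH1 hD1 hN hN'
      have h2 := hhalf f2 f1 hF' hS2 hH2 hD2 hN' hN
      have h3 : cj (l * x * k⁻¹) K = cj x K := by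
        rw [cj_mul, cj_eq (inv_mem hk), cj_mul, cj_eq hl]
      refine hdig k hk (l * x * k⁻¹) (fun hy => ?_) (by rw [h3]; exact h1) ?_
      · rw [cj_eq_of_mem_normalizer hy] at h3
        exact hxK h3.symm
      · rw [cj_mul, cj_inv_cj]; exact h2

/-! ### The form for `Uni` -/

section Uni

open Cfsg.Agent.LieRecognition Cfsg.Agent.OddHalf.D4.U3.ParDefs

universe u v

variable {G : Type u} [Group G] {F : Type v} [Field F] [Fintype F] [CharP F 2] {σ : F →+* F}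
  [hσ : Fact (∀ x, σ (σ x) = x)] {n : ℕ}

/-- **Piece S** (`pair_common`) from the frame, `half` and the digon. -/
theorem pair_common_of [Finite G] {K Q : Subgroup G} (X : Uni K σ n)
    (hfr : ∀ {K' : Subgroup G} (Y : Uni K' σ n), Fr K' Y.p.S Y.p.Z Y.p.B (H0 Y.p))
    (hhalf : ∀ {K L Q U S Z B H S' Z' B' H' : Subgroup G}, Fr K S Z B H → Fr L S' Z' B' H' → FullPair K L Q U →
      S ≤ normalizer (L : Set G) → H ≤ normalizer (L : Set G) → K ⊓ normalizer (L : Set G) ≤ B →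
      K ⊓ centralizer (L : Set G) ≠ ⊥ → L ⊓ centralizer (K : Set G) ≠ ⊥ → S ≤ centralizer (L : Set G))
    (hdig : ∀ (Y : Uni K σ n) (g : G), g ∉ normalizer (K : Set G) →
      Y.p.S ≤ centralizer ((cj g K : Subgroup G) : Set G) → cj g Y.p.S ≤ centralizer (K : Set G) → False)
    {x : G} (hQ : IsSyl Q (centralizer (K : Set G))) (hx : x ∉ normalizer (K : Set G))
    (hc : ∀ r ∈ Q, ∀ u ∈ cj x Q, r * u = u * r) :
    ∃ k ∈ K, ∃ y, y ∉ normalizer (K : Set G) ∧ cj y K = cj x K ∧ cj y (cj k X.p.S) = cj k X.p.S ∧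
      cj y Q = cj x Q ∧ (∀ u ∈ cj x Q, ∃ r ∈ Q, ∃ z ∈ cj k X.p.Z, u = r * z) ∧
      (∀ r ∈ Q, ∃ z ∈ cj k X.p.Z, r * z ∈ cj x Q) ∧ ∀ r ∈ Q, r * r = 1 := by
  refine common_of (B := X.p.B) (H := H0 X.p) (fun g => ?_) (fun h1 h2 => hhalf h1 h2) (fun k hk g hg h1 h2 => ?_)
    hQ hx hc
  · have h := hfr (uconj X g)
    have e1 : (uconj X g).p.S = cj g X.p.S := X.p.conj_S g
    have e2 : (uconj X g).p.Z = cj g X.p.Z := X.p.conj_Z g
    have e3 : (uconj X g).p.B = cj g X.p.B := conj_B X.p g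
    have e4 : H0 (uconj X g).p = cj g (H0 X.p) := conj_H0 X.p g
    rwa [e1, e2, e3, e4] at h
  · have e : (uinn X ⟨k, hk⟩).p.S = cj k X.p.S := inn_S X.p ⟨k, hk⟩
    exact hdig (uinn X ⟨k, hk⟩) g hg (by rw [e]; exact h1) (by rw [e]; exact h2)

end Uni

end Cfsg.Agent.OddHalf.D4.U3.Common

end

-- merged: Cfsg.Agent.OddHalf.D4.U3.StepC
section

/-!
# ODD, D4, row `K = U₃(q)`, piece O: `K ∩ C(L) ≠ 1`

`(K, L)` a full pair with `K ∩ C(L) ≠ 1`: then `S ≤ C(L)` for a Sylow 2-subgroup `S` of `K`, and the same with `K`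
and `L` exchanged.
-/

set_option autoImplicit false

namespace Cfsg.Agent.OddHalf.D4.U3.StepC

open Subgroup Cfsg.Agent.OddHalf.D4 Cfsg.Agent.OddHalf.D4.Basic Cfsg.Agent.OddHalf.D4.U3.Fr
  Cfsg.Agent.OddHalf.D4.U3.StepA Cfsg.Agent.OddHalf.D4.U3.StepB
open Cfsg.Agent.OddHalf.D4.CommConj (Tight cj mem_cj cj_mul card_cj cj_eq_of_mem_normalizer
  mem_normalizer_of_cj_eq mem_cj_mul)

section Frame

variable {G : Type*} [Group G] {K L Q U S Z B H S' Z' B' H' : Subgroup G}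

/-- `N = K ∩ C(L)` meets `S` -/
theorem exists_ne (f : Fr K S Z B H) (hS : S ≤ normalizer (L : Set G)) (hB : K ⊓ normalizer (L : Set G) ≤ B)
    (hNn : ∀ m ∈ normalizer (L : Set G), ∀ c ∈ centralizer (L : Set G), m * c * m⁻¹ ∈ centralizer (L : Set G))
    (hCN : centralizer (L : Set G) ≤ normalizer (L : Set G))
    (hN : K ⊓ centralizer (L : Set G) ≠ ⊥) : ∃ y ∈ S, y ∈ centralizer (L : Set G) ∧ y ≠ 1 := by
  have hSK : S ≤ K := f.syl.le
  obtain ⟨x, hx, hx1⟩ : ∃ x ∈ K ⊓ centralizer (L : Set G), x ≠ 1 := by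
    by_contra h
    push Not at h
    exact hN (eq_bot_iff.mpr fun x hx => by rw [mem_bot]; exact h x hx)
  have hxB : x ∈ B := hB ⟨hx.1, hCN hx.2⟩
  by_contra hno
  push Not at hno
  have h1 : ∀ s ∈ S, x * s = s * x := by
    intro s hs
    have h2 : x * s * x⁻¹ * s⁻¹ ∈ S := S.mul_mem (f.norm x hxB s hs) (S.inv_mem hs)
    have h3 : x * s * x⁻¹ * s⁻¹ ∈ centralizer (L : Set G) := by
      have e : x * s * x⁻¹ * s⁻¹ = x * (s * x⁻¹ * s⁻¹) := by group
      rw [e]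
      exact mul_mem hx.2 (hNn s (hS hs) _ (inv_mem hx.2))
    have h4 := hno _ h2 h3
    have e : x * s = (x * s * x⁻¹ * s⁻¹) * (s * x) := by group
    rw [e, h4, one_mul]
  exact hx1 (hno x (f.Z_le (f.centB x hxB h1)) hx.2)

/-- an involution of `S ∩ C(L)` -/
theorem exists_inv [Finite G] (f : Fr K S Z B H) (hT : TightAt L) (hS : S ≤ normalizer (L : Set G))
    (hB : K ⊓ normalizer (L : Set G) ≤ B) (hN : K ⊓ centralizer (L : Set G) ≠ ⊥) :
    ∃ y ∈ Z, y ∈ centralizer (L : Set G) ∧ orderOf y = 2 := by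
  obtain ⟨y, hy, hyL, hy1⟩ := exists_ne f hS hB hT.norm hT.le hN
  obtain ⟨v, hv, hv2⟩ := exists_invol_of_two (H := zpowers y) (isPGroup_zpowers (el_of_mem f.syl.two hy))
    (by rwa [Ne, zpowers_eq_bot])
  obtain ⟨m, rfl⟩ := mem_zpowers_iff.mp hv
  exact ⟨_, f.invol _ (S.zpow_mem hy m) hv2, (centralizer (L : Set G)).zpow_mem hyL m, hv2⟩

/-- **piece O, one side** -/
theorem half [Finite G] (f : Fr K S Z B H) (fL : Fr L S' Z' B' H') (hF : FullPair K L Q U)
    (hS : S ≤ normalizer (L : Set G)) (hH : H ≤ normalizer (L : Set G))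
    (hB : K ⊓ normalizer (L : Set G) ≤ B)
    (hz : ∃ y ∈ Z, y ∈ centralizer (L : Set G) ∧ orderOf y = 2)
    (hz' : ∃ y ∈ L, y ∈ centralizer (K : Set G) ∧ orderOf y = 2) : S ≤ centralizer (L : Set G) := by
  have hTL := hF.tightL f.tight
  have hSK : S ≤ K := f.syl.le
  have hHK : H ≤ K := f.H_le.trans f.B_le
  obtain ⟨z0, hz0, hz0L, hz02⟩ := hz
  obtain ⟨z1, hz1, hz1K, hz12⟩ := hz'
  have hz0K : z0 ∈ K := hSK (f.Z_le hz0)
  -- `C(K) ≤ N(L)`, `C(L) ≤ N(K)`
  have hCN : centralizer (K : Set G) ≤ normalizer (L : Set G) := fun c hc =>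
    hTL.mem hz0L hz02 (commute_cent hz0K hc).symm
  have hJN : centralizer (L : Set G) ≤ normalizer (K : Set G) := fun c hc =>
    f.tight.mem hz1K hz12 (commute_cent hz1 hc).symm
  -- `C(K) ∩ C(L) = 1`
  have hCJ : centralizer (K : Set G) ⊓ centralizer (L : Set G) = ⊥ := by
    apply f.core _ inf_le_left
    · intro x hx o ho
      exact ⟨(centralizer (K : Set G)).mul_mem ((centralizer (K : Set G)).mul_mem hx ho.1)
        ((centralizer (K : Set G)).inv_mem hx), hTL.norm x (hCN hx) o ho.2⟩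
    · exact odd_of_forall fun u hu => hF.noInv f.tight hu.1 hu.2
  -- `C(L)` normalises `S`
  have hJS : ∀ j ∈ centralizer (L : Set G), ∀ s ∈ S, j * s * j⁻¹ ∈ S := by
    intro j hj
    have hjK := hJN hj
    have hKj : ∀ k ∈ K, j * k * j⁻¹ ∈ K := fun k hk => (mem_normalizer_iff.mp hjK k).mp hk
    have hx : j * z0 * j⁻¹ ∈ S := by
      apply f.twoB
      · exact hB ⟨hKj _ hz0K, hTL.le ((centralizer (L : Set G)).mul_mem
          ((centralizer (L : Set G)).mul_mem hj hz0L) ((centralizer (L : Set G)).inv_mem hj))⟩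
      · refine ⟨1, ?_⟩
        have h1 : orderOf (j * z0 * j⁻¹) = 2 := by rw [Basic.orderOf_conj]; exact hz02
        rw [pow_one, ← h1, pow_orderOf_eq_one]
    obtain ⟨k, hk, hkS⟩ := f.syl.conj_into (Q := cj j S) (f.syl.two.map _) (by
      rintro _ ⟨s, hs, rfl⟩
      exact hKj s (hSK hs))
    have hkB : k ∈ B := by
      apply f.ti k hk _ hx
      · intro h
        have h1 : orderOf (j * z0 * j⁻¹) = 2 := by rw [Basic.orderOf_conj]; exact hz02
        exact ne_one_of_order h1 h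
      · exact hkS _ (mem_cj_mul (f.Z_le hz0))
    intro s hs
    have h1 := f.norm k⁻¹ (B.inv_mem hkB) _ (hkS _ (mem_cj_mul (g := j) hs))
    have e : k⁻¹ * (k * (j * s * j⁻¹) * k⁻¹) * k⁻¹⁻¹ = j * s * j⁻¹ := by group
    rwa [e] at h1
  -- `[S, C(L)] ≤ S ∩ C(L)`, `[H, C(L)] ≤ C(L)`
  have hSJ : ∀ x ∈ normalizer (L : Set G), ∀ j ∈ centralizer (L : Set G),
      x * j * x⁻¹ * j⁻¹ ∈ centralizer (L : Set G) := fun x hx j hj =>
    mul_mem (hTL.norm x hx j hj) (inv_mem hj)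
  by_cases hle : S ⊓ centralizer (L : Set G) ≤ Z
  · exfalso
    have hdec : ∀ j ∈ centralizer (L : Set G), ∃ c ∈ centralizer (K : Set G), ∃ z ∈ Z, j = c * z := by
      intro j hj
      obtain ⟨c, hc, s, hs, rfl⟩ := f.triv j (hJN hj) (by
        intro s hs
        refine ⟨s⁻¹ * (j * s * j⁻¹), ?_, by group⟩
        apply hle
        refine ⟨S.mul_mem (S.inv_mem hs) (hJS j hj s hs), ?_⟩
        have e : s⁻¹ * (j * s * j⁻¹) = s⁻¹ * j * s⁻¹⁻¹ * j⁻¹ := by group
        rw [e]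
        exact hSJ _ (inv_mem (hS hs)) j hj)
      refine ⟨c, hc, s, ?_, rfl⟩
      apply f.fpf s hs
      intro h hh
      have hcomm := commute_cent (hHK hh) hc
      have hhs : h * s * h⁻¹ * s⁻¹ ∈ S := S.mul_mem (f.norm h (f.H_le hh) s hs) (S.inv_mem hs)
      apply hle
      refine ⟨hhs, ?_⟩
      have h1 := hSJ h (hH hh) _ hj
      have h2 := commute_cent (hSK hhs) hc
      have e : h * (c * s) * h⁻¹ * (c * s)⁻¹ = h * s * h⁻¹ * s⁻¹ := by
        calc h * (c * s) * h⁻¹ * (c * s)⁻¹ = (h * c) * s * h⁻¹ * s⁻¹ * c⁻¹ := by group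
          _ = (c * h) * s * h⁻¹ * s⁻¹ * c⁻¹ := by rw [hcomm]
          _ = (c * (h * s * h⁻¹ * s⁻¹)) * c⁻¹ := by group
          _ = ((h * s * h⁻¹ * s⁻¹) * c) * c⁻¹ := by rw [h2]
          _ = h * s * h⁻¹ * s⁻¹ := by group
      rwa [e] at h1
    have hsq : ∀ j ∈ centralizer (L : Set G), j * j = 1 := by
      intro j hj
      obtain ⟨c, hc, z, hz, hjcz⟩ := hdec j hj
      have h1 := commute_cent (hSK (f.Z_le hz)) hc
      have h2 : j * j = c * c := by
        calc j * j = c * z * (c * z) := by rw [hjcz]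
          _ = c * (z * c) * z := by group
          _ = c * (c * z) * z := by rw [h1]
          _ = c * c * (z * z) := by group
          _ = c * c := by rw [f.sq z hz, mul_one]
      have h3 : j * j ∈ centralizer (K : Set G) ⊓ centralizer (L : Set G) :=
        ⟨by rw [h2]; exact mul_mem hc hc, mul_mem hj hj⟩
      rwa [hCJ, mem_bot] at h3
    have hcomm : ∀ a ∈ centralizer (L : Set G), ∀ b ∈ centralizer (L : Set G), a * b = b * a := by
      intro a ha b hb
      have h1 := hsq _ (mul_mem ha hb)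
      have h2 : a⁻¹ = a := inv_eq_of_mul_eq_one_right (hsq a ha)
      have h3 : b⁻¹ = b := inv_eq_of_mul_eq_one_right (hsq b hb)
      calc a * b = (a * b)⁻¹ := (inv_eq_of_mul_eq_one_right h1).symm
        _ = b * a := by rw [mul_inv_rev, h2, h3]
    have hHJ : ∀ h ∈ H, ∀ a ∈ centralizer (L : Set G), h * a = a * h := by
      intro h hh a ha
      obtain ⟨c, hc, z, hz, rfl⟩ := hdec a ha
      have h1 := commute_cent (hHK hh) hc
      have h2 := f.commH z hz h hh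
      calc h * (c * z) = (h * c) * z := by group
        _ = c * (h * z) := by rw [h1]; group
        _ = c * z * h := by rw [← h2]; group
    have hSL : S ≤ L := le_of_gen f hH le_rfl hcomm hHJ fun s hs => inner_S f fL hS hH hs
    have h1 := fL.cen z0 (hSL (f.Z_le hz0)) hz0L
    exact ne_one_of_order hz02 h1
  · -- the case `S ∩ C(L) ≰ Z`
    obtain ⟨t, ht, htZ⟩ := SetLike.not_le_iff_exists.mp hle
    have hZL : Z ≤ centralizer (L : Set G) := by
      intro z hz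
      obtain ⟨s, hs, rfl⟩ := f.full t ht.1 htZ z hz
      have e : t * s * t⁻¹ * s⁻¹ = t * (s * t⁻¹ * s⁻¹) := by group
      rw [e]
      exact mul_mem ht.2 (hTL.norm s (hS hs) _ (inv_mem ht.2))
    have hBL : B ≤ normalizer (L : Set G) := fun b hb =>
      hTL.tight b z0 hz0L hz02 (hZL (f.normZ b hb z0 hz0))
    have h1 : S ≤ S ⊓ centralizer (L : Set G) := by
      apply f.irr _ inf_le_left _ hle
      intro b hb x hx
      exact ⟨f.norm b hb x hx.1, hTL.norm b (hBL hb) x hx.2⟩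
    exact h1.trans inf_le_right

/-- an involution of `K ∩ C(L)`, general position -/
theorem exists_inv' [Finite G] (f : Fr K S Z B H) (hT : TightAt L) {k : G} (hk : k ∈ K)
    (hS : cj k S ≤ normalizer (L : Set G)) (hB : K ⊓ normalizer (L : Set G) ≤ cj k B)
    (hN : K ⊓ centralizer (L : Set G) ≠ ⊥) : ∃ y ∈ K, y ∈ centralizer (L : Set G) ∧ orderOf y = 2 := by
  have hKk : cj k⁻¹ K = K := cj_eq_of_mem_normalizer (le_normalizer (inv_mem hk))
  have hT' : TightAt (cj k⁻¹ L) := hT.cj k⁻¹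
  obtain ⟨y, hy, hyL, hy2⟩ := exists_inv (L := cj k⁻¹ L) f hT' (by
      rw [normalizer_cj, ← cj_inv_cj k S]
      exact map_mono hS) (by
      rw [normalizer_cj]
      rintro x ⟨hx, hxL⟩
      have h1 : k * x * k⁻¹ ∈ K ⊓ normalizer (L : Set G) := by
        refine ⟨K.mul_mem (K.mul_mem hk hx) (K.inv_mem hk), ?_⟩
        have h2 := mem_cj.mp hxL
        rwa [inv_inv] at h2
      have h2 := mem_cj.mp (hB h1)
      have e : k⁻¹ * (k * x * k⁻¹) * k = x := by group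
      rwa [e] at h2) (by
      intro h0
      apply hN
      rw [eq_bot_iff]
      rintro x ⟨hx, hxL⟩
      have h1 : k⁻¹ * x * k ∈ K ⊓ centralizer ((cj k⁻¹ L : Subgroup G) : Set G) := by
        refine mem_inf.mpr ⟨K.mul_mem (K.mul_mem (K.inv_mem hk) hx) hk, ?_⟩
        rw [centralizer_cj, mem_cj, inv_inv]
        have e : k * (k⁻¹ * x * k) * k⁻¹ = x := by group
        rwa [e]
      rw [h0, mem_bot] at h1
      rw [mem_bot]
      have e : x = k * (k⁻¹ * x * k) * k⁻¹ := by group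
      rw [e, h1]; group)
  refine ⟨k * y * k⁻¹, K.mul_mem (K.mul_mem hk (f.syl.le (f.Z_le hy))) (K.inv_mem hk), ?_, ?_⟩
  · rw [centralizer_cj, mem_cj, inv_inv] at hyL
    exact hyL
  · rw [Basic.orderOf_conj]; exact hy2

/-- **piece O, one side**, without involutions -/
theorem half_of_ne [Finite G] (f : Fr K S Z B H) (fL : Fr L S' Z' B' H') (hF : FullPair K L Q U)
    (hS : S ≤ normalizer (L : Set G)) (hH : H ≤ normalizer (L : Set G))
    (hB : K ⊓ normalizer (L : Set G) ≤ B) (hN : K ⊓ centralizer (L : Set G) ≠ ⊥)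
    (hN' : L ⊓ centralizer (K : Set G) ≠ ⊥) : S ≤ centralizer (L : Set G) := by
  obtain ⟨l, hl, h1, -, h3⟩ := stepA fL hF.symm
  exact half f fL hF hS hH hB (exists_inv f (hF.tightL f.tight) hS hB hN) (exists_inv' fL f.tight hl h1 h3 hN')

/-- `L ∩ C(K) ≠ 1` -/
theorem ne_bot [Finite G] (f : Fr K S Z B H) (fL : Fr L S' Z' B' H') (hF : FullPair K L Q U)
    (hc : Nat.card S = Nat.card S') (hB : K ⊓ normalizer (L : Set G) ≤ B)
    (hS' : S' ≤ normalizer (K : Set G)) (hH' : H' ≤ normalizer (K : Set G))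
    (hz : ∃ y ∈ Z, y ∈ centralizer (L : Set G) ∧ orderOf y = 2) : L ⊓ centralizer (K : Set G) ≠ ⊥ := by
  intro h0
  obtain ⟨z0, hz0, hz0L, hz02⟩ := hz
  have hSK' : S' ≤ K := (stepB fL f hF.symm hS' hH' h0).1
  have hle : S' ≤ S := by
    intro s hs
    exact f.twoB s (hB ⟨hSK' hs, le_normalizer (fL.syl.le hs)⟩) (el_of_mem fL.syl.two hs)
  have heq : S' = S := Subgroup.eq_of_le_of_card_ge hle hc.le
  have h1 := fL.cen z0 (fL.syl.le (by rw [heq]; exact f.Z_le hz0)) hz0L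
  exact ne_one_of_order hz02 h1

/-- **piece O over the frames** -/
theorem stepC_fr [Finite G] (f : Fr K S Z B H) (fL : Fr L S' Z' B' H') (hF : FullPair K L Q U)
    (hc : Nat.card S = Nat.card S')
    (hS : S ≤ normalizer (L : Set G)) (hH : H ≤ normalizer (L : Set G)) (hB : K ⊓ normalizer (L : Set G) ≤ B)
    (hS' : S' ≤ normalizer (K : Set G)) (hH' : H' ≤ normalizer (K : Set G))
    (hB' : L ⊓ normalizer (K : Set G) ≤ B') (hN : K ⊓ centralizer (L : Set G) ≠ ⊥) :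
    S ≤ centralizer (L : Set G) ∧ S' ≤ centralizer (K : Set G) := by
  have hz := exists_inv f (hF.tightL f.tight) hS hB hN
  have hN' := ne_bot f fL hF hc hB hS' hH' hz
  have hz' := exists_inv fL f.tight hS' hB' hN'
  obtain ⟨y, hy, hyL, hy2⟩ := hz
  obtain ⟨y', hy', hyL', hy2'⟩ := hz'
  exact ⟨half f fL hF hS hH hB ⟨y, hy, hyL, hy2⟩ ⟨y', fL.syl.le (fL.Z_le hy'), hyL', hy2'⟩,
    half fL f hF.symm hS' hH' hB' ⟨y', hy', hyL', hy2'⟩ ⟨y, f.syl.le (f.Z_le hy), hyL, hy2⟩⟩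

end Frame

/-! ### The form of the plan -/

section Uni

open Cfsg.Agent.LieRecognition Cfsg.Agent.LieRecognition.HermHeis Cfsg.Agent.StdU3.Semi
  Cfsg.Agent.OddHalf.D4.U3.ParDefs

universe u v

variable {G : Type u} [Group G] {F : Type v} [Field F] [Fintype F] [CharP F 2] {σ : F →+* F}
  [hσ : Fact (∀ x, σ (σ x) = x)] {n : ℕ}

/-- **piece O**, given the instance of the frame -/
theorem stepC_of [Finite G] (fr : ∀ (K : Subgroup G) (X : Uni K σ n), Fr K X.p.S X.p.Z X.p.B (H0 X.p))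
    {K L Q U : Subgroup G} (X : Uni K σ n) (hF : FullPair K L Q U)
    (hN : K ⊓ centralizer (L : Set G) ≠ ⊥) {g : G} (hg : L = cj g K) :
    ∃ k ∈ K, ∃ l ∈ L, cj k X.p.S ≤ centralizer (L : Set G) ∧ cj (l * g) X.p.S ≤ centralizer (K : Set G) := by
  subst hg
  obtain ⟨k, hk, h1, h2, h3⟩ := stepA (fr K X) hF
  obtain ⟨l, hl, h1', h2', h3'⟩ := stepA (fr _ (uconj X g)) hF.symm
  have f1 := fr K (uinn X ⟨k, hk⟩)
  have f2 := fr _ (uinn (uconj X g) ⟨l, hl⟩)
  have e1 : (uinn X ⟨k, hk⟩).p.S = cj k X.p.S := inn_S X.p ⟨k, hk⟩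
  have e2 : H0 (uinn X ⟨k, hk⟩).p = cj k (H0 X.p) := inn_H0 X.p ⟨k, hk⟩
  have e3 : (uinn X ⟨k, hk⟩).p.B = cj k X.p.B := inn_B X.p ⟨k, hk⟩
  have e1' : (uinn (uconj X g) ⟨l, hl⟩).p.S = cj l (uconj X g).p.S := inn_S (uconj X g).p ⟨l, hl⟩
  have e2' : H0 (uinn (uconj X g) ⟨l, hl⟩).p = cj l (H0 (uconj X g).p) := inn_H0 (uconj X g).p ⟨l, hl⟩
  have e3' : (uinn (uconj X g) ⟨l, hl⟩).p.B = cj l (uconj X g).p.B := inn_B (uconj X g).p ⟨l, hl⟩
  have e4 : (uconj X g).p.S = cj g X.p.S := Par.conj_S X.p g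
  rw [e1, e2, e3] at f1
  rw [e1', e2', e3'] at f2
  have hc : Nat.card ↥(cj k X.p.S) = Nat.card ↥(cj l (uconj X g).p.S) := by
    rw [card_cj, card_cj, e4, card_cj]
  have h := stepC_fr f1 f2 hF hc h1 h2 h3 h1' h2' h3' hN
  refine ⟨k, hk, l, hl, h.1, ?_⟩
  rw [cj_mul, ← e4]
  exact h.2

end Uni

end Cfsg.Agent.OddHalf.D4.U3.StepC

end

-- merged: Cfsg.Agent.OddHalf.D4.U3.CommonTD
section

/-!
# ODD, D4, row `K = U₃(q)`: piece S in the form of piece T (`TBase.TD.pair`, `TD.sq`)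

The only hypothesis left is the digon `hdig`.
-/

set_option autoImplicit false
set_option linter.dupNamespace false

namespace Cfsg.Agent.OddHalf.D4.U3.CommonTD

open Subgroup Cfsg.Agent.LieRecognition Cfsg.Agent.LieRecognition.HermHeis Cfsg.Agent.OddHalf.D4
  Cfsg.Agent.OddHalf.D4.Basic Cfsg.Agent.OddHalf.D4.U3.Fr Cfsg.Agent.OddHalf.D4.U3.ParDefs
  Cfsg.Agent.OddHalf.D4.U3.Common
open Cfsg.Agent.OddHalf.D4.CommConj (Tight cj mem_cj cj_mul card_cj cj_eq_of_mem_normalizer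
  mem_normalizer_of_cj_eq mem_cj_mul)

universe u v

variable {G : Type u} [Group G] {F : Type v} [Field F] [Fintype F] [CharP F 2] {σ : F →+* F}
  [hσ : Fact (∀ x, σ (σ x) = x)] {n : ℕ}

/-- **Piece S** from the digon. -/
theorem pair_common_of [Finite G] {K Q : Subgroup G} (X : Uni K σ n)
    (hdig : ∀ (Y : Uni K σ n) (g : G), g ∉ normalizer (K : Set G) →
      Y.p.S ≤ centralizer ((cj g K : Subgroup G) : Set G) → cj g Y.p.S ≤ centralizer (K : Set G) → False)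
    {x : G} (hQ : IsSyl Q (centralizer (K : Set G))) (hx : x ∉ normalizer (K : Set G))
    (hc : ∀ r ∈ Q, ∀ u ∈ cj x Q, r * u = u * r) :
    ∃ k ∈ K, ∃ y, y ∉ normalizer (K : Set G) ∧ cj y K = cj x K ∧ cj y (cj k X.p.S) = cj k X.p.S ∧
      cj y Q = cj x Q ∧ (∀ u ∈ cj x Q, ∃ r ∈ Q, ∃ z ∈ cj k X.p.Z, u = r * z) ∧
      (∀ r ∈ Q, ∃ z ∈ cj k X.p.Z, r * z ∈ cj x Q) ∧ ∀ r ∈ Q, r * r = 1 :=
  Common.pair_common_of X (fun Y => fr Y)
    (fun f fL hF hS hH hB hN hN' => StepC.half_of_ne f fL hF hS hH hB hN hN') hdig hQ hx hc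

/-- the field `TBase.TD.pair` of piece T -/
theorem td_pair_of [Finite G] {K Q : Subgroup G} (X : Uni K σ n)
    (hdig : ∀ (Y : Uni K σ n) (g : G), g ∉ normalizer (K : Set G) →
      Y.p.S ≤ centralizer ((cj g K : Subgroup G) : Set G) → cj g Y.p.S ≤ centralizer (K : Set G) → False)
    (hQ : IsSyl Q (centralizer (K : Set G))) (x : G) (hx : x ∉ normalizer (K : Set G))
    (hc : ∀ r ∈ Q, ∀ w ∈ cj x Q, r * w = w * r) :
    ∃ k ∈ normalizer (K : Set G), ∃ y, y ∉ normalizer (K : Set G) ∧ cj y Q = cj x Q ∧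
      cj y (cj k X.p.u.range) = cj k X.p.u.range ∧
      ∀ r ∈ Q, ∃ z : Heis σ, z.a = 0 ∧ r * (k * X.p.u z * k⁻¹) ∈ cj x Q := by
  obtain ⟨k, hk, y, hy, -, hS, hyQ, -, h2, -⟩ := pair_common_of X hdig hQ hx hc
  refine ⟨k, le_normalizer hk, y, hy, hyQ, hS, fun r hr => ?_⟩
  obtain ⟨z, hz, h3⟩ := h2 r hr
  rw [mem_cj] at hz
  obtain ⟨z', hz', e⟩ := hz
  refine ⟨z', hz', ?_⟩
  have e2 : k * X.p.u z' * k⁻¹ = z := by rw [← e]; group
  rwa [e2]

/-- the field `TBase.TD.sq` of piece T -/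
theorem td_sq_of [Finite G] {K Q : Subgroup G} (X : Uni K σ n)
    (hdig : ∀ (Y : Uni K σ n) (g : G), g ∉ normalizer (K : Set G) →
      Y.p.S ≤ centralizer ((cj g K : Subgroup G) : Set G) → cj g Y.p.S ≤ centralizer (K : Set G) → False)
    {x : G} (hQ : IsSyl Q (centralizer (K : Set G))) (hx : x ∉ normalizer (K : Set G))
    (hc : ∀ r ∈ Q, ∀ w ∈ cj x Q, r * w = w * r) : ∀ r ∈ Q, r * r = 1 := by
  obtain ⟨k, -, y, -, -, -, -, -, -, h⟩ := pair_common_of X hdig hQ hx hc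
  exact h

/-- the conjugating element of a full pair, with `U = cj x Q` -/
theorem exists_x [Finite G] {K L Q U : Subgroup G} (hF : FullPair K L Q U) :
    ∃ x, x ∉ normalizer (K : Set G) ∧ cj x K = L ∧ cj x Q = U ∧ ∀ r ∈ Q, ∀ w ∈ cj x Q, r * w = w * r := by
  obtain ⟨⟨g, hg, rfl⟩, hQ, hU, hc⟩ := hF
  have h1 : IsSyl (cj g Q) (centralizer ((cj g K : Subgroup G) : Set G)) := by
    rw [centralizer_cj]; exact hQ.cj g
  obtain ⟨j, hj, e⟩ := exists_cj_eq h1 hU.two hU.le (card_le_of_syl hU h1.two h1.le)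
  have hj' : cj j (cj g K) = cj g K := cj_eq_of_mem_normalizer (cent_le_norm _ hj)
  refine ⟨j * g, fun h => hg ?_, by rw [cj_mul, hj'], by rw [cj_mul, e], ?_⟩
  · apply mem_normalizer_of_cj_eq
    rw [← hj', ← cj_mul]
    exact cj_eq_of_mem_normalizer h
  · rw [cj_mul, e]; exact hc

end Cfsg.Agent.OddHalf.D4.U3.CommonTD

end

-- merged: Cfsg.Agent.OddHalf.D4.U3.TInst
section

/-!
# ODD, D4, row `K = U₃(q)`: the instance of `TBase.TD`
-/

set_option autoImplicit false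
set_option linter.dupNamespace false

namespace Cfsg.Agent.OddHalf.D4.U3.TInst

open Subgroup Cfsg.Agent.LieRecognition Cfsg.Agent.LieRecognition.HermHeis Cfsg.Agent.OddHalf.D4
  Cfsg.Agent.OddHalf.D4.Basic Cfsg.Agent.OddHalf.D4.U3.Fr Cfsg.Agent.OddHalf.D4.U3.ParDefs
  Cfsg.Agent.OddHalf.D4.U3.Common Cfsg.Agent.OddHalf.D4.U3.CommonTD
open Cfsg.Agent.OddHalf.D4.CommConj (Tight cj mem_cj cj_mul card_cj cj_eq_of_mem_normalizer
  mem_normalizer_of_cj_eq mem_cj_mul)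

universe u v

variable {G : Type u} [Group G] {F : Type v} [Field F] [Fintype F] [CharP F 2] {σ : F →+* F}
  [hσ : Fact (∀ x, σ (σ x) = x)] {n : ℕ} {K Q : Subgroup G}

/-- an element of `N(K)` that maps an element `≠ 1` of `S` into `S` normalises `S` -/
theorem ti (p : Par K σ n) [Finite G] {x : G} (hx : x ∈ normalizer (K : Set G)) {y y' : Heis σ} (hy : y ≠ 1)
    (h : x * p.u y * x⁻¹ = p.u y') : cj x p.S = p.S := by
  have h1 : IsSyl (cj x p.S) K := by
    have h2 := p.sylS.cj x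
    rwa [cj_eq_of_mem_normalizer hx] at h2
  obtain ⟨k, hk, h3⟩ := exists_cj_eq p.sylS h1.two h1.le (by rw [card_cj])
  have h4 : p.u y' ∈ cj k p.S := by
    rw [h3, ← h]
    exact mem_cj_mul (p.u_mem y)
  rw [mem_cj] at h4
  have hy' : p.u y' ≠ 1 := by
    intro e
    apply hy
    rw [e] at h
    apply p.u_eq_one
    calc p.u y = x⁻¹ * (x * p.u y * x⁻¹) * x := by group
      _ = 1 := by rw [h]; group
  have h5 : k⁻¹ ∈ p.B := p.mem_B_of (inv_mem hk) (p.u_mem y') hy' (by rwa [inv_inv])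
  have h6 := inv_mem h5
  rw [inv_inv] at h6
  rw [← h3]
  exact p.cj_S_of_B h6

/-- `N(K) ∩ N(S)` normalises `B` -/
theorem norB (p : Par K σ n) {x : G} (hx : x ∈ normalizer (K : Set G)) (h : cj x p.S = p.S) (l : Fˣ) :
    x * p.d l * x⁻¹ ∈ p.B := by
  apply p.mem_B_of_cj ((mem_normalizer_iff.mp hx _).mp (p.d_mem l))
  have h1 := cj_inv_cj x p.S
  rw [h] at h1
  rw [cj_mul, cj_mul, h1, p.cj_S_of_B (p.d_mem_B l), h]

/-- **The instance of `TD`.** -/
theorem td_of [Finite G] (X : Uni K σ n)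
    (hdig : ∀ (Y : Uni K σ n) (g : G), g ∉ normalizer (K : Set G) →
      Y.p.S ≤ centralizer ((cj g K : Subgroup G) : Set G) → cj g Y.p.S ≤ centralizer (K : Set G) → False)
    (hQ : IsSyl Q (centralizer (K : Set G))) {x : G} (hx : x ∉ normalizer (K : Set G))
    (hc : ∀ r ∈ Q, ∀ w ∈ cj x Q, r * w = w * r) :
    TBase.TD X.p.u X.p.d K (centralizer (K : Set G)) (normalizer (K : Set G)) Q n where
  hS := X.p.hS
  inj := X.p.u_inj
  d_u := X.p.d_u
  uC c hc x := (mem_centralizer_iff.1 hc _ (X.p.u_mem_K x)).symm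
  dC c hc l := (mem_centralizer_iff.1 hc _ (X.p.d_mem l)).symm
  uK := X.p.u_mem_K
  dK := X.p.d_mem
  K_le := le_normalizer
  C_le := cent_le_norm K
  K_nor m hm x hx := (mem_normalizer_iff.mp hm x).mp hx
  C_nor m hm c hc := X.tight.norm m hm c hc
  KC x hx hc := X.cen x hx hc
  syl := hQ
  sq := td_sq_of X hdig hQ hx hc
  ne := by
    obtain ⟨r, hr, s, hs, hr2, hs2, -, -⟩ := X.four
    have h1 : IsPGroup 2 ↥(zpowers r) := by
      rw [IsPGroup.iff_card]
      exact ⟨1, by rw [Nat.card_zpowers, hr2, pow_one]⟩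
    obtain ⟨m, hm, h⟩ := hQ.conj_into h1 (by rw [zpowers_le]; exact hr)
    refine ⟨m * r * m⁻¹, h r (mem_zpowers r), fun e => ?_⟩
    have h2 : r = 1 := by
      calc r = m⁻¹ * (m * r * m⁻¹) * m := by group
        _ = 1 := by rw [e]; group
    rw [h2, orderOf_one] at hr2
    exact absurd hr2 (by norm_num)
  tight x r hr hr1 hr2 h := by
    have ho : orderOf r = 2 := orderOf_eq_prime (by rw [sq, hr2]) hr1
    have h1 := X.tight.tight x⁻¹ r hr ho (by rwa [inv_inv])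
    have h2 := inv_mem h1
    rwa [inv_inv] at h2
  trivS x hx h := by
    obtain ⟨c, hc, s, ⟨y, rfl⟩, e⟩ := X.p.triv hx (by
      rintro s ⟨y, rfl⟩
      obtain ⟨y', h1, h2⟩ := h y
      refine ⟨(X.p.u y)⁻¹ * X.p.u y', ?_, by rw [h2]; group⟩
      rw [← map_inv, ← map_mul, X.p.u_mem_Z_iff, mul_a, inv_a, h1]
      exact CharTwo.add_self_eq_zero _)
    exact ⟨c, hc, y, e⟩
  ti x hx y y' hy h := ti X.p hx hy h
  norB x hx h l := X.p.mem_B.mp (norB X.p hx h l)
  pair := td_pair_of X hdig hQ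

end Cfsg.Agent.OddHalf.D4.U3.TInst

end
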