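import Cfsg.Agent.OddHalf.D4.U3.TLam
import Cfsg.Agent.OddHalf.D4.U3.TInst
import Cfsg.Agent.OddHalf.D4.U3.MkDefs

-- merged: Cfsg.Agent.OddHalf.D4.U3.TOne
section

/-!
# ODD, D4, row `K = U₃(q)`: PIECE T, (T2): the group `Y₂` and its Sylow 2-subgroup `T₁`
-/

set_option autoImplicit false
set_option linter.dupNamespace false
set_option linter.unusedSectionVars false

namespace Cfsg.Agent.OddHalf.D4.U3.TOne

open Subgroup Cfsg.Agent.LieRecognition Cfsg.Agent.LieRecognition.HermHeis Cfsg.Agent.StdU3.URel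
  Cfsg.Agent.StdU3.Semi Cfsg.Agent.OddHalf.D4.CommConj Cfsg.Agent.OddHalf.D4.Basic
  Cfsg.Agent.OddHalf.D4.U3.TBase Cfsg.Agent.OddHalf.D4.U3.TLam

universe u v

variable {G : Type u} [Group G] {F : Type v} [Field F] [Fintype F] [CharP F 2] {σ : F →+* F}
  [hσ : Fact (∀ x, σ (σ x) = x)] {n : ℕ} {u : Heis σ →* G} {d : Fˣ →* G} {K C M Q : Subgroup G}

/-! ### general facts -/

theorem zz_of_not {b : F} (hb : σ b ≠ b) : zz u b = 1 := by unfold zz; rw [dif_neg hb]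

/-- a `zz` is one of a fixed element -/
theorem exists_fix (u : Heis σ →* G) (b : F) : ∃ b', σ b' = b' ∧ zz u b = zz u b' := by
  by_cases hb : σ b = b
  · exact ⟨b, hb, rfl⟩
  · exact ⟨0, fix_zero, by rw [zz_of_not hb, zz_zero]⟩

theorem comm_zz_of {y : G} (hy : ∀ s, y * u s = u s * y) (b : F) : y * zz u b = zz u b * y := by
  by_cases hb : σ b = b
  · rw [zz_pos hb]; exact hy _
  · rw [zz_of_not hb]; simp

variable (T : TD u d K C M Q n)

include T in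
/-- a central element of `S` -/
theorem a_zero {s : Heis σ} (h : ∀ y, u s * u y = u y * u s) : s.a = 0 := by
  have h1 : ∀ y, s * y = y * s := by
    intro y
    apply T.inj
    rw [map_mul, map_mul, h]
  obtain ⟨e, he⟩ := Cfsg.Agent.StdU3.Field.exists_Tr_one T.hS.hq
  obtain ⟨y, hy⟩ := exists_a T.hS 1
  obtain ⟨y', hy'⟩ := exists_a T.hS e
  have h2 := (commute_iff _ _).mp (h1 y)
  have h3 := (commute_iff _ _).mp (h1 y')
  rw [hy, map_one, mul_one, one_mul] at h2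
  rw [hy', ← h2] at h3
  rw [Cfsg.Agent.StdU3.Field.Tr_def, ← T.hS.eq] at he
  calc s.a = s.a * (e + σ e) := by rw [he, mul_one]
    _ = s.a * e + s.a * σ e := by ring
    _ = 0 := by rw [h3, mul_comm e]; exact CharTwo.add_self_eq_zero _

/-- `o` lies in `N₀ = C_C(Q)` -/
def InN (C Q : Subgroup G) (o : G) : Prop := o ∈ C ∧ ∀ r ∈ Q, o * r = r * o

theorem InN.mul {o o' : G} (h : InN C Q o) (h' : InN C Q o') : InN C Q (o * o') :=
  ⟨C.mul_mem h.1 h'.1, fun r hr => by rw [mul_assoc, h'.2 r hr, ← mul_assoc, h.2 r hr, mul_assoc]⟩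

theorem InN.inv {o : G} (h : InN C Q o) : InN C Q o⁻¹ :=
  ⟨C.inv_mem h.1, fun r hr => by
    have := h.2 r hr
    calc o⁻¹ * r = o⁻¹ * (r * o) * o⁻¹ := by group
      _ = o⁻¹ * (o * r) * o⁻¹ := by rw [this]
      _ = r * o⁻¹ := by group⟩

theorem InN.pow {o : G} (h : InN C Q o) (k : ℕ) : InN C Q (o ^ k) := by
  induction k with
  | zero => rw [pow_zero]; exact ⟨one_mem C, fun r _ => by simp⟩
  | succ k ih => rw [pow_succ]; exact ih.mul h

include T in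
theorem InN.of_Q {r : G} (hr : r ∈ Q) : InN C Q r := ⟨T.syl.le hr, fun _ hs => T.Q_comm hr hs⟩

theorem two_zpowers {o : G} {k : ℕ} (hk : o ^ 2 ^ k = 1) : IsPGroup 2 ↥(zpowers o) := by
  rintro ⟨x, hx⟩
  obtain ⟨i, rfl⟩ := mem_zpowers_iff.mp hx
  refine ⟨k, ?_⟩
  ext
  show (o ^ i) ^ 2 ^ k = 1
  rw [← zpow_natCast, ← zpow_mul, mul_comm, zpow_mul, zpow_natCast, hk, one_zpow]

theorem cj_eq_of_le [Finite G] {x : G} {X : Subgroup G} (h : ∀ w ∈ X, x * w * x⁻¹ ∈ X) : cj x X = X := by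
  apply eq_of_le_of_card_ge
  · rintro _ ⟨w, hw, rfl⟩
    exact h w hw
  · rw [card_cj]

include T in
/-- a 2-element of `C` normalizing `Q` lies in `Q` -/
theorem mem_Q_of_norm [Finite G] {o : G} (ho : o ∈ C) (hn : cj o Q = Q) {k : ℕ} (hk : o ^ 2 ^ k = 1) : o ∈ Q := by
  have h2 : IsPGroup 2 ↥(Q ⊔ zpowers o) := by
    apply T.syl.two.to_sup_of_normal_left' (two_zpowers hk)
    rw [zpowers_le]
    exact mem_normalizer_of_cj_eq hn
  apply T.syl.max _ h2 le_sup_left _ (mem_sup_right (mem_zpowers o))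
  exact sup_le T.syl.le ((zpowers_le).mpr ho)

include T in
/-- a 2-element of `N₀` lies in `Q` -/
theorem InN.mem_Q [Finite G] {o : G} (h : InN C Q o) {k : ℕ} (hk : o ^ 2 ^ k = 1) : o ∈ Q := by
  apply mem_Q_of_norm T h.1 _ hk
  apply cj_eq_of_le
  intro r hr
  rw [h.2 r hr, mul_inv_cancel_right]
  exact hr

/-! ### the group `Y₂` -/

/-- `Y₂`: the elements centralizing `S` and acting on `N₀` by `o ↦ o z` -/
def Y2 (u : Heis σ →* G) (C Q : Subgroup G) : Subgroup G where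
  carrier := {w | (∀ s, w * u s = u s * w) ∧ ∀ o, InN C Q o → ∃ b, σ b = b ∧ w * o * w⁻¹ = o * zz u b}
  one_mem' := ⟨fun s => by simp, fun o _ => ⟨0, fix_zero, by rw [zz_zero]; group⟩⟩
  mul_mem' := by
    rintro x y ⟨hx1, hx2⟩ ⟨hy1, hy2⟩
    refine ⟨fun s => by rw [mul_assoc, hy1, ← mul_assoc, hx1, mul_assoc], ?_⟩
    intro o ho
    obtain ⟨b, hb, h⟩ := hy2 o ho
    obtain ⟨b', hb', h'⟩ := hx2 o ho
    refine ⟨b' + b, fix_add hb' hb, ?_⟩
    have h3 := comm_zz_of hx1 b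
    calc x * y * o * (x * y)⁻¹ = x * (y * o * y⁻¹) * x⁻¹ := by group
      _ = (x * o * x⁻¹) * (x * zz u b * x⁻¹) := by rw [h]; group
      _ = o * zz u b' * zz u b := by rw [h', h3]; group
      _ = o * zz u (b' + b) := by rw [zz_add hb' hb]; group
  inv_mem' := by
    rintro x ⟨hx1, hx2⟩
    have hx3 : ∀ s, x⁻¹ * u s = u s * x⁻¹ := fun s => by
      calc x⁻¹ * u s = x⁻¹ * (u s * x) * x⁻¹ := by group
        _ = u s * x⁻¹ := by rw [← hx1]; group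
    refine ⟨hx3, ?_⟩
    intro o ho
    obtain ⟨b, hb, h⟩ := hx2 o ho
    refine ⟨b, hb, ?_⟩
    have h3 := comm_zz_of hx3 b
    have h4 : o = x⁻¹ * o * x * zz u b := by
      calc o = x⁻¹ * (x * o * x⁻¹) * x := by group
        _ = x⁻¹ * o * (zz u b * x) := by rw [h]; group
        _ = x⁻¹ * o * (x * zz u b) := by rw [← comm_zz_of hx1 b]
        _ = _ := by group
    calc x⁻¹ * o * x⁻¹⁻¹ = x⁻¹ * o * x * (zz u b * zz u b) := by rw [zz_sq hb]; group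
      _ = x⁻¹ * o * x * zz u b * zz u b := by group
      _ = o * zz u b := by rw [← h4]

theorem Y2.cu {w : G} (h : w ∈ Y2 u C Q) (s : Heis σ) : w * u s = u s * w := h.1 s

theorem Y2.N {w : G} (h : w ∈ Y2 u C Q) {o : G} (ho : InN C Q o) : ∃ b, σ b = b ∧ w * o * w⁻¹ = o * zz u b :=
  h.2 o ho

theorem Y2.zz {w : G} (h : w ∈ Y2 u C Q) (b : F) : w * TBase.zz u b = TBase.zz u b * w :=
  comm_zz_of h.1 b

include T

theorem Y2.onQ {w : G} (h : w ∈ Y2 u C Q) : ∀ r ∈ Q, ∃ b, σ b = b ∧ w * r * w⁻¹ = r * TBase.zz u b :=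
  fun _ hr => h.2 _ (InN.of_Q T hr)

theorem zz_Y2 (b : F) : TBase.zz u b ∈ Y2 u C Q := by
  refine ⟨fun s => (zz_comm_u b s).symm, fun o ho => ⟨0, fix_zero, ?_⟩⟩
  rw [zz_zero, mul_one, ← T.C_zz ho.1 b]
  group

theorem Q_Y2 {r : G} (hr : r ∈ Q) : r ∈ Y2 u C Q := by
  refine ⟨fun s => T.uC r (T.syl.le hr) s, fun o ho => ⟨0, fix_zero, ?_⟩⟩
  rw [zz_zero, mul_one, ← ho.2 r hr]
  group

/-- the torus normalizes `Y₂` -/
theorem d_Y2 (l : Fˣ) {w : G} (hw : w ∈ Y2 u C Q) : d l * w * (d l)⁻¹ ∈ Y2 u C Q := by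
  refine ⟨fun s => ?_, fun o ho => ?_⟩
  · have h1 : (d l)⁻¹ * u s * d l = u (act l⁻¹ s) := by
      have := T.d_u l⁻¹ s
      rw [map_inv, inv_inv] at this
      exact this
    have h2 := hw.1 (act l⁻¹ s)
    calc d l * w * (d l)⁻¹ * u s = d l * (w * ((d l)⁻¹ * u s * d l)) * (d l)⁻¹ := by group
      _ = d l * (((d l)⁻¹ * u s * d l) * w) * (d l)⁻¹ := by rw [h1, h2]
      _ = u s * (d l * w * (d l)⁻¹) := by group
  · obtain ⟨b, hb, h⟩ := hw.2 o ho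
    have h1 : (d l)⁻¹ * o * d l = o := by
      rw [mul_assoc, T.dC o ho.1 l]; group
    refine ⟨nm σ l * b, fix_mul (T.fix_nm l) hb, ?_⟩
    calc d l * w * (d l)⁻¹ * o * (d l * w * (d l)⁻¹)⁻¹
        = d l * (w * ((d l)⁻¹ * o * d l) * w⁻¹) * (d l)⁻¹ := by group
      _ = (d l * o * (d l)⁻¹) * (d l * TBase.zz u b * (d l)⁻¹) := by rw [h1, h]; group
      _ = o * TBase.zz u (nm σ l * b) := by
        rw [T.d_zz _ hb]
        congr 1
        rw [← T.dC o ho.1 l]; group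

/-- an element centralizing `S` and `Q` is `o z` with `o ∈ N₀` -/
theorem exists_oz {y : G} (hy : ∀ s, y * u s = u s * y) (hQ : ∀ r ∈ Q, y * r = r * y) :
    ∃ o, InN C Q o ∧ ∃ b, σ b = b ∧ y = o * TBase.zz u b := by
  obtain ⟨r₀, hr₀, hr₀1⟩ := T.ne
  obtain ⟨hyM, -⟩ := keyA T (y := y) (fun r hr => ⟨0, fix_zero, by rw [zz_zero, hQ r hr]; group⟩) hr₀ hr₀1
    (hQ r₀ hr₀)
  obtain ⟨c, hc, s, rfl⟩ := T.trivS y hyM (fun s => ⟨s, rfl, by rw [hy]; group⟩)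
  have hs : s.a = 0 := by
    apply a_zero T
    intro y
    have h1 := hy y
    have h2 := T.uC c hc y
    have h3 : c * (u s * u y) = c * (u y * u s) := by
      calc c * (u s * u y) = c * u s * u y := by group
        _ = u y * c * u s := by rw [h1]; group
        _ = c * (u y * u s) := by rw [← h2]; group
    exact mul_left_cancel h3
  refine ⟨c, ⟨hc, ?_⟩, s.b, b_fixed_of_a_eq_zero hs, by rw [u_of_a hs]⟩
  intro r hr
  have h1 := hQ r hr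
  have h2 := T.uC r (T.syl.le hr) s
  have h3 : c * r * u s = r * c * u s := by
    calc c * r * u s = c * (r * u s) := by group
      _ = c * u s * r := by rw [h2]; group
      _ = r * c * u s := by rw [h1]; group
  exact mul_right_cancel h3

/-- the kernel of the action of `Y₂` on `Q` -/
theorem Y2.ker {w : G} (h : w ∈ Y2 u C Q) (hQ : ∀ r ∈ Q, w * r = r * w) :
    ∃ o, InN C Q o ∧ (∀ o', InN C Q o' → o * o' = o' * o) ∧ ∃ b, σ b = b ∧ w = o * TBase.zz u b := by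
  obtain ⟨o, ho, b, hb, rfl⟩ := exists_oz T h.1 hQ
  refine ⟨o, ho, ?_, b, hb, rfl⟩
  intro o' ho'
  obtain ⟨b', hb', h'⟩ := h.2 o' ho'
  have h1 : o * TBase.zz u b * o' * (o * TBase.zz u b)⁻¹ = o * o' * o⁻¹ := by
    calc o * TBase.zz u b * o' * (o * TBase.zz u b)⁻¹ = o * (TBase.zz u b * o') * (TBase.zz u b)⁻¹ * o⁻¹ := by group
      _ = o * (o' * TBase.zz u b) * (TBase.zz u b)⁻¹ * o⁻¹ := by rw [T.C_zz ho'.1]
      _ = _ := by group
  rw [h1] at h'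
  have h2 : TBase.zz u b' ∈ C := by
    have : TBase.zz u b' = o'⁻¹ * (o * o' * o⁻¹) := by rw [h']; group
    rw [this]
    exact C.mul_mem (C.inv_mem ho'.1) (C.mul_mem (C.mul_mem ho.1 ho'.1) (C.inv_mem ho.1))
  rw [T.zzC hb' h2, zz_zero, mul_one, mul_inv_eq_iff_eq_mul] at h'
  exact h'

/-- odd elements of `N₀` commute with `Y₂` -/
theorem Y2.odd {w : G} (h : w ∈ Y2 u C Q) {o : G} (ho : InN C Q o) {m : ℕ} (hm : Odd m) (hom : o ^ m = 1) :
    w * o = o * w := by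
  obtain ⟨b, hb, h'⟩ := h.2 o ho
  have h1 : Commute o (TBase.zz u b) := T.C_zz ho.1 b
  have h2 : (w * o * w⁻¹) ^ m = 1 := by rw [conj_pow, hom]; group
  rw [h', h1.mul_pow, hom, one_mul] at h2
  obtain ⟨j, rfl⟩ := hm
  rw [pow_succ, pow_mul, pow_two, zz_sq hb, one_pow, one_mul] at h2
  rw [h2, mul_one, mul_inv_eq_iff_eq_mul] at h'
  exact h'

/-! ### the character `ch` -/

omit T in
open Classical in
/-- the `c` with `w r w⁻¹ = r z(c f(r))` -/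
noncomputable def ch (u : Heis σ →* G) (Q : Subgroup G) (f : G → F) (w : G) : F :=
  if h : ∃ c, σ c = c ∧ ∀ r ∈ Q, w * r * w⁻¹ = r * TBase.zz u (c * f r) then h.choose else 0

variable {g : G} {f : G → F} (H : TG u M Q g f)
include H

theorem ch_eq {w : G} {c : F} (hc : σ c = c) (h : ∀ r ∈ Q, w * r * w⁻¹ = r * TBase.zz u (c * f r)) :
    ch u Q f w = c := by
  have h1 : ∃ c, σ c = c ∧ ∀ r ∈ Q, w * r * w⁻¹ = r * TBase.zz u (c * f r) := ⟨c, hc, h⟩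
  unfold ch
  rw [dif_pos h1]
  obtain ⟨h2, h3⟩ := h1.choose_spec
  obtain ⟨r₀, hr₀, hr₀1⟩ := T.ne
  have hf := f_ne T H hr₀ hr₀1
  have h4 := mul_left_cancel ((h3 r₀ hr₀).symm.trans (h r₀ hr₀))
  have h5 := T.zz_inj' (fix_mul h2 (H.f_fix r₀ hr₀)) (fix_mul hc (H.f_fix r₀ hr₀)) h4
  exact mul_right_cancel₀ hf h5

theorem ch_spec {w : G} (hw : w ∈ Y2 u C Q) : σ (ch u Q f w) = ch u Q f w ∧
    ∀ r ∈ Q, w * r * w⁻¹ = r * TBase.zz u (ch u Q f w * f r) := by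
  obtain ⟨c, hc, h⟩ := lemC T H hw.1 (Y2.onQ T hw)
  rw [ch_eq T H hc h]
  exact ⟨hc, h⟩

theorem ch_mul {w w' : G} (hw : w ∈ Y2 u C Q) (hw' : w' ∈ Y2 u C Q) :
    ch u Q f (w * w') = ch u Q f w + ch u Q f w' := by
  obtain ⟨h1, h2⟩ := ch_spec T H hw
  obtain ⟨h3, h4⟩ := ch_spec T H hw'
  apply ch_eq T H (fix_add h1 h3)
  intro r hr
  rw [add_mul, zz_add (fix_mul h1 (H.f_fix r hr)) (fix_mul h3 (H.f_fix r hr))]
  calc w * w' * r * (w * w')⁻¹ = w * (w' * r * w'⁻¹) * w⁻¹ := by group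
    _ = (w * r * w⁻¹) * (w * TBase.zz u (ch u Q f w' * f r) * w⁻¹) := by rw [h4 r hr]; group
    _ = _ := by rw [h2 r hr, Y2.zz hw]; group

theorem ch_of_comm {w : G} (h : ∀ r ∈ Q, w * r = r * w) : ch u Q f w = 0 := by
  apply ch_eq T H fix_zero
  intro r hr
  rw [zero_mul, zz_zero, h r hr]; group

theorem comm_of_ch {w : G} (hw : w ∈ Y2 u C Q) (h : ch u Q f w = 0) : ∀ r ∈ Q, w * r = r * w := by
  intro r hr
  have h1 := (ch_spec T H hw).2 r hr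
  rw [h, zero_mul, zz_zero, mul_one, mul_inv_eq_iff_eq_mul] at h1
  exact h1

theorem ch_inv {w : G} (hw : w ∈ Y2 u C Q) : ch u Q f w⁻¹ = ch u Q f w := by
  have h1 := ch_mul T H hw ((Y2 u C Q).inv_mem hw)
  rw [mul_inv_cancel, ch_of_comm T H (fun r _ => by simp)] at h1
  exact (CharTwo.add_eq_zero.mp h1.symm).symm

theorem ch_pow {w : G} (hw : w ∈ Y2 u C Q) (k : ℕ) : ch u Q f (w ^ k) = (k : F) * ch u Q f w := by
  induction k with
  | zero => rw [pow_zero, ch_of_comm T H (fun r _ => by simp), Nat.cast_zero, zero_mul]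
  | succ k ih =>
    rw [pow_succ, ch_mul T H ((Y2 u C Q).pow_mem hw k) hw, ih, Nat.cast_add, Nat.cast_one, add_mul, one_mul]

theorem ch_d (l : Fˣ) {w : G} (hw : w ∈ Y2 u C Q) : ch u Q f (d l * w * (d l)⁻¹) = nm σ l * ch u Q f w := by
  obtain ⟨h1, h2⟩ := ch_spec T H hw
  apply ch_eq T H (fix_mul (T.fix_nm l) h1)
  intro r hr
  have h3 : (d l)⁻¹ * r * d l = r := by
    rw [mul_assoc, T.dC r (T.syl.le hr) l]; group
  calc d l * w * (d l)⁻¹ * r * (d l * w * (d l)⁻¹)⁻¹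
      = d l * (w * ((d l)⁻¹ * r * d l) * w⁻¹) * (d l)⁻¹ := by group
    _ = (d l * r * (d l)⁻¹) * (d l * TBase.zz u (ch u Q f w * f r) * (d l)⁻¹) := by rw [h3, h2 r hr]; group
    _ = r * TBase.zz u (nm σ l * ch u Q f w * f r) := by
      rw [T.dQ hr, T.d_zz _ (fix_mul h1 (H.f_fix r hr)), mul_assoc]

/-- `Y₂` acts as all of `F_q` -/
theorem exists_Y2 {c : F} (hc : σ c = c) : ∃ w ∈ Y2 u C Q, ch u Q f w = c := by
  obtain ⟨l, hl, hl1⟩ := Cfsg.Agent.StdU3.Field.exists_fixed_ne T.hS.hq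
  rw [← T.hS.eq] at hl
  have hnm : nm σ l = (l : F) ^ 2 := nm_of_fixed σ hl
  have hnf := T.fix_nm l
  have hne : 1 + nm σ l ≠ 0 := by
    intro h
    apply hl1
    rw [hnm] at h
    have h3 : ((l : F) + 1) ^ 2 = 0 := by
      rw [CharTwo.add_sq, one_pow, add_comm]; exact h
    exact CharTwo.add_eq_zero.mp (pow_eq_zero_iff (two_ne_zero) |>.mp h3)
  have hfx : σ (1 + nm σ l) = 1 + nm σ l := by rw [map_add, map_one, hnf]
  have hc1 : σ ((1 + nm σ l)⁻¹ * c) = (1 + nm σ l)⁻¹ * c := fix_mul (fix_inv hfx) hc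
  obtain ⟨y, hy1, hy2⟩ := exists_of_c T H hc1
  have hyi1 : ∀ s, y⁻¹ * u s = u s * y⁻¹ := fun s => by
    calc y⁻¹ * u s = y⁻¹ * (u s * y) * y⁻¹ := by group
      _ = u s * y⁻¹ := by rw [← hy1]; group
  have hyi2 : ∀ r ∈ Q, y⁻¹ * r * y = r * TBase.zz u ((1 + nm σ l)⁻¹ * c * f r) := by
    intro r hr
    have hff := fix_mul hc1 (H.f_fix r hr)
    have h3 := comm_zz_of hy1 ((1 + nm σ l)⁻¹ * c * f r)
    have h4 : r = y⁻¹ * r * y * TBase.zz u ((1 + nm σ l)⁻¹ * c * f r) := by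
      calc r = y⁻¹ * (y * r * y⁻¹) * y := by group
        _ = y⁻¹ * r * (TBase.zz u ((1 + nm σ l)⁻¹ * c * f r) * y) := by rw [hy2 r hr]; group
        _ = _ := by rw [← h3]; group
    calc y⁻¹ * r * y = y⁻¹ * r * y * (TBase.zz u ((1 + nm σ l)⁻¹ * c * f r) *
          TBase.zz u ((1 + nm σ l)⁻¹ * c * f r)) := by rw [zz_sq hff, mul_one]
      _ = (y⁻¹ * r * y * TBase.zz u ((1 + nm σ l)⁻¹ * c * f r)) * TBase.zz u ((1 + nm σ l)⁻¹ * c * f r) := by group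
      _ = _ := by rw [← h4]
  -- `y⁻¹ o y`
  have hyo : ∀ o, InN C Q o → ∃ o', InN C Q o' ∧ ∃ b, σ b = b ∧ y⁻¹ * o * y = o' * TBase.zz u b := by
    intro o ho
    apply exists_oz T
    · intro s
      calc y⁻¹ * o * y * u s = y⁻¹ * o * (y * u s) := by group
        _ = y⁻¹ * (o * u s) * y := by rw [hy1]; group
        _ = (y⁻¹ * u s) * o * y := by rw [T.uC o ho.1]; group
        _ = u s * (y⁻¹ * o * y) := by rw [hyi1]; group
    · intro r hr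
      have h1 : y * r * y⁻¹ * o = o * (y * r * y⁻¹) := by
        rw [hy2 r hr]
        calc r * TBase.zz u ((1 + nm σ l)⁻¹ * c * f r) * o = r * (TBase.zz u ((1 + nm σ l)⁻¹ * c * f r) * o) := by
              group
          _ = r * o * TBase.zz u ((1 + nm σ l)⁻¹ * c * f r) := by rw [← T.C_zz ho.1]; group
          _ = _ := by rw [← ho.2 r hr]; group
      calc y⁻¹ * o * y * r = y⁻¹ * (o * (y * r * y⁻¹)) * y := by group
        _ = y⁻¹ * (y * r * y⁻¹ * o) * y := by rw [h1]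
        _ = r * (y⁻¹ * o * y) := by group
  -- the commutator
  have key : ∀ o o' b, InN C Q o → InN C Q o' → σ b = b → y⁻¹ * o * y = o' * TBase.zz u b →
      (d l * y * (d l)⁻¹ * y⁻¹) * o * (d l * y * (d l)⁻¹ * y⁻¹)⁻¹ = o * TBase.zz u ((1 + nm σ l) * b) := by
    intro o o' b ho ho' hb h
    have hdo : ∀ x, InN C Q x → (d l)⁻¹ * x * d l = x := fun x hx => by
      rw [mul_assoc, T.dC x hx.1 l]; group
    have hdz : (d l)⁻¹ * TBase.zz u b * d l = TBase.zz u ((nm σ l)⁻¹ * b) := by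
      have h1 := T.d_zz l⁻¹ hb
      rw [map_inv, inv_inv] at h1
      rw [h1]
      congr 2
      exact eq_inv_of_mul_eq_one_left (by rw [← nm_mul, inv_mul_cancel, nm_one])
    have hyo' : y * o' * y⁻¹ = o * TBase.zz u b := by
      have h3 := comm_zz_of hy1 b
      calc y * o' * y⁻¹ = y * (o' * (TBase.zz u b * TBase.zz u b)) * y⁻¹ := by rw [zz_sq hb, mul_one]
        _ = y * (y⁻¹ * o * y) * TBase.zz u b * y⁻¹ := by rw [h]; group
        _ = o * (y * TBase.zz u b) * y⁻¹ := by group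
        _ = o * TBase.zz u b := by rw [h3]; group
    have hb' : σ ((nm σ l)⁻¹ * b) = (nm σ l)⁻¹ * b := fix_mul (fix_inv hnf) hb
    have hyz := comm_zz_of hy1 ((nm σ l)⁻¹ * b)
    have hn0 : nm σ l ≠ 0 := by
      rw [hnm]; exact pow_ne_zero _ l.ne_zero
    calc (d l * y * (d l)⁻¹ * y⁻¹) * o * (d l * y * (d l)⁻¹ * y⁻¹)⁻¹
        = d l * (y * ((d l)⁻¹ * (y⁻¹ * o * y) * d l) * y⁻¹) * (d l)⁻¹ := by group
      _ = d l * (y * (((d l)⁻¹ * o' * d l) * ((d l)⁻¹ * TBase.zz u b * d l)) * y⁻¹) * (d l)⁻¹ := by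
        rw [h]; group
      _ = d l * ((y * o' * y⁻¹) * (y * TBase.zz u ((nm σ l)⁻¹ * b) * y⁻¹)) * (d l)⁻¹ := by
        rw [hdo o' ho', hdz]; group
      _ = d l * (o * TBase.zz u b * TBase.zz u ((nm σ l)⁻¹ * b)) * (d l)⁻¹ := by rw [hyo', hyz]; group
      _ = (d l * o * (d l)⁻¹) * (d l * TBase.zz u b * (d l)⁻¹) * (d l * TBase.zz u ((nm σ l)⁻¹ * b) * (d l)⁻¹) := by
        group
      _ = o * TBase.zz u (nm σ l * b) * TBase.zz u b := by
        rw [T.d_zz _ hb, T.d_zz _ hb', ← mul_assoc (nm σ l), mul_inv_cancel₀ hn0, one_mul]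
        congr 2
        rw [← T.dC o ho.1 l]; group
      _ = o * TBase.zz u ((1 + nm σ l) * b) := by
        rw [mul_assoc, ← zz_add (fix_mul hnf hb) hb]
        congr 2
        ring
  refine ⟨d l * y * (d l)⁻¹ * y⁻¹, ⟨?_, ?_⟩, ?_⟩
  · intro s
    have h1 : (d l)⁻¹ * u s * d l = u (act l⁻¹ s) := by
      have := T.d_u l⁻¹ s
      rw [map_inv, inv_inv] at this
      exact this
    have h2 := hy1 (act l⁻¹ s)
    calc d l * y * (d l)⁻¹ * y⁻¹ * u s = d l * y * (d l)⁻¹ * (y⁻¹ * u s) := by group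
      _ = d l * (y * ((d l)⁻¹ * u s * d l)) * (d l)⁻¹ * y⁻¹ := by rw [hyi1]; group
      _ = d l * (((d l)⁻¹ * u s * d l) * y) * (d l)⁻¹ * y⁻¹ := by rw [h1, h2]
      _ = u s * (d l * y * (d l)⁻¹ * y⁻¹) := by group
  · intro o ho
    obtain ⟨o', ho', b, hb, h⟩ := hyo o ho
    exact ⟨_, fix_mul hfx hb, key o o' b ho ho' hb h⟩
  · apply ch_eq T H hc
    intro r hr
    rw [key r r _ (InN.of_Q T hr) (InN.of_Q T hr) (fix_mul hc1 (H.f_fix r hr)) (hyi2 r hr)]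
    congr 2
    rw [← mul_assoc, ← mul_assoc, mul_inv_cancel₀ hne, one_mul]

end Cfsg.Agent.OddHalf.D4.U3.TOne

end

-- merged: Cfsg.Agent.OddHalf.D4.U3.TTwo
section

/-!
# ODD, D4, row `K = U₃(q)`: PIECE T, `T₁` and `E₁`
-/

set_option autoImplicit false
set_option linter.dupNamespace false
set_option linter.unusedSectionVars false

namespace Cfsg.Agent.OddHalf.D4.U3.TTwo

open Subgroup Cfsg.Agent.LieRecognition Cfsg.Agent.LieRecognition.HermHeis Cfsg.Agent.StdU3.URel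
  Cfsg.Agent.StdU3.Semi Cfsg.Agent.OddHalf.D4.CommConj Cfsg.Agent.OddHalf.D4.Basic
  Cfsg.Agent.OddHalf.D4.U3.TBase Cfsg.Agent.OddHalf.D4.U3.TLam Cfsg.Agent.OddHalf.D4.U3.TOne

universe u v

/-- in a finite nilpotent group products of 2-elements are 2-elements -/
theorem two_mul_of_nilpotent {X : Type*} [Group X] [Finite X] (h : Group.IsNilpotent X) {x y : X}
    (hx : ∃ k : ℕ, x ^ 2 ^ k = 1) (hy : ∃ k : ℕ, y ^ 2 ^ k = 1) : ∃ k : ℕ, (x * y) ^ 2 ^ k = 1 := by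
  have : Fact (Nat.Prime 2) := ⟨Nat.prime_two⟩
  obtain ⟨k, hk⟩ := hx
  obtain ⟨j, hj⟩ := hy
  obtain ⟨P, hP⟩ := (two_zpowers hk).exists_le_sylow
  obtain ⟨P', hP'⟩ := (two_zpowers hj).exists_le_sylow
  have hn : (P : Subgroup X).Normal := (Group.isNilpotent_of_finite_tfae.out 0 3 rfl rfl).mp h 2 inferInstance P
  have hu := Sylow.unique_of_normal P hn
  have hPP : P' = P := Subsingleton.elim _ _
  have h1 : x ∈ (P : Subgroup X) := hP (mem_zpowers x)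
  have h2 : y ∈ (P : Subgroup X) := by rw [← hPP]; exact hP' (mem_zpowers y)
  obtain ⟨i, hi⟩ := P.2 ⟨x * y, mul_mem h1 h2⟩
  exact ⟨i, congrArg Subtype.val hi⟩

variable {G : Type u} [Group G] {F : Type v} [Field F] [Fintype F] [CharP F 2] {σ : F →+* F}
  [hσ : Fact (∀ x, σ (σ x) = x)] {n : ℕ} {u : Heis σ →* G} {d : Fˣ →* G} {K C M Q : Subgroup G}

/-- a 2-power times an odd number -/
theorem exists_odd_pow [Finite G] (x : G) : ∃ a m : ℕ, Odd m ∧ (x ^ m) ^ 2 ^ a = 1 := by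
  obtain ⟨a, m, hm, h⟩ := Nat.exists_eq_two_pow_mul_odd (n := orderOf x) (orderOf_pos x).ne'
  refine ⟨a, m, hm, ?_⟩
  rw [← pow_mul, mul_comm, ← h, pow_orderOf_eq_one]

variable (T : TD u d K C M Q n) {g : G} {f : G → F} (H : TG u M Q g f)
include T H

theorem pow_four [Finite G] {w : G} (hw : w ∈ Y2 u C Q) {y : G} (hy : y ∈ Y2 u C Q) : w ^ 4 * y = y * w ^ 4 := by
  have h1 : ch u Q f (w ^ 2) = 0 := by
    rw [ch_pow T H hw, Nat.cast_ofNat, CharTwo.two_eq_zero, zero_mul]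
  have h2 : w ^ 2 ∈ Y2 u C Q := (Y2 u C Q).pow_mem hw 2
  obtain ⟨o, ho, -, b, hb, h3⟩ := Y2.ker T h2 (comm_of_ch T H h2 h1)
  have h4 : Commute o (zz u b) := T.C_zz ho.1 b
  have h5 : w ^ 4 = o ^ 2 := by
    calc w ^ 4 = (w ^ 2) ^ 2 := by rw [← pow_mul]
      _ = o ^ 2 := by rw [h3, h4.mul_pow, pow_two (zz u b), zz_sq hb, mul_one]
  obtain ⟨a, m, hm, h6⟩ := exists_odd_pow o
  have h7 := T.sq _ ((ho.pow m).mem_Q T h6)
  rw [h5]
  symm
  apply Y2.odd T hy (ho.pow 2) hm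
  rw [← pow_mul, mul_comm, pow_mul, pow_two]
  exact h7

theorem nilp [Finite G] : Group.IsNilpotent ↥(Y2 u C Q) := by
  have : Fact (Nat.Prime 2) := ⟨Nat.prime_two⟩
  apply Group.of_quotient_center_nilpotent
  apply IsPGroup.isNilpotent (p := 2)
  intro x
  obtain ⟨w, rfl⟩ := QuotientGroup.mk_surjective x
  refine ⟨2, ?_⟩
  rw [← QuotientGroup.mk_pow, QuotientGroup.eq_one_iff, Subgroup.mem_center_iff]
  intro y
  apply Subtype.ext
  exact (pow_four T H w.2 y.2).symm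

/-- `T₁`, the Sylow 2-subgroup of `Y₂` -/
def T1 [Finite G] : Subgroup G where
  carrier := {w | w ∈ Y2 u C Q ∧ ∃ k : ℕ, w ^ 2 ^ k = 1}
  one_mem' := ⟨one_mem _, 0, one_pow _⟩
  mul_mem' := by
    rintro x y ⟨hx, i, hi⟩ ⟨hy, j, hj⟩
    refine ⟨mul_mem hx hy, ?_⟩
    obtain ⟨k, hk⟩ := two_mul_of_nilpotent (nilp T H) (x := ⟨x, hx⟩) (y := ⟨y, hy⟩) ⟨i, Subtype.ext hi⟩
      ⟨j, Subtype.ext hj⟩
    exact ⟨k, congrArg Subtype.val hk⟩
  inv_mem' := by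
    rintro x ⟨hx, i, hi⟩
    exact ⟨inv_mem hx, i, by rw [inv_pow, hi, inv_one]⟩

theorem mem_T1 [Finite G] {w : G} : w ∈ T1 T H ↔ w ∈ Y2 u C Q ∧ ∃ k : ℕ, w ^ 2 ^ k = 1 := Iff.rfl

theorem T1_le [Finite G] : T1 T H ≤ Y2 u C Q := fun _ h => h.1

theorem T1_two [Finite G] : IsPGroup 2 ↥(T1 T H) := fun x => by
  obtain ⟨-, k, hk⟩ := x.2
  exact ⟨k, Subtype.ext hk⟩

theorem zz_T1 [Finite G] (b : F) : zz u b ∈ T1 T H := by
  obtain ⟨b', hb', h⟩ := exists_fix u b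
  rw [h]
  exact ⟨zz_Y2 T b', 1, by rw [pow_one, pow_two, zz_sq hb']⟩

theorem Q_T1 [Finite G] {r : G} (hr : r ∈ Q) : r ∈ T1 T H :=
  ⟨Q_Y2 T hr, 1, by rw [pow_one, pow_two, T.sq r hr]⟩

theorem conj_T1 [Finite G] {x : G} (hx : ∀ w ∈ Y2 u C Q, x * w * x⁻¹ ∈ Y2 u C Q) {w : G} (hw : w ∈ T1 T H) :
    x * w * x⁻¹ ∈ T1 T H := by
  obtain ⟨h1, k, hk⟩ := hw
  exact ⟨hx w h1, k, by rw [conj_pow, hk]; group⟩

theorem d_T1 [Finite G] (l : Fˣ) {w : G} (hw : w ∈ T1 T H) : d l * w * (d l)⁻¹ ∈ T1 T H :=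
  conj_T1 T H (fun _ h => d_Y2 T l h) hw

/-- `T₁` acts as all of `F_q` -/
theorem exists_T1 [Finite G] {c : F} (hc : σ c = c) : ∃ t ∈ T1 T H, ch u Q f t = c := by
  obtain ⟨w, hw, h⟩ := exists_Y2 T H hc
  obtain ⟨a, m, hm, h1⟩ := exists_odd_pow w
  refine ⟨w ^ m, ⟨pow_mem hw m, a, h1⟩, ?_⟩
  obtain ⟨j, rfl⟩ := hm
  rw [ch_pow T H hw, h, Nat.cast_add, Nat.cast_mul, Nat.cast_ofNat, CharTwo.two_eq_zero, zero_mul, zero_add,
    Nat.cast_one, one_mul]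

/-- the kernel of `ch` on `T₁` is `V = Q Z` -/
theorem T1_ker [Finite G] {t : G} (ht : t ∈ T1 T H) (h : ch u Q f t = 0) :
    ∃ r ∈ Q, ∃ b, σ b = b ∧ t = r * zz u b := by
  obtain ⟨o, ho, -, b, hb, rfl⟩ := Y2.ker T ht.1 (comm_of_ch T H ht.1 h)
  have h4 : Commute o (zz u b) := T.C_zz ho.1 b
  obtain ⟨k, hk⟩ := ht.2
  refine ⟨o, ?_, b, hb, rfl⟩
  apply ho.mem_Q T (k := k + 1)
  rw [h4.mul_pow] at hk
  have h5 : zz u b ^ 2 ^ k * zz u b ^ 2 ^ k = 1 := by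
    rw [← pow_two, ← pow_mul, mul_comm, pow_mul, pow_two, zz_sq hb, one_pow]
  calc o ^ 2 ^ (k + 1) = o ^ 2 ^ k * o ^ 2 ^ k := by rw [pow_succ, pow_mul, pow_two]
    _ = o ^ 2 ^ k * o ^ 2 ^ k * (zz u b ^ 2 ^ k * zz u b ^ 2 ^ k) := by rw [h5, mul_one]
    _ = (o ^ 2 ^ k * zz u b ^ 2 ^ k) * (o ^ 2 ^ k * zz u b ^ 2 ^ k) := by
      have h6 := (h4.pow_pow (2 ^ k) (2 ^ k)).eq
      generalize o ^ 2 ^ k = x at h6 ⊢
      generalize zz u b ^ 2 ^ k = y at h6 ⊢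
      calc x * x * (y * y) = x * (x * y) * y := by group
        _ = x * (y * x) * y := by rw [h6]
        _ = _ := by group
    _ = 1 := by rw [hk, mul_one]

/-- squares in `T₁` -/
theorem T1_sq [Finite G] {t : G} (ht : t ∈ T1 T H) : ∃ b, σ b = b ∧ t * t = zz u b := by
  have h1 : ch u Q f (t * t) = 0 := by rw [ch_mul T H ht.1 ht.1]; exact CharTwo.add_self_eq_zero _
  obtain ⟨r, hr, b, hb, h2⟩ := T1_ker T H (mul_mem ht ht) h1
  by_cases hr1 : r = 1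
  · exact ⟨b, hb, by rw [h2, hr1, one_mul]⟩
  · -- `t` commutes with `r`
    have h3 : t * r = r * t := by
      have h4 := Y2.zz ht.1 b
      have h5 : r = t * t * zz u b := by rw [h2, mul_assoc, zz_sq hb, mul_one]
      rw [h5]
      calc t * (t * t * zz u b) = t * t * (t * zz u b) := by group
        _ = t * t * zz u b * t := by rw [h4]; group
    obtain ⟨-, h4⟩ := keyA T (Y2.onQ T ht.1) hr hr1 h3
    obtain ⟨r', hr', b', hb', rfl⟩ := T1_ker T H ht (ch_of_comm T H h4)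
    refine ⟨0, fix_zero, ?_⟩
    rw [zz_zero]
    calc r' * zz u b' * (r' * zz u b') = r' * (zz u b' * r') * zz u b' := by group
      _ = (r' * r') * (zz u b' * zz u b') := by rw [← T.Q_zz hr']; group
      _ = 1 := by rw [T.sq r' hr', zz_sq hb', mul_one]

/-- commutators in `T₁` -/
theorem T1_comm [Finite G] {s t : G} (hs : s ∈ T1 T H) (ht : t ∈ T1 T H) :
    ∃ b, σ b = b ∧ s * t = t * s * zz u b := by
  obtain ⟨b₁, hb₁, h1⟩ := T1_sq T H hs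
  obtain ⟨b₂, hb₂, h2⟩ := T1_sq T H ht
  obtain ⟨b₃, hb₃, h3⟩ := T1_sq T H (mul_mem hs ht)
  refine ⟨b₁ + b₂ + b₃, fix_add (fix_add hb₁ hb₂) hb₃, ?_⟩
  rw [zz_add (fix_add hb₁ hb₂) hb₃, zz_add hb₁ hb₂]
  have e1 : s = s⁻¹ * zz u b₁ := by rw [← h1]; group
  have e2 : t = t⁻¹ * zz u b₂ := by rw [← h2]; group
  have c1 := Y2.zz ((Y2 u C Q).inv_mem hs.1) b₂
  have c2 := fun b => Y2.zz ((Y2 u C Q).inv_mem ht.1) b
  -- `t s = t⁻¹ s⁻¹ z z`
  have h4 : t * s = t⁻¹ * s⁻¹ * (zz u b₁ * zz u b₂) := by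
    calc t * s = (t⁻¹ * zz u b₂) * (s⁻¹ * zz u b₁) := by rw [← e1, ← e2]
      _ = t⁻¹ * (zz u b₂ * s⁻¹) * zz u b₁ := by group
      _ = t⁻¹ * s⁻¹ * (zz u b₂ * zz u b₁) := by rw [← c1]; group
      _ = _ := by rw [zz_comm b₁ b₂]
  rw [h4]
  calc s * t = (t⁻¹ * s⁻¹) * (s * t * (s * t)) := by group
    _ = (t⁻¹ * s⁻¹) * zz u b₃ := by rw [h3]
    _ = t⁻¹ * s⁻¹ * ((zz u b₁ * zz u b₁) * (zz u b₂ * zz u b₂)) * zz u b₃ := by
      rw [zz_sq hb₁, zz_sq hb₂, mul_one, mul_one]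
    _ = t⁻¹ * s⁻¹ * (zz u b₁ * zz u b₂) * (zz u b₁ * zz u b₂ * zz u b₃) := by
      calc t⁻¹ * s⁻¹ * ((zz u b₁ * zz u b₁) * (zz u b₂ * zz u b₂)) * zz u b₃
          = t⁻¹ * s⁻¹ * (zz u b₁ * (zz u b₁ * zz u b₂) * zz u b₂) * zz u b₃ := by group
        _ = t⁻¹ * s⁻¹ * (zz u b₁ * (zz u b₂ * zz u b₁) * zz u b₂) * zz u b₃ := by rw [zz_comm b₂ b₁]
        _ = _ := by group

end Cfsg.Agent.OddHalf.D4.U3.TTwo

end

-- merged: Cfsg.Agent.OddHalf.D4.U3.TThree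
section

/-!
# ODD, D4, row `K = U₃(q)`: PIECE T, `E₁`
-/

set_option autoImplicit false
set_option linter.dupNamespace false
set_option linter.unusedSectionVars false

namespace Cfsg.Agent.OddHalf.D4.U3.TThree

open Subgroup Cfsg.Agent.LieRecognition Cfsg.Agent.LieRecognition.HermHeis Cfsg.Agent.StdU3.URel
  Cfsg.Agent.StdU3.Semi Cfsg.Agent.OddHalf.D4.CommConj Cfsg.Agent.OddHalf.D4.Basic
  Cfsg.Agent.OddHalf.D4.U3.TBase Cfsg.Agent.OddHalf.D4.U3.TLam Cfsg.Agent.OddHalf.D4.U3.TOne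
  Cfsg.Agent.OddHalf.D4.U3.TTwo

universe u v

variable {G : Type u} [Group G] {F : Type v} [Field F] [Fintype F] [CharP F 2] {σ : F →+* F}
  [hσ : Fact (∀ x, σ (σ x) = x)] {n : ℕ} {u : Heis σ →* G} {d : Fˣ →* G} {K C M Q : Subgroup G}

section

variable (T : TD u d K C M Q n) {g : G} {f : G → F} (H : TG u M Q g f)
include T H

theorem ch_zz (b : F) : ch u Q f (zz u b) = 0 :=
  ch_of_comm T H (fun _ hr => (T.Q_zz hr b).symm)

theorem T1_zz [Finite G] {t : G} (ht : t ∈ T1 T H) (b : F) : t * zz u b = zz u b * t := Y2.zz ht.1 b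

/-- the commutator `[d l, t]` -/
theorem cd_T1 [Finite G] (l : Fˣ) {t : G} (ht : t ∈ T1 T H) : d l * t * (d l)⁻¹ * t⁻¹ ∈ T1 T H :=
  mul_mem (d_T1 T H l ht) (inv_mem ht)

theorem ch_cd [Finite G] (l : Fˣ) {t : G} (ht : t ∈ T1 T H) :
    ch u Q f (d l * t * (d l)⁻¹ * t⁻¹) = (nm σ l + 1) * ch u Q f t := by
  rw [ch_mul T H (d_T1 T H l ht).1 (inv_mem ht).1, ch_inv T H ht.1, ch_d T H l ht.1, add_mul, one_mul]

theorem cd_mul [Finite G] (l : Fˣ) {t t' : G} (ht : t ∈ T1 T H) (ht' : t' ∈ T1 T H) :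
    ∃ b, σ b = b ∧ (d l * t * (d l)⁻¹ * t⁻¹) * (d l * t' * (d l)⁻¹ * t'⁻¹) =
      d l * (t * t') * (d l)⁻¹ * (t * t')⁻¹ * zz u b := by
  obtain ⟨b, hb, h⟩ := T1_comm T H ht (cd_T1 T H l ht')
  refine ⟨b, hb, ?_⟩
  have h1 : d l * (t * t') * (d l)⁻¹ * (t * t')⁻¹ =
      (d l * t * (d l)⁻¹ * t⁻¹) * (t * (d l * t' * (d l)⁻¹ * t'⁻¹)) * t⁻¹ := by group
  have h2 := T1_zz T H (inv_mem ht) b
  rw [h1, h]
  calc (d l * t * (d l)⁻¹ * t⁻¹) * (d l * t' * (d l)⁻¹ * t'⁻¹)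
      = (d l * t * (d l)⁻¹ * t⁻¹) * (d l * t' * (d l)⁻¹ * t'⁻¹) * (zz u b * zz u b) := by rw [zz_sq hb, mul_one]
    _ = (d l * t * (d l)⁻¹ * t⁻¹) * (d l * t' * (d l)⁻¹ * t'⁻¹ * t) * (t⁻¹ * zz u b) * zz u b := by group
    _ = (d l * t * (d l)⁻¹ * t⁻¹) * (d l * t' * (d l)⁻¹ * t'⁻¹ * t) * (zz u b * t⁻¹) * zz u b := by rw [h2]
    _ = _ := by group

theorem inv_eq_zz [Finite G] {t : G} (ht : t ∈ T1 T H) : ∃ b, σ b = b ∧ t⁻¹ = t * zz u b := by
  obtain ⟨b, hb, h⟩ := T1_sq T H ht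
  refine ⟨b, hb, ?_⟩
  calc t⁻¹ = t⁻¹ * (t * t * (t * t)⁻¹) := by group
    _ = t * (zz u b)⁻¹ := by rw [h]; nth_rewrite 1 [← h]; group
    _ = t * zz u b := by rw [zz_inv hb]

/-- `E₁ = [h₀, T₁] Z` -/
def E1 [Finite G] (l : Fˣ) : Subgroup G where
  carrier := {e | ∃ t ∈ T1 T H, ∃ b, σ b = b ∧ e = d l * t * (d l)⁻¹ * t⁻¹ * zz u b}
  one_mem' := ⟨1, one_mem _, 0, fix_zero, by rw [zz_zero]; group⟩
  mul_mem' := by
    rintro _ _ ⟨t, ht, b, hb, rfl⟩ ⟨t', ht', b', hb', rfl⟩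
    obtain ⟨b'', hb'', h⟩ := cd_mul T H l ht ht'
    refine ⟨t * t', mul_mem ht ht', b'' + (b + b'), fix_add hb'' (fix_add hb hb'), ?_⟩
    rw [zz_add hb'' (fix_add hb hb'), zz_add hb hb']
    have h1 := T1_zz T H (cd_T1 T H l ht') b
    calc d l * t * (d l)⁻¹ * t⁻¹ * zz u b * (d l * t' * (d l)⁻¹ * t'⁻¹ * zz u b')
        = d l * t * (d l)⁻¹ * t⁻¹ * (zz u b * (d l * t' * (d l)⁻¹ * t'⁻¹)) * zz u b' := by group
      _ = ((d l * t * (d l)⁻¹ * t⁻¹) * (d l * t' * (d l)⁻¹ * t'⁻¹)) * (zz u b * zz u b') := by rw [← h1]; group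
      _ = _ := by rw [h, mul_assoc]
  inv_mem' := by
    rintro _ ⟨t, ht, b, hb, rfl⟩
    obtain ⟨b', hb', h⟩ := inv_eq_zz T H (cd_T1 T H l ht)
    refine ⟨t, ht, b' + b, fix_add hb' hb, ?_⟩
    have h1 := T1_zz T H (cd_T1 T H l ht) b
    rw [zz_add hb' hb, mul_inv_rev, h, zz_inv hb, ← mul_assoc, ← h1, mul_assoc, zz_comm b' b]

theorem mem_E1 [Finite G] {l : Fˣ} {e : G} :
    e ∈ E1 T H l ↔ ∃ t ∈ T1 T H, ∃ b, σ b = b ∧ e = d l * t * (d l)⁻¹ * t⁻¹ * zz u b := Iff.rfl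

theorem zz_E1 [Finite G] (l : Fˣ) (b : F) : zz u b ∈ E1 T H l := by
  obtain ⟨b', hb', h⟩ := exists_fix u b
  exact ⟨1, one_mem _, b', hb', by rw [h]; group⟩

theorem cd_E1 [Finite G] (l : Fˣ) {t : G} (ht : t ∈ T1 T H) : d l * t * (d l)⁻¹ * t⁻¹ ∈ E1 T H l :=
  ⟨t, ht, 0, fix_zero, by rw [zz_zero, mul_one]⟩

theorem E1_le [Finite G] (l : Fˣ) : E1 T H l ≤ T1 T H := by
  rintro _ ⟨t, ht, b, hb, rfl⟩
  exact mul_mem (cd_T1 T H l ht) (zz_T1 T H b)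

theorem E1_surj [Finite G] {l : Fˣ} (hl : nm σ l + 1 ≠ 0) {c : F} (hc : σ c = c) :
    ∃ e ∈ E1 T H l, ch u Q f e = c := by
  have h1 : σ ((nm σ l + 1)⁻¹ * c) = (nm σ l + 1)⁻¹ * c :=
    fix_mul (fix_inv (by rw [map_add, T.fix_nm, map_one])) hc
  obtain ⟨t, ht, h⟩ := exists_T1 T H h1
  refine ⟨_, cd_E1 T H l ht, ?_⟩
  rw [ch_cd T H l ht, h, ← mul_assoc, mul_inv_cancel₀ hl, one_mul]

theorem E1_ker [Finite G] {l : Fˣ} (hl : nm σ l + 1 ≠ 0) {e : G} (he : e ∈ E1 T H l) (h : ch u Q f e = 0) :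
    ∃ b, σ b = b ∧ e = zz u b := by
  obtain ⟨t, ht, b, hb, rfl⟩ := he
  rw [ch_mul T H (cd_T1 T H l ht).1 (zz_T1 T H b).1, ch_zz T H, add_zero, ch_cd T H l ht] at h
  obtain ⟨r, hr, b', hb', rfl⟩ := T1_ker T H ht ((mul_eq_zero.mp h).resolve_left hl)
  refine ⟨nm σ l * b' + b' + b, fix_add (fix_add (fix_mul (T.fix_nm l) hb') hb') hb, ?_⟩
  rw [zz_add (fix_add (fix_mul (T.fix_nm l) hb') hb') hb, zz_add (fix_mul (T.fix_nm l) hb') hb']
  calc d l * (r * zz u b') * (d l)⁻¹ * (r * zz u b')⁻¹ * zz u b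
      = (d l * r * (d l)⁻¹) * (d l * zz u b' * (d l)⁻¹) * (zz u b')⁻¹ * r⁻¹ * zz u b := by group
    _ = r * (zz u (nm σ l * b') * zz u b') * r⁻¹ * zz u b := by
      rw [T.dQ hr, T.d_zz _ hb', zz_inv hb']; group
    _ = zz u (nm σ l * b') * zz u b' * zz u b := by
      rw [← zz_add (fix_mul (T.fix_nm l) hb') hb', T.Q_zz hr]; group

theorem T1_dec [Finite G] {l : Fˣ} (hl : nm σ l + 1 ≠ 0) {t : G} (ht : t ∈ T1 T H) :
    ∃ e ∈ E1 T H l, ∃ r ∈ Q, t = e * r := by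
  obtain ⟨e, he, h⟩ := E1_surj T H hl (ch_spec T H ht.1).1
  have he' := E1_le T H l he
  have h1 : ch u Q f (e⁻¹ * t) = 0 := by
    rw [ch_mul T H (inv_mem he').1 ht.1, ch_inv T H he'.1, h]; exact CharTwo.add_self_eq_zero _
  obtain ⟨r, hr, b, hb, h2⟩ := T1_ker T H (mul_mem (inv_mem he') ht) h1
  refine ⟨e * zz u b, mul_mem he (zz_E1 T H l b), r, hr, ?_⟩
  calc t = e * (e⁻¹ * t) := by group
    _ = e * (r * zz u b) := by rw [h2]
    _ = e * zz u b * r := by rw [T.Q_zz hr]; group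

theorem d_E1 [Finite G] (l l' : Fˣ) {e : G} (he : e ∈ E1 T H l) : d l' * e * (d l')⁻¹ ∈ E1 T H l := by
  obtain ⟨t, ht, b, hb, rfl⟩ := he
  refine ⟨d l' * t * (d l')⁻¹, d_T1 T H l' ht, nm σ l' * b, fix_mul (T.fix_nm l') hb, ?_⟩
  have h1 : d l' * d l = d l * d l' := by rw [← map_mul, ← map_mul, mul_comm]
  have h2 : (d l)⁻¹ * (d l')⁻¹ = (d l')⁻¹ * (d l)⁻¹ := by rw [← mul_inv_rev, ← mul_inv_rev, h1]
  rw [← T.d_zz _ hb]
  calc d l' * (d l * t * (d l)⁻¹ * t⁻¹ * zz u b) * (d l')⁻¹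
      = (d l' * d l) * t * ((d l)⁻¹ * (d l')⁻¹) * (d l' * t⁻¹ * (d l')⁻¹) * (d l' * zz u b * (d l')⁻¹) := by group
    _ = _ := by rw [h1, h2]; group

/-- the squares in `E₁` -/
theorem exists_kap [Finite G] {l : Fˣ} (hl : nm σ l + 1 ≠ 0) :
    ∃ kap, σ kap = kap ∧ ∀ e ∈ E1 T H l, e * e = zz u (kap * ch u Q f e) := by
  obtain ⟨e₁, he₁, h1⟩ := E1_surj T H hl (c := 1) fix_one
  obtain ⟨kap, hk, h2⟩ := T1_sq T H (E1_le T H l he₁)
  refine ⟨kap, hk, ?_⟩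
  intro e he
  have he' := E1_le T H l he
  have hc := (ch_spec T H he'.1).1
  by_cases h0 : ch u Q f e = 0
  · obtain ⟨b, hb, rfl⟩ := E1_ker T H hl he h0
    rw [h0, mul_zero, zz_zero, zz_sq hb]
  · obtain ⟨m, hm⟩ := Cfsg.Agent.StdU3.Field.exists_norm T.hS.hq (b := ch u Q f e) (by rw [← T.hS.eq, hc])
    have hm0 : m ≠ 0 := by
      rintro rfl
      rw [Cfsg.Agent.StdU3.Field.N_zero] at hm
      exact h0 hm.symm
    set k : Fˣ := Units.mk0 m hm0 with hkdef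
    have hnm : nm σ k = ch u Q f e := by
      unfold nm
      rw [hkdef, Units.val_mk0, T.hS.eq]
      exact hm
    have h3 : ch u Q f (e * (d k * e₁ * (d k)⁻¹)) = 0 := by
      rw [ch_mul T H he'.1 (d_T1 T H k (E1_le T H l he₁)).1, ch_d T H k (E1_le T H l he₁).1, h1, mul_one, hnm]
      exact CharTwo.add_self_eq_zero _
    obtain ⟨b, hb, h4⟩ := E1_ker T H hl (mul_mem he (d_E1 T H l k he₁)) h3
    have h5 : e = zz u b * (d k * e₁ * (d k)⁻¹)⁻¹ := by rw [← h4]; group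
    have h6 : (d k * e₁ * (d k)⁻¹) * (d k * e₁ * (d k)⁻¹) = zz u (nm σ k * kap) := by
      rw [← T.d_zz _ hk, ← h2]; group
    have h7 := T1_zz T H (inv_mem (d_T1 T H k (E1_le T H l he₁))) b
    calc e * e = zz u b * ((d k * e₁ * (d k)⁻¹)⁻¹ * zz u b) * (d k * e₁ * (d k)⁻¹)⁻¹ := by
          nth_rewrite 1 [h5]; nth_rewrite 1 [h5]; group
      _ = (zz u b * zz u b) * ((d k * e₁ * (d k)⁻¹) * (d k * e₁ * (d k)⁻¹))⁻¹ := by rw [h7]; group
      _ = zz u (kap * ch u Q f e) := by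
        rw [zz_sq hb, one_mul, h6, zz_inv (fix_mul (T.fix_nm k) hk), hnm, mul_comm]

theorem E1_comm [Finite G] {l : Fˣ} (hl : nm σ l + 1 ≠ 0) {e e' : G} (he : e ∈ E1 T H l) (he' : e' ∈ E1 T H l) :
    e * e' = e' * e := by
  obtain ⟨kap, hk, h⟩ := exists_kap T H hl
  have h1 := (E1_le T H l he).1
  have h2 := (E1_le T H l he').1
  have c1 := (ch_spec T H h1).1
  have c2 := (ch_spec T H h2).1
  have h3 := h (e * e') (mul_mem he he')
  rw [ch_mul T H h1 h2, mul_add, zz_add (fix_mul hk c1) (fix_mul hk c2), ← h e he, ← h e' he'] at h3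
  have h4 : e * (e' * e) * e' = e * (e * e') * e' := by
    calc e * (e' * e) * e' = e * e' * (e * e') := by group
      _ = e * e * (e' * e') := h3
      _ = _ := by group
  exact (mul_left_cancel (mul_right_cancel h4)).symm

/-- `H₀` centralizes `T₁` -/
theorem d_comm [Finite G] {k : Fˣ} (hk : nm σ k = 1) {t : G} (ht : t ∈ T1 T H) : d k * t = t * d k := by
  -- first for squares
  have key : ∀ k : Fˣ, nm σ k = 1 → d (k * k) * t * (d (k * k))⁻¹ = t := by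
    intro k hk
    have h1 : ch u Q f (d k * t * (d k)⁻¹ * t⁻¹) = 0 := by
      rw [ch_cd T H k ht, hk, one_add_one_eq_two, CharTwo.two_eq_zero, zero_mul]
    obtain ⟨r, hr, b, hb, h2⟩ := T1_ker T H (cd_T1 T H k ht) h1
    have h3 : d k * t * (d k)⁻¹ = r * zz u b * t := by rw [← h2]; group
    have h4 : d k * (r * zz u b) * (d k)⁻¹ = r * zz u b := by
      calc d k * (r * zz u b) * (d k)⁻¹ = (d k * r * (d k)⁻¹) * (d k * zz u b * (d k)⁻¹) := by group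
        _ = r * zz u b := by rw [T.dQ hr, T.d_zz _ hb, hk, one_mul]
    have h5 : (r * zz u b) * (r * zz u b) = 1 := by
      calc (r * zz u b) * (r * zz u b) = r * (zz u b * r) * zz u b := by group
        _ = (r * r) * (zz u b * zz u b) := by rw [← T.Q_zz hr]; group
        _ = 1 := by rw [T.sq r hr, zz_sq hb, mul_one]
    calc d (k * k) * t * (d (k * k))⁻¹ = d k * (d k * t * (d k)⁻¹) * (d k)⁻¹ := by rw [map_mul]; group
      _ = d k * (r * zz u b * t) * (d k)⁻¹ := by rw [h3]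
      _ = (d k * (r * zz u b) * (d k)⁻¹) * (d k * t * (d k)⁻¹) := by group
      _ = (r * zz u b) * (r * zz u b) * t := by rw [h4, h3]; group
      _ = t := by rw [h5, one_mul]
  -- every `k` is a square
  obtain ⟨j, hj⟩ : ∃ j : ℕ, k = k ^ j * k ^ j := by
    obtain ⟨i, hi⟩ : ∃ i, Fintype.card F = i + i := by
      obtain ⟨m, rfl⟩ : ∃ m, n = m + 1 := ⟨n - 1, by have := T.hS.hq.hn; omega⟩
      refine ⟨2 ^ (m + 1) * 2 ^ m, ?_⟩
      rw [T.hS.hq.hK, pow_two]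
      nth_rewrite 2 [pow_succ]
      ring
    refine ⟨i, ?_⟩
    apply Units.ext
    rw [← pow_add, ← hi, Units.val_pow_eq_pow_val, FiniteField.pow_card]
  have hkj : nm σ (k ^ j) = 1 := by
    clear hj
    induction j with
    | zero => rw [pow_zero, nm_one]
    | succ i ih => rw [pow_succ, nm_mul, ih, hk, one_mul]
  have h2 := key (k ^ j) hkj
  rw [← hj, mul_inv_eq_iff_eq_mul] at h2
  exact h2

end

end Cfsg.Agent.OddHalf.D4.U3.TThree

end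

-- merged: Cfsg.Agent.OddHalf.D4.U3.TEnd
section

/-!
# ODD, D4, row `K = U₃(q)`: the end of PIECE T

`exists_tout`: a commuting pair gives the structure `MkDefs.TOut`.
-/

set_option autoImplicit false
set_option linter.dupNamespace false
set_option linter.unusedSectionVars false

namespace Cfsg.Agent.OddHalf.D4.U3.TEnd

open Subgroup Cfsg.Agent.LieRecognition Cfsg.Agent.LieRecognition.HermHeis Cfsg.Agent.StdU3.URel
  Cfsg.Agent.StdU3.Semi Cfsg.Agent.OddHalf.D4.CommConj Cfsg.Agent.OddHalf.D4.Basic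
  Cfsg.Agent.OddHalf.D4.U3.TBase Cfsg.Agent.OddHalf.D4.U3.TLam Cfsg.Agent.OddHalf.D4.U3.TOne
  Cfsg.Agent.OddHalf.D4.U3.TTwo Cfsg.Agent.OddHalf.D4.U3.TThree Cfsg.Agent.OddHalf.D4.U3.ParDefs

universe u v

variable {G : Type u} [Group G] {F : Type v} [Field F] [Fintype F] [CharP F 2] {σ : F →+* F}
  [hσ : Fact (∀ x, σ (σ x) = x)] {n : ℕ}

section

variable {u : Heis σ →* G} {d : Fˣ →* G} {K C M Q : Subgroup G} (T : TD u d K C M Q n) {g : G} {f : G → F}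
  (H : TG u M Q g f)
include T H

/-- the 2-elements `y` of `C(S)` with `[y, Q] ≤ Z` -/
theorem mem_of [Finite G] {y : G} (hk : ∃ k : ℕ, y ^ 2 ^ k = 1) (hy : ∀ s, y * u s = u s * y)
    (hQ : ∀ r ∈ Q, ∃ b, σ b = b ∧ y * r * y⁻¹ = r * zz u b) : y ∈ T1 T H := by
  obtain ⟨c, hc, h1⟩ := lemC T H hy hQ
  obtain ⟨t, ht, h2⟩ := exists_T1 T H hc
  obtain ⟨h3, h4⟩ := ch_spec T H ht.1
  rw [h2] at h4
  -- `t⁻¹ y` centralizes `Q`
  have hti : ∀ r ∈ Q, t⁻¹ * (r * zz u (c * f r)) * t = r := by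
    intro r hr
    rw [← h4 r hr]; group
  obtain ⟨o, ho, b, hb, h5⟩ := exists_oz T (y := t⁻¹ * y) (fun s => by
      have h6 := Y2.cu (inv_mem ht.1) s
      calc t⁻¹ * y * u s = t⁻¹ * (y * u s) := by group
        _ = t⁻¹ * u s * y := by rw [hy]; group
        _ = u s * (t⁻¹ * y) := by rw [h6]; group)
    (fun r hr => by
      have h6 : t⁻¹ * y * r * (t⁻¹ * y)⁻¹ = r := by
        calc t⁻¹ * y * r * (t⁻¹ * y)⁻¹ = t⁻¹ * (y * r * y⁻¹) * t := by group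
          _ = r := by rw [h1 r hr, hti r hr]
      rwa [mul_inv_eq_iff_eq_mul] at h6)
  have hyt : y * zz u b = t * o := by
    calc y * zz u b = t * (t⁻¹ * y) * zz u b := by group
      _ = t * o * (zz u b * zz u b) := by rw [h5]; group
      _ = t * o := by rw [zz_sq hb, mul_one]
  obtain ⟨β, hβ, h6⟩ := ht.1.2 o ho
  obtain ⟨γ, hγ, h7⟩ := T1_sq T H ht
  have h8 : t * o = o * zz u β * t := by rw [← h6]; group
  have h9 : (y * zz u b) * (y * zz u b) = o * o * (zz u β * zz u γ) := by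
    calc (y * zz u b) * (y * zz u b) = (t * o) * (t * o) := by rw [hyt]
      _ = o * zz u β * (t * t) * o := by nth_rewrite 1 [h8]; group
      _ = o * zz u β * (zz u γ * o) := by rw [h7]; group
      _ = o * zz u β * (o * zz u γ) := by rw [← T.C_zz ho.1 γ]
      _ = o * (zz u β * o) * zz u γ := by group
      _ = o * (o * zz u β) * zz u γ := by rw [← T.C_zz ho.1 β]
      _ = _ := by group
  have h10 : (y * zz u b) ^ 4 = o ^ 4 := by
    have e1 : zz u β * zz u γ = zz u (β + γ) := (zz_add hβ hγ).symm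
    have e2 : Commute (o * o) (zz u (β + γ)) := by
      have := T.C_zz ho.1 (β + γ)
      exact Commute.mul_left this this
    calc (y * zz u b) ^ 4 = ((y * zz u b) * (y * zz u b)) ^ 2 := by rw [← pow_two, ← pow_mul]
      _ = (o * o * zz u (β + γ)) ^ 2 := by rw [h9, e1]
      _ = (o * o) ^ 2 := by rw [e2.mul_pow, pow_two (zz u (β + γ)), zz_sq (fix_add hβ hγ), mul_one]
      _ = o ^ 4 := by rw [← pow_two, ← pow_mul]
  obtain ⟨k, hk⟩ := hk
  have h11 : (y * zz u b) ^ 2 ^ (k + 1) = 1 := by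
    have e1 : Commute y (zz u b) := comm_zz_of hy b
    rw [e1.mul_pow, pow_succ, pow_mul, hk, one_pow, one_mul, mul_comm, pow_mul, pow_two, zz_sq hb, one_pow]
  have h12 : o ∈ Q := by
    apply ho.mem_Q T (k := k + 3)
    calc o ^ 2 ^ (k + 3) = (o ^ 4) ^ 2 ^ (k + 1) := by rw [← pow_mul]; congr 1; ring
      _ = ((y * zz u b) ^ 2 ^ (k + 1)) ^ 4 := by rw [← h10, ← pow_mul, ← pow_mul, mul_comm]
      _ = 1 := by rw [h11, one_pow]
  have h13 : y = t * o * zz u b := by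
    rw [← hyt, mul_assoc, zz_sq hb, mul_one]
  rw [h13]
  exact mul_mem (mul_mem ht (Q_T1 T H h12)) (zz_T1 T H b)

theorem f_mul {r r' : G} (hr : r ∈ Q) (hr' : r' ∈ Q) : f (r * r') = f r + f r' := by
  have h1 := H.f_fix r hr
  have h2 := H.f_fix r' hr'
  have h3 := H.f_fix (r * r') (mul_mem hr hr')
  have h4 := mul_mem (H.graph r hr) (H.graph r' hr')
  have h5 := H.graph (r * r') (mul_mem hr hr')
  have h6 : zz u (f (r * r') + (f r + f r')) ∈ cj g Q := by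
    have e1 : r * zz u (f r) * (r' * zz u (f r')) = r * r' * zz u (f r + f r') := by
      rw [zz_add h1 h2]
      calc r * zz u (f r) * (r' * zz u (f r')) = r * (zz u (f r) * r') * zz u (f r') := by group
        _ = _ := by rw [← T.Q_zz hr']; group
    rw [e1] at h4
    have h7 := mul_mem (inv_mem h5) h4
    have e2 : (r * r' * zz u (f (r * r')))⁻¹ * (r * r' * zz u (f r + f r')) =
        zz u (f (r * r') + (f r + f r')) := by
      rw [zz_add h3 (fix_add h1 h2), mul_inv_rev, zz_inv h3]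
      group
    rwa [e2] at h7
  have h7 : g⁻¹ * zz u (f (r * r') + (f r + f r')) * g = 1 := by
    have h8 := mem_cj.mp h6
    have h9 : zz u (f (r * r') + (f r + f r')) ∈ cj g u.range := by
      rw [H.range]; exact T.zz_range _
    obtain ⟨x, hx⟩ := mem_cj.mp h9
    apply T.KC _ _ (T.syl.le h8)
    rw [← hx]
    exact T.uK x
  have h8 : zz u (f (r * r') + (f r + f r')) = 1 := by
    calc zz u (f (r * r') + (f r + f r')) = g * (g⁻¹ * zz u (f (r * r') + (f r + f r')) * g) * g⁻¹ := by group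
      _ = 1 := by rw [h7]; group
  exact CharTwo.add_eq_zero.mp (T.zz_inj (fix_add h3 (fix_add h1 h2)) h8)

end

/-- **PIECE T.** -/
theorem exists_tout [Finite G] {K Q : Subgroup G} (X : Uni K σ n)
    (hdig : ∀ (Y : Uni K σ n) (g : G), g ∉ normalizer (K : Set G) →
      Y.p.S ≤ centralizer ((cj g K : Subgroup G) : Set G) → cj g Y.p.S ≤ centralizer (K : Set G) → False)
    (hQ : IsSyl Q (centralizer (K : Set G))) {x : G} (hx : x ∉ normalizer (K : Set G))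
    (hc : ∀ r ∈ Q, ∀ w ∈ cj x Q, r * w = w * r) :
    ∃ X' : Uni K σ n, ∃ t : MkDefs.TOut X'.p, t.Q = Q := by
  obtain ⟨k, hk, y, hy, -, hS, hyQ, -, hgr, -⟩ := CommonTD.pair_common_of X hdig hQ hx hc
  set X' : Uni K σ n := Fr.uinn X ⟨k, hk⟩ with hX'
  have hXS : X'.p.S = cj k X.p.S := Fr.inn_S X.p ⟨k, hk⟩
  have hXZ : X'.p.Z = cj k X.p.Z := Fr.inn_Z X.p ⟨k, hk⟩
  have T := TInst.td_of X' hdig hQ hx hc
  have hzz : ∀ b, MkDefs.zz X'.p b = zz X'.p.u b := fun b => rfl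
  have hbar : ∀ b : F, Cfsg.Agent.StdU3.Field.bar n b = b ↔ σ b = b := fun b => by rw [X'.p.hS.eq]
  have hmZ : ∀ z, z ∈ X'.p.Z ↔ ∃ b, σ b = b ∧ z = zz X'.p.u b := by
    intro z
    rw [Par.mem_Z]
    constructor
    · rintro ⟨z', h1, rfl⟩
      exact ⟨z'.b, b_fixed_of_a_eq_zero h1, u_of_a h1⟩
    · rintro ⟨b, hb, rfl⟩
      exact ⟨zet b hb, rfl, zz_pos hb⟩
  have hf : ∀ r ∈ Q, ∃ b, σ b = b ∧ r * zz X'.p.u b ∈ cj y Q := by
    intro r hr
    obtain ⟨z, hz, h1⟩ := hgr r hr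
    rw [← hXZ, hmZ] at hz
    obtain ⟨b, hb, rfl⟩ := hz
    exact ⟨b, hb, by rw [hyQ]; exact h1⟩
  choose! f hf1 hf2 using hf
  have H : TG X'.p.u (normalizer (K : Set G)) Q y f := by
    refine ⟨hy, ?_, hf1, hf2⟩
    show cj y X'.p.S = X'.p.S
    rw [hXS, hS]
  obtain ⟨l, hl, hl1⟩ := Cfsg.Agent.StdU3.Field.exists_fixed_ne T.hS.hq
  have hne : nm σ l + 1 ≠ 0 := by
    intro h
    apply hl1
    rw [← T.hS.eq] at hl
    rw [nm_of_fixed σ hl] at h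
    have h3 : ((l : F) + 1) ^ 2 = 0 := by
      rw [CharTwo.add_sq, one_pow]; exact h
    exact CharTwo.add_eq_zero.mp (pow_eq_zero_iff (two_ne_zero) |>.mp h3)
  obtain ⟨kap, hkap, hsq⟩ := exists_kap T H hne
  obtain ⟨r₀, hr₀, hr₀1⟩ := T.ne
  have hρ := f_ne T H hr₀ hr₀1
  have hρf := H.f_fix r₀ hr₀
  have hdec : ∀ w ∈ T1 T H, ∃ e ∈ E1 T H l, ∃ r ∈ Q, w = e * r := fun w hw => T1_dec T H hne hw
  refine ⟨X', {
    Q := Q
    E := E1 T H l
    c := fun e => f r₀ * ch X'.p.u Q f e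
    f := fun r => (f r₀)⁻¹ * f r
    kap := kap * (f r₀)⁻¹
    sylQ := hQ
    Q_sq := T.sq
    Z_le := ?_
    E_S := ?_
    E_comm := fun e he e' he' => E1_comm T H hne he he'
    c_mul := ?_
    c_fix := ?_
    c_surj := ?_
    c_ker := ?_
    c_Z := ?_
    f_mul := ?_
    f_fix := ?_
    f_inj := ?_
    f_one := ⟨r₀, hr₀, inv_mul_cancel₀ hρ⟩
    kap_fix := (hbar _).mpr (fix_mul hkap (fix_inv hρf))
    conj := ?_
    sq := ?_
    d_E := ?_
    d_comm := ?_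
    mem := ?mem
    memb := ?memb }, rfl⟩
  · intro z hz
    obtain ⟨b, hb, rfl⟩ := (hmZ z).mp hz
    exact zz_E1 T H l b
  · rintro e he s ⟨s', rfl⟩
    exact (E1_le T H l he).1.1 s'
  · intro e he e' he'
    show f r₀ * ch X'.p.u Q f (e * e') = f r₀ * ch X'.p.u Q f e + f r₀ * ch X'.p.u Q f e'
    rw [ch_mul T H (E1_le T H l he).1 (E1_le T H l he').1, mul_add]
  · intro e he
    exact (hbar _).mpr (fix_mul hρf (ch_spec T H (E1_le T H l he).1).1)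
  · intro b hb
    have hb' := (hbar b).mp hb
    obtain ⟨e, he, h1⟩ := E1_surj T H hne (c := (f r₀)⁻¹ * b) (fix_mul (fix_inv hρf) hb')
    refine ⟨e, he, ?_⟩
    show f r₀ * ch X'.p.u Q f e = b
    rw [h1, ← mul_assoc, mul_inv_cancel₀ hρ, one_mul]
  · intro e he h
    exact (hmZ e).mpr (E1_ker T H hne he ((mul_eq_zero.mp h).resolve_left hρ))
  · intro z hz
    obtain ⟨b, hb, rfl⟩ := (hmZ z).mp hz
    show f r₀ * ch X'.p.u Q f (zz X'.p.u b) = 0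
    rw [ch_zz T H, mul_zero]
  · intro r hr r' hr'
    show (f r₀)⁻¹ * f (r * r') = (f r₀)⁻¹ * f r + (f r₀)⁻¹ * f r'
    rw [f_mul T H hr hr', mul_add]
  · intro r hr
    exact (hbar _).mpr (fix_mul (fix_inv hρf) (H.f_fix r hr))
  · intro r hr h
    by_contra h1
    rcases mul_eq_zero.mp h with h2 | h2
    · exact hρ (inv_eq_zero.mp h2)
    · exact f_ne T H hr h1 h2
  · intro e he r hr
    rw [hzz]
    show e * r * e⁻¹ = r * zz X'.p.u (f r₀ * ch X'.p.u Q f e * ((f r₀)⁻¹ * f r))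
    rw [(ch_spec T H (E1_le T H l he).1).2 r hr]
    congr 2
    field_simp
  · intro e he
    rw [hzz]
    show e * e = zz X'.p.u (kap * (f r₀)⁻¹ * (f r₀ * ch X'.p.u Q f e))
    rw [hsq e he]
    congr 1
    field_simp
  · intro m e he
    refine ⟨d_E1 T H l m he, ?_⟩
    show f r₀ * ch X'.p.u Q f (X'.p.d m * e * (X'.p.d m)⁻¹) = _ * (f r₀ * ch X'.p.u Q f e)
    rw [ch_d T H m (E1_le T H l he).1]
    unfold nm
    rw [Cfsg.Agent.StdU3.Field.N_def, X'.p.hS.eq]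
    ring
  · intro m hm e he
    apply d_comm T H _ (E1_le T H l he)
    unfold nm
    rw [X'.p.hS.eq]
    exact hm
  case mem =>
    intro w hk hw hwQ
    apply hdec
    apply mem_of T H hk (fun s => hw _ ⟨s, rfl⟩)
    intro r hr
    obtain ⟨z, hz, h1⟩ := hwQ r hr
    obtain ⟨b, hb, rfl⟩ := (hmZ z).mp hz
    exact ⟨b, hb, h1⟩
  case memb =>
    intro w hw
    obtain ⟨c, hc, h⟩ := memb T H (x := w) (by
      rintro _ ⟨r, hr, rfl⟩
      obtain ⟨r', hr', z, hz, h1⟩ := hw r hr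
      obtain ⟨b, hb, rfl⟩ := (hmZ z).mp hz
      exact ⟨r', hr', b, hb, h1⟩)
    refine ⟨c * f r₀, (hbar _).mpr (fix_mul hc hρf), ?_⟩
    intro r hr
    rw [hzz]
    have h1 : c * f r₀ * ((f r₀)⁻¹ * f r) = c * f r := by field_simp
    rw [h1]
    exact h r hr

end Cfsg.Agent.OddHalf.D4.U3.TEnd

end
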